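import Groth.Agent.RGammaI.Basic
import Groth.Agent.LC.CohAcyclic
import Mathlib.Algebra.Category.ModuleCat.EnoughInjectives

/-! Complexes of injective modules compute the derived torsion functor over a Noetherian ring. -/

set_option linter.style.haveILetI false

universe u

open CategoryTheory CategoryTheory.Limits CategoryTheory.Pretriangulated

attribute [local instance] HasDerivedCategory.standard

namespace Groth.Agent.RGammaI

variable {A : Type u} [CommRing A]

/-- Every term is injective. -/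
def InjTerms (X : DRing.Cx A) : Prop := ∀ n, Module.Injective A (X.X n)

/-- Every term is divisible in the sense of `LC.HasDiv`: these terms are acyclic for every `Γ_I`. -/
def DivTerms (X : DRing.Cx A) : Prop := ∀ n, LC.HasDiv A (X.X n)

lemma InjTerms.div [IsNoetherianRing A] {X : DRing.Cx A} (hX : InjTerms X) : DivTerms X := fun n => by
  haveI := hX n
  exact LC.hasDiv_of_injective (X.X n)

/-- `Γ_I` on complexes. -/
noncomputable abbrev Γc (I : Ideal A) : DRing.Cx A ⥤ DRing.Cx A :=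
  (DRing.gammaI I).mapHomologicalComplex (ComplexShape.up ℤ)

/-- `Γ_I X ⟶ X`. -/
noncomputable abbrev ιc (I : Ideal A) (X : DRing.Cx A) : (Γc I).obj X ⟶ X where
  f n := (DRing.gammaIι I).app (X.X n)
  comm' i j _ := ((DRing.gammaIι I).naturality (X.d i j)).symm

@[reassoc]
lemma ιc_naturality (I : Ideal A) {X Y : DRing.Cx A} (α : X ⟶ Y) :
    (Γc I).map α ≫ ιc I Y = ιc I X ≫ α :=
  HomologicalComplex.hom_ext _ _ fun n => (DRing.gammaIι I).naturality (α.f n)

lemma injTerms_gamma [IsNoetherianRing A] (I : Ideal A) {X : DRing.Cx A} (hX : InjTerms X) :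
    InjTerms ((Γc I).obj X) := fun n => by
  haveI := hX n
  change Module.Injective A ↥(DRing.torsionSub I (X.X n))
  rw [LC.torsionSub_eq_iSup]
  exact LC.injective_torsion I

lemma divTerms_gamma (I : Ideal A) {X : DRing.Cx A} (hX : DivTerms X) :
    DivTerms ((Γc I).obj X) := fun n => by
  change LC.HasDiv A ↥(DRing.torsionSub I (X.X n))
  intro a b x hx m
  obtain ⟨k, hk⟩ := hx
  obtain ⟨j, hj⟩ := x.2
  have hxs : (x : X.X n) ∈ DRing.torsionSub (a ⊔ I) (X.X n) := by
    refine ⟨k + j, fun c hc => ?_⟩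
    obtain ⟨c₁, hc₁, c₂, hc₂, rfl⟩ := Submodule.mem_sup.1 (Ideal.sup_pow_add_le_pow_sup_pow hc)
    have h1 : c₁ • (x : X.X n) = 0 := congrArg Subtype.val (hk c₁ hc₁)
    rw [add_smul, h1, hj c₂ hc₂, add_zero]
  obtain ⟨w, ⟨r, hr⟩, t, ht⟩ := hX n (a ⊔ I) b x.1 hxs m
  exact ⟨⟨w, r, fun c hc => hr c (Ideal.pow_right_mono le_sup_right r hc)⟩,
    ⟨r, fun c hc => Subtype.ext (hr c (Ideal.pow_right_mono le_sup_left r hc))⟩, t, Subtype.ext ht⟩

lemma mem_torsionSub_span_singleton (f : A) {M : Type u} [AddCommGroup M] [Module A M] (x : M) :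
    x ∈ DRing.torsionSub (Ideal.span {f}) M ↔ ∃ k : ℕ, f ^ k • x = 0 := by
  refine ⟨fun ⟨n, hn⟩ => ⟨n, hn (f ^ n) (Ideal.pow_mem_pow (Ideal.mem_span_singleton_self f) n)⟩,
    fun ⟨k, hk⟩ => ⟨k, ?_⟩⟩
  intro a ha
  rw [Ideal.span_singleton_pow, Ideal.mem_span_singleton'] at ha
  obtain ⟨r, rfl⟩ := ha
  rw [mul_smul, hk, smul_zero]

/-- `Γ_f X → X → X_f`. -/
noncomputable def locSeq (f : A) (X : DRing.Cx A) : ShortComplex (DRing.Cx A) :=
  ShortComplex.mk (ιc (Ideal.span {f}) X)
    ({ f := fun n => (LC.locNat f).app (X.X n)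
       comm' := fun i j _ => ((LC.locNat f).naturality (X.d i j)).symm } :
      X ⟶ ((LC.locF f).mapHomologicalComplex (ComplexShape.up ℤ)).obj X)
    (HomologicalComplex.hom_ext _ _ fun n => ModuleCat.hom_ext (LinearMap.ext fun x => by
      obtain ⟨k, hk⟩ := (mem_torsionSub_span_singleton f _).1 x.2
      exact (IsLocalizedModule.eq_zero_iff (Submonoid.powers f)
        (LocalizedModule.mkLinearMap (Submonoid.powers f) (X.X n))).2 ⟨⟨_, k, rfl⟩, hk⟩))

/-- `locSeq` is functorial. -/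
noncomputable def locSeqMap (f : A) {X Y : DRing.Cx A} (α : X ⟶ Y) : locSeq f X ⟶ locSeq f Y where
  τ₁ := (Γc (Ideal.span {f})).map α
  τ₂ := α
  τ₃ := ((LC.locF f).mapHomologicalComplex (ComplexShape.up ℤ)).map α
  comm₁₂ := ιc_naturality _ α
  comm₂₃ := HomologicalComplex.hom_ext _ _ fun n => (LC.locNat f).naturality (α.f n)

lemma shortExact_locSeq [IsNoetherianRing A] (f : A) {X : DRing.Cx A} (hX : DivTerms X) :
    (locSeq f X).ShortExact :=
  HomologicalComplex.shortExact_of_degreewise_shortExact _ fun n =>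
    { exact := by
        rw [ShortComplex.moduleCat_exact_iff]
        intro x hx
        obtain ⟨⟨_, k, rfl⟩, hk⟩ := (IsLocalizedModule.eq_zero_iff (Submonoid.powers f)
          (LocalizedModule.mkLinearMap (Submonoid.powers f) (X.X n))).1 hx
        exact ⟨⟨x, (mem_torsionSub_span_singleton f _).2 ⟨k, hk⟩⟩, rfl⟩
      mono_f := (ModuleCat.mono_iff_injective _).2 Subtype.val_injective
      epi_g := (ModuleCat.epi_iff_surjective _).2 (fun z => by
        obtain ⟨w, -, hw⟩ := LC.exists_lift_of_hasDiv (hX n) ⊥ f (z := z) ⟨1, fun c hc => by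
          rw [pow_one, Submodule.mem_bot] at hc
          rw [hc, zero_smul]⟩
        exact ⟨w, hw⟩) }

lemma quasiIso_locF_map (f : A) {X Y : DRing.Cx A} (α : X ⟶ Y) [QuasiIso α] :
    QuasiIso (((LC.locF f).mapHomologicalComplex (ComplexShape.up ℤ)).map α) := inferInstance

lemma quasiIso_gamma_singleton [IsNoetherianRing A] (f : A) {X Y : DRing.Cx A} (hX : DivTerms X)
    (hY : DivTerms Y) (α : X ⟶ Y) [QuasiIso α] : QuasiIso ((Γc (Ideal.span {f})).map α) := by
  rw [← DerivedCategory.isIso_Q_map_iff_quasiIso]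
  haveI := quasiIso_locF_map f α
  exact isIso₁_of_isIso₂₃ (DerivedCategory.triangleOfSES.map (shortExact_locSeq f hX)
      (shortExact_locSeq f hY) (locSeqMap f α))
    (DerivedCategory.triangleOfSES_distinguished _) (DerivedCategory.triangleOfSES_distinguished _)
    ((DerivedCategory.isIso_Q_map_iff_quasiIso _ _).2 (by assumption))
    ((DerivedCategory.isIso_Q_map_iff_quasiIso _ _).2 (by assumption))

lemma isZero_Q_of_acyclic (X : DRing.Cx A) (h : ∀ n, IsZero (X.homology n)) :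
    IsZero (DerivedCategory.Q.obj X) := by
  haveI : QuasiIso (0 : X ⟶ X) := ⟨fun n => by
    rw [quasiIsoAt_iff_isIso_homologyMap]
    exact ⟨0, (h n).eq_of_src _ _, (h n).eq_of_src _ _⟩⟩
  haveI : IsIso (DerivedCategory.Q.map (0 : X ⟶ X)) :=
    (DerivedCategory.isIso_Q_map_iff_quasiIso _ _).2 inferInstance
  rw [IsZero.iff_id_eq_zero, ← cancel_epi (DerivedCategory.Q.map (0 : X ⟶ X))]
  simp

lemma isZero_locF_homology (f : A) (X : DRing.Cx A) (n : ℤ)
    (h : LocCoh.IsPowerTorsion (Ideal.span {f}) (X.homology n)) :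
    IsZero ((((LC.locF f).mapHomologicalComplex (ComplexShape.up ℤ)).obj X).homology n) := by
  refine IsZero.of_iso ?_ ((X.sc n).mapHomologyIso (LC.locF f))
  haveI : Subsingleton ((LC.locF f).obj (X.homology n)) := ⟨fun a b => by
    obtain ⟨⟨x, s⟩, hs⟩ := IsLocalizedModule.surj (Submonoid.powers f)
      (LocalizedModule.mkLinearMap (Submonoid.powers f) (X.homology n)) (a - b)
    obtain ⟨k, hk⟩ := (mem_torsionSub_span_singleton f x).1 (h x)
    have hz : LocalizedModule.mkLinearMap (Submonoid.powers f) (X.homology n) x = 0 :=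
      (IsLocalizedModule.eq_zero_iff (Submonoid.powers f) _).2 ⟨⟨_, k, rfl⟩, hk⟩
    rw [hz] at hs
    refine sub_eq_zero.1 (((Module.End.isUnit_iff _).1 (IsLocalizedModule.map_units
      (LocalizedModule.mkLinearMap (Submonoid.powers f) (X.homology n)) s)).1 ?_)
    exact hs.trans (map_zero _).symm⟩
  exact (ModuleCat.isZero_of_subsingleton ((LC.locF f).obj (X.homology n)))

lemma quasiIso_ι_singleton [IsNoetherianRing A] (f : A) {X : DRing.Cx A} (hX : DivTerms X)
    (h : ∀ n, LocCoh.IsPowerTorsion (Ideal.span {f}) (X.homology n)) :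
    QuasiIso (ιc (Ideal.span {f}) X) := by
  rw [← DerivedCategory.isIso_Q_map_iff_quasiIso]
  exact (Triangle.isZero₃_iff_isIso₁ _ (DerivedCategory.triangleOfSES_distinguished
    (shortExact_locSeq f hX))).1 (isZero_Q_of_acyclic _ fun n => isZero_locF_homology f X n (h n))

lemma torsionSub_sup_iff (I J : Ideal A) {M : Type u} [AddCommGroup M] [Module A M] (x : M) :
    x ∈ DRing.torsionSub (I ⊔ J) M ↔ x ∈ DRing.torsionSub I M ∧ x ∈ DRing.torsionSub J M := by
  refine ⟨fun ⟨n, hn⟩ => ⟨⟨n, fun a ha => hn a (Ideal.pow_right_mono le_sup_left n ha)⟩,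
    ⟨n, fun a ha => hn a (Ideal.pow_right_mono le_sup_right n ha)⟩⟩, ?_⟩
  rintro ⟨⟨n, hn⟩, m, hm⟩
  refine ⟨n + m, fun a ha => ?_⟩
  obtain ⟨b, hb, c, hc, rfl⟩ := Submodule.mem_sup.1 (Ideal.sup_pow_add_le_pow_sup_pow ha)
  rw [add_smul, hn b hb, hm c hc, add_zero]

/-- `Γ_J Γ_I = Γ_(I + J)`. -/
noncomputable def gammaSupIso (I J : Ideal A) :
    DRing.gammaI I ⋙ DRing.gammaI J ≅ DRing.gammaI (I ⊔ J) :=
  NatIso.ofComponents (fun M => LinearEquiv.toModuleIso
    { toFun := fun x => ⟨x.1.1, (torsionSub_sup_iff I J _).2 ⟨x.1.2, x.2.imp fun _ hn a ha =>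
        congrArg Subtype.val (hn a ha)⟩⟩
      invFun := fun x => ⟨⟨x.1, ((torsionSub_sup_iff I J _).1 x.2).1⟩,
        ((torsionSub_sup_iff I J _).1 x.2).2.imp fun _ hn a ha => Subtype.ext (hn a ha)⟩
      map_add' := fun _ _ => rfl
      map_smul' := fun _ _ => rfl
      left_inv := fun _ => rfl
      right_inv := fun _ => rfl }) (fun _ => rfl)

/-- `Γ_J Γ_I = Γ_(I + J)` on complexes. -/
noncomputable def ΓcSupIso (I J : Ideal A) : Γc I ⋙ Γc J ≅ Γc (I ⊔ J) :=
  NatIso.ofComponents (fun X => HomologicalComplex.Hom.isoOfComponents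
      (fun n => (gammaSupIso I J).app (X.X n)) (fun i j _ => ((gammaSupIso I J).hom.naturality (X.d i j)).symm))
    (fun α => HomologicalComplex.hom_ext _ _ fun n => (gammaSupIso I J).hom.naturality (α.f n))

lemma ΓcSupIso_ι (I J : Ideal A) (X : DRing.Cx A) :
    (ΓcSupIso I J).hom.app X ≫ ιc (I ⊔ J) X = ιc J ((Γc I).obj X) ≫ ιc I X :=
  HomologicalComplex.hom_ext _ _ fun _ => rfl

lemma torsionSub_bot (M : Type u) [AddCommGroup M] [Module A M] (x : M) :
    x ∈ DRing.torsionSub (⊥ : Ideal A) M :=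
  ⟨1, fun a ha => by rw [pow_one, Submodule.mem_bot] at ha; rw [ha, zero_smul]⟩

lemma isIso_ι_bot (X : DRing.Cx A) : IsIso (ιc (⊥ : Ideal A) X) := by
  haveI : ∀ n, IsIso ((ιc (⊥ : Ideal A) X).f n) := fun n => by
    rw [ConcreteCategory.isIso_iff_bijective]
    exact ⟨Subtype.val_injective, fun x => ⟨⟨x, torsionSub_bot _ x⟩, rfl⟩⟩
  exact HomologicalComplex.Hom.isIso_of_components _

lemma isPowerTorsion_mono {I J : Ideal A} (hJ : J ≤ I) {M : Type u} [AddCommGroup M] [Module A M]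
    (h : LocCoh.IsPowerTorsion I M) : LocCoh.IsPowerTorsion J M :=
  fun m => (h m).imp fun n hn a ha => hn a (Ideal.pow_right_mono hJ n ha)

lemma isPowerTorsion_of_equiv {I : Ideal A} {M N : Type u} [AddCommGroup M] [Module A M]
    [AddCommGroup N] [Module A N] (e : M ≃ₗ[A] N) (h : LocCoh.IsPowerTorsion I M) :
    LocCoh.IsPowerTorsion I N :=
  fun m => (h (e.symm m)).imp fun n hn a ha => e.symm.injective (by rw [map_smul, hn a ha, map_zero])

theorem bothDiv [IsNoetherianRing A] (I : Ideal A) :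
    (∀ {X Y : DRing.Cx A} (_ : DivTerms X) (_ : DivTerms Y) (α : X ⟶ Y) [QuasiIso α],
      QuasiIso ((Γc I).map α)) ∧
    (∀ {X : DRing.Cx A} (_ : DivTerms X), (∀ n, LocCoh.IsPowerTorsion I (X.homology n)) →
      QuasiIso (ιc I X)) := by
  obtain ⟨s, hs⟩ := IsNoetherian.noetherian I
  subst hs
  classical
  induction s using Finset.induction with
  | empty =>
    rw [Finset.coe_empty, Submodule.span_empty]
    refine ⟨fun {X Y} _ _ α _ => ?_, fun {X} _ _ => ?_⟩
    · haveI := isIso_ι_bot X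
      haveI := isIso_ι_bot Y
      rw [show (Γc (⊥ : Ideal A)).map α = ιc ⊥ X ≫ α ≫ inv (ιc ⊥ Y) by
        rw [← Category.assoc, ← ιc_naturality, Category.assoc, IsIso.hom_inv_id, Category.comp_id]]
      infer_instance
    · haveI := isIso_ι_bot X
      infer_instance
  | insert b s hb ih =>
    obtain ⟨ih₁, ih₂⟩ := ih
    have hsup : Submodule.span A (↑(insert b s) : Set A) = Submodule.span A (s : Set A) ⊔ Ideal.span {b} := by
      rw [Finset.coe_insert, Submodule.span_insert, sup_comm]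
    rw [hsup]
    set a : Ideal A := Submodule.span A (s : Set A)
    refine ⟨fun {X Y} hX hY α _ => ?_, fun {X} hX h => ?_⟩
    · haveI := ih₁ hX hY α
      haveI := quasiIso_gamma_singleton b (divTerms_gamma a hX) (divTerms_gamma a hY) ((Γc a).map α)
      rw [show (Γc (a ⊔ Ideal.span {b})).map α = (ΓcSupIso a (Ideal.span {b})).inv.app X ≫
          (Γc (Ideal.span {b})).map ((Γc a).map α) ≫ (ΓcSupIso a (Ideal.span {b})).hom.app Y by
        exact ((NatIso.naturality_1 (ΓcSupIso a (Ideal.span {b})) α)).symm]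
      infer_instance
    · haveI := ih₂ hX fun n => isPowerTorsion_mono le_sup_left (h n)
      haveI := quasiIso_ι_singleton b (divTerms_gamma a hX) fun n =>
        isPowerTorsion_of_equiv (isoOfQuasiIsoAt (ιc a X) n).toLinearEquiv.symm
          (isPowerTorsion_mono le_sup_right (h n))
      rw [show ιc (a ⊔ Ideal.span {b}) X = (ΓcSupIso a (Ideal.span {b})).inv.app X ≫
          ιc (Ideal.span {b}) ((Γc a).obj X) ≫ ιc a X by
        rw [← ΓcSupIso_ι, Iso.inv_hom_id_app_assoc]]
      infer_instance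

theorem both [IsNoetherianRing A] (I : Ideal A) :
    (∀ {X Y : DRing.Cx A} (_ : InjTerms X) (_ : InjTerms Y) (α : X ⟶ Y) [QuasiIso α],
      QuasiIso ((Γc I).map α)) ∧
    (∀ {X : DRing.Cx A} (_ : InjTerms X), (∀ n, LocCoh.IsPowerTorsion I (X.homology n)) →
      QuasiIso (ιc I X)) :=
  ⟨fun hX hY α _ => (bothDiv I).1 hX.div hY.div α, fun hX h => (bothDiv I).2 hX.div h⟩

end Groth.Agent.RGammaI
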