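import Groth.Agent.RGammaI.Basic
import Groth.Agent.RGammaI.Injective
import Groth.Prelude.Def_DualLC
import Groth.Agent.LC.CohDerived
import Mathlib.Algebra.Homology.SingleHomology

/-! The cohomology of `RΓ_I` is the colimit of `Hom(A/I^n, -)` in the derived category. -/

set_option linter.style.haveILetI false
set_option maxHeartbeats 1000000

universe u

open CategoryTheory CategoryTheory.Limits Opposite

attribute [local instance] HasDerivedCategory.standard

namespace Groth.Agent.RGammaI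

variable {A : Type u} [CommRing A]

section Class

variable (C : DRing.Cx A) (i : ℤ)

/-- Cycles as a kernel. -/
noncomputable def zcyclesEquiv : C.cycles i ≃ₗ[A] LinearMap.ker (C.d i (i + 1)).hom :=
  (LinearEquiv.ofInjective _ ((ModuleCat.mono_iff_injective (C.iCycles i)).1 inferInstance)).trans
    (LinearEquiv.ofEq _ _
      ((ShortComplex.ShortExact.moduleCat_exact_iff_function_exact (ShortComplex.mk _ _ (C.iCycles_d i (i + 1)))).1
        (ShortComplex.exact_of_f_is_kernel _ (C.cyclesIsKernel i (i + 1) (by simp)))).linearMap_ker_eq.symm)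

/-- The class of a cycle. -/
noncomputable def zcl : LinearMap.ker (C.d i (i + 1)).hom →ₗ[A] C.homology i :=
  (C.homologyπ i).hom ∘ₗ (zcyclesEquiv C i).symm.toLinearMap

lemma zcl_surjective : Function.Surjective (zcl C i) :=
  ((ModuleCat.epi_iff_surjective (C.homologyπ i)).1 inferInstance).comp (zcyclesEquiv C i).symm.surjective

lemma zcl_eq_zero_iff (z : LinearMap.ker (C.d i (i + 1)).hom) :
    zcl C i z = 0 ↔ ∃ y, (C.d (i - 1) i).hom y = (z : C.X i) := by
  have hex : Function.Exact (C.toCycles (i - 1) i).hom (C.homologyπ i).hom :=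
    (ShortComplex.ShortExact.moduleCat_exact_iff_function_exact (ShortComplex.mk _ _ (C.toCycles_comp_homologyπ _ i))).1
      (ShortComplex.exact_of_g_is_cokernel _ (C.homologyIsCokernel _ i (by simp)))
  show (C.homologyπ i).hom ((zcyclesEquiv C i).symm z) = 0 ↔ _
  rw [hex]
  refine exists_congr fun y => ?_
  rw [LinearEquiv.eq_symm_apply, Subtype.ext_iff]
  change (C.iCycles i).hom _ = _ ↔ _
  rw [show (C.iCycles i).hom ((C.toCycles (i - 1) i).hom y) = _ from
    ConcreteCategory.congr_hom (C.toCycles_i (i - 1) i) y]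

end Class

variable (I : Ideal A) (J : DRing.Cx A)

/-- `A/I^n` in degree zero. -/
noncomputable abbrev S (n : ℕ) : DRing.Cx A := (HomologicalComplex.single (ModuleCat.{u} A) (ComplexShape.up ℤ) 0).obj (LC.qObj I n)

/-- Degree zero cycles killed by `I^n`. -/
def Cn (n : ℕ) : Submodule A (J.X 0) where
  carrier := {x | (J.d 0 1).hom x = 0 ∧ ∀ a ∈ I ^ n, a • x = 0}
  zero_mem' := ⟨map_zero _, fun _ _ => smul_zero _⟩
  add_mem' hx hy := ⟨by rw [map_add, hx.1, hy.1, add_zero], fun a ha => by rw [smul_add, hx.2 a ha, hy.2 a ha, add_zero]⟩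
  smul_mem' c x hx := ⟨by rw [map_smul, hx.1, smul_zero], fun a ha => by rw [smul_comm, hx.2 a ha, smul_zero]⟩

/-- The morphism defined by a cycle killed by `I^n`. -/
noncomputable def gx (n : ℕ) (x : Cn I J n) : S I n ⟶ J :=
  HomologicalComplex.mkHomFromSingle (LC.homOfElt I n x.1 x.2.2) fun j hj => by
    change (0 : ℤ) + 1 = j at hj
    subst hj
    refine LC.qObj_hom_ext I ?_
    change (J.d 0 (0 + 1)).hom ((LC.homOfElt I n x.1 x.2.2).hom _) = 0
    rw [LC.homOfElt_one]
    exact x.2.1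

/-- The value at `1`. -/
noncomputable def ev (n : ℕ) (g : S I n ⟶ J) : J.X 0 :=
  (g.f 0).hom ((HomologicalComplex.singleObjXSelf (ComplexShape.up ℤ) (0 : ℤ) (LC.qObj I n)).inv.hom (Ideal.Quotient.mk (I ^ n) 1))

lemma ev_gx (n : ℕ) (x : Cn I J n) : ev I J n (gx I J n x) = x.1 := by
  unfold ev gx
  rw [HomologicalComplex.mkHomFromSingle_f]
  exact (congrArg (LC.homOfElt I n x.1 x.2.2).hom
    (ConcreteCategory.congr_hom (HomologicalComplex.singleObjXSelf (ComplexShape.up ℤ) (0 : ℤ)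
      (LC.qObj I n)).inv_hom_id (Ideal.Quotient.mk (I ^ n) 1 : LC.qObj I n))).trans
        (LC.homOfElt_one I n x.1 x.2.2)

lemma hom_ext {n : ℕ} {g g' : S I n ⟶ J} (h : ev I J n g = ev I J n g') : g = g' := by
  refine HomologicalComplex.from_single_hom_ext ?_
  rw [← cancel_epi (HomologicalComplex.singleObjXSelf (ComplexShape.up ℤ) (0 : ℤ) (LC.qObj I n)).inv]
  exact LC.qObj_hom_ext I h

lemma ev_mem (n : ℕ) (g : S I n ⟶ J) : ev I J n g ∈ Cn I J n := by
  let g' : LC.qObj I n ⟶ J.X 0 :=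
    (HomologicalComplex.singleObjXSelf (ComplexShape.up ℤ) (0 : ℤ) (LC.qObj I n)).inv ≫ g.f 0
  refine ⟨?_, LC.killed I g'⟩
  have h : g' ≫ J.d 0 1 = 0 := by
    rw [Category.assoc, g.comm, HomologicalComplex.single_obj_d, zero_comp, comp_zero]
  exact ConcreteCategory.congr_hom h _

lemma exists_gx (n : ℕ) (g : S I n ⟶ J) : gx I J n ⟨ev I J n g, ev_mem I J n g⟩ = g :=
  hom_ext I J (ev_gx I J n _)

/-- `gx` as a linear map. -/
noncomputable def gL (n : ℕ) : Cn I J n →ₗ[A] (S I n ⟶ J) where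
  toFun := gx I J n
  map_add' x y := hom_ext I J (by
    change _ = ((gx I J n x).f 0 + (gx I J n y).f 0).hom _
    exact (ev_gx I J n (x + y)).trans (congrArg₂ (· + ·) (ev_gx I J n x) (ev_gx I J n y)).symm)
  map_smul' c x := hom_ext I J (by
    change _ = (c • (gx I J n x).f 0).hom _
    exact (ev_gx I J n (c • x)).trans (congrArg (c • ·) (ev_gx I J n x)).symm)

/-- The map to morphisms in the derived category. -/
noncomputable def pL (n : ℕ) : Cn I J n →ₗ[A] (DerivedCategory.Q.obj (S I n) ⟶ DerivedCategory.Q.obj J) :=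
  (DerivedCategory.Q.mapLinearMap A).comp (gL I J n)

lemma pL_apply (n : ℕ) (x : Cn I J n) : pL I J n x = DerivedCategory.Q.map (gx I J n x) := rfl

variable [J.IsKInjective]

lemma Qmap_bijective {K : DRing.Cx A} :
    Function.Bijective (fun g : (HomotopyCategory.quotient (ModuleCat.{u} A) (ComplexShape.up ℤ)).obj K ⟶
      (HomotopyCategory.quotient (ModuleCat.{u} A) (ComplexShape.up ℤ)).obj J => DerivedCategory.Qh.map g) :=
  CochainComplex.IsKInjective.Qh_map_bijective _ J

lemma pL_surjective (n : ℕ) : Function.Surjective (pL I J n) := fun φ => by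
  let e := DerivedCategory.quotientCompQhIso (ModuleCat.{u} A)
  obtain ⟨ψ, hψ⟩ := (Qmap_bijective J).2 (e.hom.app (S I n) ≫ φ ≫ e.inv.app J)
  obtain ⟨g, rfl⟩ := (HomotopyCategory.quotient _ _).map_surjective ψ
  refine ⟨⟨ev I J n g, ev_mem I J n g⟩, ?_⟩
  rw [pL_apply, exists_gx]
  have h := e.hom.naturality g
  simp only [Functor.comp_map] at h hψ
  rw [hψ, Category.assoc, Category.assoc, Iso.inv_hom_id_app] at h
  exact (cancel_epi (e.hom.app (S I n))).1 (by simpa using h.symm)

omit [J.IsKInjective] in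
lemma pL_eq_zero {n : ℕ} (x : Cn I J n) (w : J.X (-1)) (hw : (J.d (-1) 0).hom w = x.1)
    (hw' : ∀ a ∈ I ^ n, a • w = 0) : pL I J n x = 0 := by
  let h : ∀ i j, (ComplexShape.up ℤ).Rel j i → ((S I n).X i ⟶ J.X j) := fun i j hji =>
    if hi : i = 0 then
      eqToHom (by subst hi; rfl) ≫ (HomologicalComplex.singleObjXSelf (ComplexShape.up ℤ) (0 : ℤ) (LC.qObj I n)).hom ≫
        LC.homOfElt I n w hw' ≫ eqToHom (by
          change j + 1 = i at hji
          rw [show j = -1 by omega])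
    else 0
  have hrel : (ComplexShape.up ℤ).Rel (-1) 0 := by change (-1 : ℤ) + 1 = 0; omega
  have hrel' : (ComplexShape.up ℤ).Rel 0 1 := rfl
  have e : gx I J n x = Homotopy.nullHomotopicMap' h := by
    refine hom_ext I J ?_
    rw [ev_gx]
    change _ = ((Homotopy.nullHomotopicMap' h).f 0).hom _
    rw [Homotopy.nullHomotopicMap'_f hrel hrel' h, HomologicalComplex.single_obj_d, zero_comp, zero_add]
    simp only [h, dif_pos, eqToHom_refl, Category.id_comp, Category.comp_id]
    rw [ModuleCat.comp_apply, ModuleCat.comp_apply]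
    refine (Eq.trans ?_ hw).symm
    refine congrArg (J.d (-1) 0).hom (Eq.trans ?_ (LC.homOfElt_one I n w hw'))
    exact congrArg (LC.homOfElt I n w hw').hom
      (ConcreteCategory.congr_hom (HomologicalComplex.singleObjXSelf (ComplexShape.up ℤ) (0 : ℤ)
        (LC.qObj I n)).inv_hom_id (Ideal.Quotient.mk (I ^ n) 1 : LC.qObj I n))
  rw [pL_apply, e]
  exact ((DerivedCategory.quotientCompQhIso (ModuleCat.{u} A)).app J |> fun _ => by
    have hq : (HomotopyCategory.quotient _ _).map (Homotopy.nullHomotopicMap' h) =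
        (HomotopyCategory.quotient _ _).map 0 := HomotopyCategory.eq_of_homotopy _ _ (Homotopy.nullHomotopy' h)
    rw [Functor.map_zero] at hq
    have := congrArg DerivedCategory.Qh.map hq
    have hn := (DerivedCategory.quotientCompQhIso (ModuleCat.{u} A)).hom.naturality (Homotopy.nullHomotopicMap' h)
    simp only [Functor.comp_map, this, Functor.map_zero, zero_comp] at hn
    exact ((cancel_epi ((DerivedCategory.quotientCompQhIso (ModuleCat.{u} A)).hom.app (S I n))).1
      (hn.symm.trans comp_zero.symm)))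

lemma exists_boundary {n : ℕ} (x : Cn I J n) (hx : pL I J n x = 0) :
    ∃ w : J.X (-1), (J.d (-1) 0).hom w = x.1 ∧ ∀ a ∈ I ^ n, a • w = 0 := by
  have hn := (DerivedCategory.quotientCompQhIso (ModuleCat.{u} A)).hom.naturality (gx I J n x)
  rw [pL_apply] at hx
  rw [hx, comp_zero] at hn
  have h0 : DerivedCategory.Qh.map ((HomotopyCategory.quotient _ _).map (gx I J n x)) = 0 :=
    (cancel_mono ((DerivedCategory.quotientCompQhIso (ModuleCat.{u} A)).hom.app J)).1 (hn.trans zero_comp.symm)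
  have h1 : (HomotopyCategory.quotient _ _).map (gx I J n x) = (HomotopyCategory.quotient _ _).map 0 :=
    (Qmap_bijective J).1 (by show DerivedCategory.Qh.map _ = DerivedCategory.Qh.map _; rw [h0, Functor.map_zero, Functor.map_zero])
  let H := HomotopyCategory.homotopyOfEq _ _ h1
  let h' : LC.qObj I n ⟶ J.X (-1) :=
    (HomologicalComplex.singleObjXSelf (ComplexShape.up ℤ) (0 : ℤ) (LC.qObj I n)).inv ≫ H.hom 0 (-1)
  refine ⟨h'.hom (Ideal.Quotient.mk (I ^ n) 1), ?_, LC.killed I h'⟩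
  have hc := H.comm 0
  rw [dNext_eq H.hom (show (ComplexShape.up ℤ).Rel 0 1 from rfl),
    prevD_eq H.hom (show (ComplexShape.up ℤ).Rel (-1) 0 by change (-1 : ℤ) + 1 = 0; omega),
    HomologicalComplex.single_obj_d, zero_comp, zero_add, HomologicalComplex.zero_f, add_zero] at hc
  rw [← ev_gx I J n x]
  change _ = ((gx I J n x).f 0).hom _
  rw [hc]
  rfl

/-- The cycle of `Γ_I J` defined by an element of `Cn`. -/
noncomputable def toG (n : ℕ) : Cn I J n →ₗ[A] LinearMap.ker (((Γc I).obj J).d 0 (0 + 1)).hom where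
  toFun x := ⟨(⟨x.1, n, x.2.2⟩ : DRing.torsionSub I (J.X 0)), LinearMap.mem_ker.2 (Subtype.ext x.2.1)⟩
  map_add' _ _ := rfl
  map_smul' _ _ := rfl

omit [J.IsKInjective] in
lemma cl_toG_eq_zero_iff {n : ℕ} (x : Cn I J n) : zcl ((Γc I).obj J) 0 (toG I J n x) = 0 ↔
    ∃ (m : ℕ) (w : J.X (-1)), (J.d (-1) 0).hom w = x.1 ∧ ∀ a ∈ I ^ m, a • w = 0 := by
  rw [zcl_eq_zero_iff]
  constructor
  · rintro ⟨⟨w, m, hm⟩, hw⟩
    exact ⟨m, w, congrArg Subtype.val hw, hm⟩
  · rintro ⟨m, w, hw, hm⟩
    exact ⟨(⟨w, m, hm⟩ : DRing.torsionSub I (J.X (-1))), Subtype.ext hw⟩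

lemma ker_le (n : ℕ) : LinearMap.ker (pL I J n) ≤
    LinearMap.ker ((zcl ((Γc I).obj J) 0).comp (toG I J n)) := fun x hx => by
  obtain ⟨w, hw, hw'⟩ := exists_boundary I J x (LinearMap.mem_ker.1 hx)
  exact LinearMap.mem_ker.2 ((cl_toG_eq_zero_iff I J x).2 ⟨n, w, hw, hw'⟩)

/-- The comparison map at level `n`. -/
noncomputable def θ (n : ℕ) :
    (DerivedCategory.Q.obj (S I n) ⟶ DerivedCategory.Q.obj J) →ₗ[A] ((Γc I).obj J).homology 0 :=
  ((LinearMap.ker (pL I J n)).liftQ _ (ker_le I J n)).comp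
    ((pL I J n).quotKerEquivOfSurjective (pL_surjective I J n)).symm.toLinearMap

lemma θ_pL (n : ℕ) (x : Cn I J n) : θ I J n (pL I J n x) = zcl ((Γc I).obj J) 0 (toG I J n x) := by
  have h : ((pL I J n).quotKerEquivOfSurjective (pL_surjective I J n)).symm (pL I J n x) =
      Submodule.Quotient.mk x := by
    rw [LinearEquiv.symm_apply_eq]
    rfl
  simp only [θ, LinearMap.comp_apply, LinearEquiv.coe_coe, h]
  rfl

omit [J.IsKInjective] in
lemma Cn_mono {n m : ℕ} (h : n ≤ m) : Cn I J n ≤ Cn I J m :=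
  fun _ hx => ⟨hx.1, fun a ha => hx.2 a (Ideal.pow_le_pow_right h ha)⟩

/-- The transition map `A/I^m → A/I^n`. -/
noncomputable abbrev Str {n m : ℕ} (h : n ≤ m) : S I m ⟶ S I n :=
  (HomologicalComplex.single (ModuleCat.{u} A) (ComplexShape.up ℤ) 0).map (LC.qMap I h)

omit [J.IsKInjective] in
lemma pL_mono {n m : ℕ} (h : n ≤ m) (x : Cn I J n) :
    pL I J m ⟨x.1, Cn_mono I J h x.2⟩ = DerivedCategory.Q.map (Str I h) ≫ pL I J n x := by
  rw [pL_apply, pL_apply, ← Functor.map_comp]
  congr 1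
  refine hom_ext I J ((ev_gx I J m _).trans ?_)
  refine (ev_gx I J n x).symm.trans ?_
  unfold ev
  change _ = ((gx I J n x).f 0).hom (((Str I h).f 0).hom _)
  refine congrArg ((gx I J n x).f 0).hom ?_
  refine ((ConcreteCategory.congr_hom (HomologicalComplex.single_map_f_self (ComplexShape.up ℤ) (0 : ℤ)
    (LC.qMap I h)) _).trans ?_).symm
  exact congrArg (fun t : LC.qObj I m => (HomologicalComplex.singleObjXSelf (ComplexShape.up ℤ) (0 : ℤ)
      (LC.qObj I n)).inv.hom ((LC.qMap I h).hom t))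
    (ConcreteCategory.congr_hom (HomologicalComplex.singleObjXSelf (ComplexShape.up ℤ) (0 : ℤ)
      (LC.qObj I m)).inv_hom_id (Ideal.Quotient.mk (I ^ m) 1 : LC.qObj I m))

lemma θ_comp {n m : ℕ} (h : n ≤ m) (φ : DerivedCategory.Q.obj (S I n) ⟶ DerivedCategory.Q.obj J) :
    θ I J m (DerivedCategory.Q.map (Str I h) ≫ φ) = θ I J n φ := by
  obtain ⟨x, rfl⟩ := pL_surjective I J n φ
  rw [← pL_mono I J h x, θ_pL, θ_pL]
  rfl

lemma θ_surjective (z : ((Γc I).obj J).homology 0) : ∃ n φ, θ I J n φ = z := by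
  obtain ⟨⟨⟨x, n, hn⟩, hc⟩, rfl⟩ := zcl_surjective ((Γc I).obj J) 0 z
  exact ⟨n, pL I J n ⟨x, congrArg Subtype.val hc, hn⟩, θ_pL I J n _⟩

lemma θ_eq_zero {n : ℕ} (φ : DerivedCategory.Q.obj (S I n) ⟶ DerivedCategory.Q.obj J) (hφ : θ I J n φ = 0) :
    ∃ (m : ℕ) (h : n ≤ m), DerivedCategory.Q.map (Str I h) ≫ φ = 0 := by
  obtain ⟨x, rfl⟩ := pL_surjective I J n φ
  rw [θ_pL, cl_toG_eq_zero_iff] at hφ
  obtain ⟨k, w, hw, hk⟩ := hφ
  refine ⟨max n k, le_max_left n k, ?_⟩
  rw [← pL_mono I J (le_max_left n k) x]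
  exact pL_eq_zero I J _ w hw fun a ha => hk a (Ideal.pow_le_pow_right (le_max_right n k) ha)

/-- The diagram of morphisms from the quotients. -/
noncomputable abbrev homDiag (K : Dual.D A) : ℕᵒᵖᵒᵖ ⥤ ModuleCat.{u + 1} A :=
  (localCohomology.ringModIdeals (localCohomology.idealPowersDiagram I) ⋙
    DerivedCategory.singleFunctor (ModuleCat.{u} A) 0).op ⋙ (linearYoneda A (Dual.D A)).obj K

/-- `colim Hom(A/I^n, J) = H^0 (Γ_I J)`. -/
theorem nonempty_colimit_equiv {K : Dual.D A} (e : DerivedCategory.Q.obj J ≅ K) :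
    Nonempty (↑(colimit (homDiag I K) : ModuleCat.{u + 1} A) ≃ₗ[A] ((Γc I).obj J).homology 0) := by
  let T : ModuleCat.{u + 1} A := ModuleCat.of A (ULift.{u + 1} (((Γc I).obj J).homology 0))
  let post : ∀ n, ((homDiag I K).obj (op (op n))) →ₗ[A] (DerivedCategory.Q.obj (S I n) ⟶ DerivedCategory.Q.obj J) :=
    fun n => Linear.rightComp A (DerivedCategory.Q.obj (S I n)) e.inv
  let c : Cocone (homDiag I K) :=
    { pt := T
      ι :=
        { app := fun j => ModuleCat.ofHom
            (ULift.moduleEquiv.symm.toLinearMap.comp ((θ I J j.unop.unop).comp (post j.unop.unop)))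
          naturality := fun j k f => by
            obtain ⟨n⟩ := j
            obtain ⟨n⟩ := n
            obtain ⟨m⟩ := k
            obtain ⟨m⟩ := m
            have h : n ≤ m := f.unop.unop.down.down
            ext φ
            refine congrArg ULift.up ?_
            change θ I J m ((DerivedCategory.Q.map (Str I h) ≫ φ) ≫ e.inv) = θ I J n (φ ≫ e.inv)
            rw [Category.assoc]
            exact θ_comp I J h _ } }
  haveI : PreservesFilteredColimitsOfSize.{0, 0} (forget AddCommGrpCat.{u + 1}) :=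
    preservesFilteredColimitsOfSize_shrink _
  haveI : PreservesColimitsOfShape ℕᵒᵖᵒᵖ (forget AddCommGrpCat.{u + 1}) :=
    PreservesFilteredColimitsOfSize.preserves_filtered_colimits _
  haveI : PreservesColimit (homDiag I K) (forget (ModuleCat.{u + 1} A)) :=
    (comp_preservesColimit (forget₂ (ModuleCat.{u + 1} A) AddCommGrpCat.{u + 1}) (forget AddCommGrpCat.{u + 1}) :
      PreservesColimit (homDiag I K) (forget₂ (ModuleCat.{u + 1} A) AddCommGrpCat.{u + 1} ⋙ forget AddCommGrpCat.{u + 1}))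
  haveI : IsIso (colimit.desc (homDiag I K) c) := by
    rw [ConcreteCategory.isIso_iff_bijective]
    constructor
    · rw [injective_iff_map_eq_zero]
      intro z hz
      obtain ⟨⟨⟨n⟩⟩, φ, rfl⟩ := Concrete.colimit_exists_rep (homDiag I K) z
      have h1 : θ I J n (φ ≫ e.inv) = 0 := congrArg ULift.down
        ((ConcreteCategory.congr_hom (colimit.ι_desc c (op (op n))) φ).symm.trans hz)
      obtain ⟨m, h, hm⟩ := θ_eq_zero I J _ h1
      have h2 : DerivedCategory.Q.map (Str I h) ≫ φ = 0 := by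
        rw [← cancel_mono e.inv, Category.assoc, hm, zero_comp]
      rw [← ConcreteCategory.congr_hom (colimit.w (homDiag I K) (LC.arr h)) φ]
      refine (congrArg (colimit.ι (homDiag I K) (op (op m))).hom ?_).trans (map_zero _)
      exact h2
    · rintro ⟨z⟩
      obtain ⟨n, φ, hφ⟩ := θ_surjective I J z
      refine ⟨(colimit.ι (homDiag I K) (op (op n))).hom (φ ≫ e.hom),
        (ConcreteCategory.congr_hom (colimit.ι_desc c (op (op n))) _).trans (congrArg ULift.up ?_)⟩
      change θ I J n ((φ ≫ e.hom) ≫ e.inv) = z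
      rw [Category.assoc, e.hom_inv_id, Category.comp_id, hφ]
  exact ⟨(asIso (colimit.desc (homDiag I K) c)).toLinearEquiv.trans ULift.moduleEquiv⟩

end Groth.Agent.RGammaI
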