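import Groth.Agent.RGammaI.Main
import Groth.Agent.RGammaI.Colim
import Groth.Agent.H9Misc.DRingLBase
import Mathlib.Algebra.Category.ModuleCat.Descent
import Mathlib.RingTheory.RingHom.Flat

/-! Change of rings for local cohomology of complexes. -/

set_option linter.style.haveILetI false
set_option maxHeartbeats 1000000

universe u

open CategoryTheory CategoryTheory.Limits
open scoped TensorProduct

attribute [local instance] HasDerivedCategory.standard

namespace Groth.Agent.RGammaI

variable {A : Type u} [CommRing A] (I : Ideal A)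

/-- `colim Hom(A/I^n, K⟦i⟧)` is read off from a K-injective representative after `Γ_I`. -/
theorem nonempty_HDI_equiv_of_rep (K : Dual.D A) (i : ℤ) (J : DRing.Cx A) [J.IsKInjective]
    (e : DerivedCategory.Q.obj J ≅ K) :
    Nonempty (↑(Dual2.HDI A I K i) ≃ₗ[A] ((Γc I).obj J).homology i) := by
  haveI : (J⟦i⟧).IsKInjective := inferInstance
  obtain ⟨e₁⟩ := nonempty_colimit_equiv I (J⟦i⟧) (K := K⟦i⟧)
    ((DerivedCategory.Q.commShiftIso i).app J ≪≫ (shiftFunctor (Dual.D A) i).mapIso e)
  exact ⟨e₁.trans (HomologicalComplex.homologyMapIso (((Γc I).commShiftIso i).app J) 0 ≪≫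
    ((HomologicalComplex.homologyFunctor (ModuleCat.{u} A) (ComplexShape.up ℤ) 0).shiftIso i 0 i (add_zero i)).app _).toLinearEquiv⟩

/-- The same for a complex of divisible modules. -/
theorem nonempty_HDI_equiv_of_div [IsNoetherianRing A] {X : DRing.Cx A} (hX : DivTerms X) (K : Dual.D A) (i : ℤ)
    (e : DerivedCategory.Q.obj X ≅ K) :
    Nonempty (↑(Dual2.HDI A I K i) ≃ₗ[A] ((Γc I).obj X).homology i) := by
  obtain ⟨J, j, hJ, hj, -, hinj⟩ := TriCat.exists_kInjective_resolution'.{u} X
  haveI := hJ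
  haveI := hj
  haveI : IsIso (DerivedCategory.Q.map j) := (DerivedCategory.isIso_Q_map_iff_quasiIso _ _).2 hj
  obtain ⟨e₁⟩ := nonempty_HDI_equiv_of_rep I K i J ((asIso (DerivedCategory.Q.map j)).symm ≪≫ e)
  haveI := (bothDiv I).1 hX (injTerms_of_injective hinj).div j
  exact ⟨e₁.trans (isoOfQuasiIsoAt ((Γc I).map j) i).toLinearEquiv.symm⟩

variable {B : Type u} [CommRing B] (φ : A →+* B)

/-- Restriction of scalars on complexes. -/
noncomputable abbrev resC : DRing.Cx B ⥤ DRing.Cx A :=
  (ModuleCat.restrictScalars.{u} φ).mapHomologicalComplex (ComplexShape.up ℤ)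

/-- Extension of scalars on complexes. -/
noncomputable abbrev extC : DRing.Cx A ⥤ DRing.Cx B :=
  (ModuleCat.extendScalars.{u, u, u} φ).mapHomologicalComplex (ComplexShape.up ℤ)

lemma mem_torsionSub_restrict_iff (M : ModuleCat.{u} B) (x : M) :
    x ∈ DRing.torsionSub (I.map φ) M ↔
      (show (ModuleCat.restrictScalars φ).obj M from x) ∈ DRing.torsionSub I ((ModuleCat.restrictScalars φ).obj M) := by
  letI := φ.toAlgebra
  letI : Module A M := Module.compHom _ φ
  haveI : IsScalarTower A B M := IsScalarTower.of_algebraMap_smul fun _ _ => rfl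
  exact LC.mem_torsionSub_map_iff I x

/-- `Γ_I` and restriction. -/
noncomputable def gammaResIso :
    DRing.gammaI (I.map φ) ⋙ ModuleCat.restrictScalars φ ≅ ModuleCat.restrictScalars φ ⋙ DRing.gammaI I :=
  NatIso.ofComponents (fun M => LinearEquiv.toModuleIso
    ({ toFun := fun x => ⟨x.1, (mem_torsionSub_restrict_iff I φ M x.1).1 x.2⟩
       invFun := fun x => ⟨x.1, (mem_torsionSub_restrict_iff I φ M x.1).2 x.2⟩
       map_add' := fun _ _ => rfl
       map_smul' := fun _ _ => rfl
       left_inv := fun _ => rfl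
       right_inv := fun _ => rfl } :
      ((ModuleCat.restrictScalars φ).obj ((DRing.gammaI (I.map φ)).obj M)) ≃ₗ[A]
        ((DRing.gammaI I).obj ((ModuleCat.restrictScalars φ).obj M)))) (fun _ => rfl)

/-- `Γ_I` and restriction, on complexes. -/
noncomputable def ΓcResIso : Γc (I.map φ) ⋙ resC φ ≅ resC φ ⋙ Γc I :=
  NatIso.ofComponents (fun X => HomologicalComplex.Hom.isoOfComponents
      (fun n => (gammaResIso I φ).app (X.X n)) (fun i j _ => ((gammaResIso I φ).hom.naturality (X.d i j)).symm))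
    (fun α => HomologicalComplex.hom_ext _ _ fun n => (gammaResIso I φ).hom.naturality (α.f n))

lemma divTerms_resC [IsNoetherianRing B] {X : DRing.Cx B} (hX : InjTerms X) :
    DivTerms ((resC φ).obj X) := fun n => by
  letI := φ.toAlgebra
  letI : Module A (X.X n) := Module.compHom _ φ
  haveI : IsScalarTower A B (X.X n) := IsScalarTower.of_algebraMap_smul fun _ _ => rfl
  haveI := hX n
  exact LC.hasDiv_restrict (R := A) (R' := B) (X.X n)

/-- `Γ_I` commutes with flat extension of scalars. -/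
lemma exists_gammaExt [IsNoetherianRing A] [IsNoetherianRing B] (hφ : φ.Flat) :
    Nonempty (DRing.gammaI I ⋙ ModuleCat.extendScalars.{u, u, u} φ ≅
      ModuleCat.extendScalars.{u, u, u} φ ⋙ DRing.gammaI (I.map φ)) := by
  letI := φ.toAlgebra
  haveI : Module.Flat A B := hφ
  let f : ∀ M : ModuleCat.{u} A, (B ⊗[A] DRing.torsionSub I M) →ₗ[B] DRing.torsionSub (I.map φ) (B ⊗[A] M) :=
    fun M => ((DRing.torsionSub I M).subtype.baseChange B).codRestrict _ fun v => by
      rw [show I.map φ = I.map (algebraMap A B) from rfl, ← (LC.baseChange_torsionSub I M).2]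
      exact LinearMap.mem_range_self _ v
  have hf : ∀ M, Function.Bijective (f M) := fun M => by
    refine ⟨fun v w h => (LC.baseChange_torsionSub I M).1 (congrArg Subtype.val h), fun y => ?_⟩
    have hy := y.2
    simp only [show I.map φ = I.map (algebraMap A B) from rfl, ← (LC.baseChange_torsionSub I M).2] at hy
    obtain ⟨v, hv⟩ := hy
    exact ⟨v, Subtype.ext hv⟩
  refine ⟨NatIso.ofComponents (fun M => (LinearEquiv.ofBijective (f M) (hf M)).toModuleIso) ?_⟩
  intro M N g
  refine ModuleCat.hom_ext (LinearMap.ext fun v => ?_)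
  induction v using TensorProduct.induction_on with
  | zero => exact (map_zero _).trans (map_zero _).symm
  | add x y hx hy => exact (map_add _ _ _).trans ((congrArg₂ (· + ·) hx hy).trans (map_add _ _ _).symm)
  | tmul b m => exact Subtype.ext rfl

lemma divTerms_resC_extC [IsNoetherianRing A] (hφ : φ.Flat) {X : DRing.Cx A} (hX : InjTerms X) :
    DivTerms ((resC φ).obj ((extC φ).obj X)) := fun n => by
  letI := φ.toAlgebra
  haveI : Module.Flat A B := hφ
  haveI := hX n
  exact LC.hasDiv_tensor (R := A) (R' := B) (X.X n)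

variable [IsNoetherianRing A]

/-- Flat base change: `colim Hom(B/I^nB, -)` of an extension is read off from `Γ_(IB)` of it. -/
theorem nonempty_HDI_equiv_extC [IsNoetherianRing B] (hφ : φ.Flat) {X : DRing.Cx A} (hX : InjTerms X)
    (K : Dual.D B) (i : ℤ) (e : DerivedCategory.Q.obj ((extC φ).obj X) ≅ K) :
    Nonempty (↑(Dual2.HDI B (I.map φ) K i) ≃ₗ[B] ((Γc (I.map φ)).obj ((extC φ).obj X)).homology i) := by
  obtain ⟨J, j, hJ, hj, -, hinj⟩ := TriCat.exists_kInjective_resolution'.{u} ((extC φ).obj X)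
  haveI := hJ
  haveI := hj
  haveI : IsIso (DerivedCategory.Q.map j) := (DerivedCategory.isIso_Q_map_iff_quasiIso _ _).2 hj
  obtain ⟨e₁⟩ := nonempty_HDI_equiv_of_rep (I.map φ) K i J ((asIso (DerivedCategory.Q.map j)).symm ≪≫ e)
  haveI : QuasiIso ((resC φ).map j) := inferInstance
  haveI := (bothDiv I).1 (divTerms_resC_extC φ hφ hX) (divTerms_resC φ (injTerms_of_injective hinj))
    ((resC φ).map j)
  haveI : QuasiIso ((resC φ).map ((Γc (I.map φ)).map j)) :=
    (quasiIso_iff_of_arrow_mk_iso _ _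
      (((Functor.mapArrowFunctor _ _).mapIso (ΓcResIso I φ)).app (Arrow.mk j))).2
      (inferInstanceAs (QuasiIso ((Γc I).map ((resC φ).map j))))
  haveI : QuasiIso ((Γc (I.map φ)).map j) :=
    (HomologicalComplex.quasiIso_map_iff_of_preservesHomology ((Γc (I.map φ)).map j)
      (ModuleCat.restrictScalars.{u} φ)).1 (by assumption)
  exact ⟨e₁.trans (isoOfQuasiIsoAt ((Γc (I.map φ)).map j) i).toLinearEquiv.symm⟩

/-- `H^i_I` of a restriction. -/
theorem nonempty_HDI_restrict [IsNoetherianRing B] (K : Dual.D B) (i : ℤ) :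
    Nonempty (Dual2.HDI A I ((DRing.restrictD φ).obj K) i ≅
      (ModuleCat.restrictScalars φ).obj (Dual2.HDI B (I.map φ) K i)) := by
  obtain ⟨J, hJ, hinj, ⟨e⟩⟩ := exists_injRep K
  haveI := hJ
  obtain ⟨e₁⟩ := nonempty_HDI_equiv_of_rep (I.map φ) K i J e
  obtain ⟨e₂⟩ := nonempty_HDI_equiv_of_div I (divTerms_resC φ hinj) ((DRing.restrictD φ).obj K) i
    (((ModuleCat.restrictScalars.{u} φ).mapDerivedCategoryFactors.app J).symm ≪≫ (DRing.restrictD φ).mapIso e)
  let e₃ : ((Γc I).obj ((resC φ).obj J)).homology i ≅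
      (ModuleCat.restrictScalars φ).obj (((Γc (I.map φ)).obj J).homology i) :=
    HomologicalComplex.homologyMapIso ((ΓcResIso I φ).app J).symm i ≪≫
      (((Γc (I.map φ)).obj J).sc i).mapHomologyIso (ModuleCat.restrictScalars.{u} φ)
  let e₄ : (Dual2.HDI A I ((DRing.restrictD φ).obj K) i) ≃ₗ[A]
      (ModuleCat.restrictScalars φ).obj (((Γc (I.map φ)).obj J).homology i) := e₂.trans e₃.toLinearEquiv
  exact ⟨(LinearEquiv.toModuleIso
    ({ toFun := fun x => e₁.symm (e₄ x)
       invFun := fun y => e₄.symm (e₁ y)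
       map_add' := fun x y => (congrArg e₁.symm (map_add e₄ x y)).trans (map_add e₁.symm _ _)
       map_smul' := fun a x => (congrArg e₁.symm (map_smul e₄ a x)).trans (map_smul e₁.symm (φ a) _)
       left_inv := fun x => (congrArg e₄.symm (e₁.apply_symm_apply _)).trans (e₄.symm_apply_apply x)
       right_inv := fun y => (congrArg e₁.symm (e₄.apply_symm_apply _)).trans (e₁.symm_apply_apply y) } :
      (Dual2.HDI A I ((DRing.restrictD φ).obj K) i) ≃ₗ[A]
        (ModuleCat.restrictScalars φ).obj (Dual2.HDI B (I.map φ) K i)))⟩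

/-- `H^i_I` commutes with flat base change. -/
theorem nonempty_HDI_flat [IsNoetherianRing B] (hφ : φ.Flat) [DRing.HasLBaseChange φ] (K : Dual.D A) (i : ℤ) :
    Nonempty (Dual2.HDI B (I.map φ) ((DRing.LBaseChange φ).obj K) i ≅
      (ModuleCat.extendScalars φ).obj (Dual2.HDI A I K i)) := by
  haveI := ModuleCat.preservesFiniteLimits_extendScalars_of_flat hφ
  haveI : PreservesFiniteColimits (ModuleCat.extendScalars.{u, u, u} φ) := by
    haveI : (ModuleCat.extendScalars.{u, u, u} φ).IsLeftAdjoint :=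
      (ModuleCat.extendRestrictScalarsAdj φ).isLeftAdjoint
    infer_instance
  obtain ⟨J, hJ, hinj, ⟨e⟩⟩ := exists_injRep K
  haveI := hJ
  let P := (Groth.Agent.KFlatLib.ringCover A).P.obj J
  let ψ := (Groth.Agent.KFlatLib.ringCover A).ψ.app J
  haveI : QuasiIso ψ := (Groth.Agent.KFlatLib.ringCover A).quasiIso_ψ J
  obtain ⟨e₀⟩ := Groth.Agent.H9Misc.DRingLBase.nonempty_lbase_iso φ (K := P) (Groth.Agent.KFlatLib.kFlat_ringRes J)
  haveI : IsIso (DerivedCategory.Q.map ψ) := (DerivedCategory.isIso_Q_map_iff_quasiIso _ _).2 inferInstance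
  haveI : IsIso (DerivedCategory.Q.map ((extC φ).map ψ)) :=
    (DerivedCategory.isIso_Q_map_iff_quasiIso _ _).2 inferInstance
  obtain ⟨e₁⟩ := nonempty_HDI_equiv_extC I φ hφ hinj ((DRing.LBaseChange φ).obj K) i
    ((asIso (DerivedCategory.Q.map ((extC φ).map ψ))).symm ≪≫ e₀.symm ≪≫
      (DRing.LBaseChange φ).mapIso (asIso (DerivedCategory.Q.map ψ) ≪≫ e))
  obtain ⟨e₂⟩ := nonempty_HDI_equiv_of_rep I K i J e
  obtain ⟨g⟩ := exists_gammaExt I φ hφ
  let g' : (extC φ).obj ((Γc I).obj J) ≅ (Γc (I.map φ)).obj ((extC φ).obj J) :=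
    HomologicalComplex.Hom.isoOfComponents (fun n => g.app (J.X n))
      (fun p q _ => (g.hom.naturality (J.d p q)).symm)
  let e₃ : ((Γc (I.map φ)).obj ((extC φ).obj J)).homology i ≅
      (ModuleCat.extendScalars.{u, u, u} φ).obj (((Γc I).obj J).homology i) :=
    HomologicalComplex.homologyMapIso g'.symm i ≪≫
      (((Γc I).obj J).sc i).mapHomologyIso (ModuleCat.extendScalars.{u, u, u} φ)
  letI := φ.toAlgebra
  haveI : IsScalarTower A B ((ModuleCat.restrictScalars φ).obj (ModuleCat.of B B)) :=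
    IsScalarTower.of_algebraMap_smul fun _ _ => rfl
  exact ⟨((e₁.trans e₃.toLinearEquiv).trans
    (TensorProduct.AlgebraTensorModule.congr (LinearEquiv.refl B B) e₂.symm)).toModuleIso⟩

end Groth.Agent.RGammaI
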