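import Groth.Agent.RGammaI.Main
import Groth.Agent.RGammaI.Colim
import Groth.Agent.RGammaI.Change
import Groth.Agent.KFlatLib.Ring.DualizingPoint
import Groth.Agent.KFlatLib.Ring.DualizingLocalExt
import Groth.Agent.KFlatLib.Ring.HasRHom
import Groth.Agent.H9Misc.Split
import Groth.Agent.LC.Matlis

/-! The local cohomology of a normalized dualizing complex is the injective hull of the residue field. -/

set_option linter.style.haveILetI false
set_option maxHeartbeats 1000000

universe u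

open CategoryTheory CategoryTheory.Category CategoryTheory.Limits Opposite IsLocalRing

attribute [local instance] HasDerivedCategory.standard
attribute [local instance] Groth.Agent.H9Misc.DRingHomCx.qh_isLeftAdjoint

namespace Groth.Agent.RGammaI

variable {A : Type u} [CommRing A]

/-- `RΓ_I` exists. -/
theorem hasRgammaI (I : Ideal A) : DRing.HasRgammaI I := by
  let adj := Adjunction.ofIsLeftAdjoint (DerivedCategory.Qh (C := ModuleCat.{u} A))
  haveI := TriCat.isRightDerivedFunctor_of_adjunction adj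
    (HomotopyCategory.quasiIso (ModuleCat.{u} A) (ComplexShape.up ℤ)) (DRing.gammaIKh I)
  exact Functor.HasRightDerivedFunctor.mk' (L := DerivedCategory.Qh)
    (DerivedCategory.Qh.rightAdjoint ⋙ DRing.gammaIKh I) (Functor.whiskerRight adj.unit (DRing.gammaIKh I))
    (W := HomotopyCategory.quasiIso (ModuleCat.{u} A) (ComplexShape.up ℤ))

/-- `colim Hom(A/I^n, -)` is the cohomology of `RΓ_I`. -/
theorem nonempty_HDI_equiv_HD (I : Ideal A) [DRing.HasRgammaI I] (K : Dual.D A) (i : ℤ) :
    Nonempty (↑(Dual2.HDI A I K i) ≃ₗ[A] Dual.HD A ((DRing.RgammaI I).obj K) i) := by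
  obtain ⟨J, hJ, ⟨e⟩⟩ := exists_rep K
  haveI := hJ
  obtain ⟨e₁⟩ := nonempty_HDI_equiv_of_rep I K i J e
  let e₃ : Dual.HD A ((DRing.RgammaI I).obj K) i ≃ₗ[A] ((Γc I).obj J).homology i :=
    (((DerivedCategory.homologyFunctor (ModuleCat.{u} A) i).mapIso
      (isoOfKInjective I J ≪≫ (DRing.RgammaI I).mapIso e)).symm ≪≫
        (DerivedCategory.homologyFunctorFactors (ModuleCat.{u} A) i).app _).toLinearEquiv
  exact ⟨LinearEquiv.trans e₁ e₃.symm⟩

/-- A sequential colimit of eventually zero modules is zero. -/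
lemma subsingleton_colimit (D : ℕᵒᵖᵒᵖ ⥤ ModuleCat.{u + 1} A)
    (h : ∀ n : ℕ, Subsingleton (D.obj (op (op (n + 1))))) : Subsingleton ↑(colimit D) := by
  have hz : IsZero (colimit D) := by
    refine (IsZero.iff_id_eq_zero _).2 (colimit.hom_ext fun j => ?_)
    obtain ⟨⟨n⟩⟩ := j
    haveI := h n
    rw [← colimit.w D (LC.arr (Nat.le_succ n)),
      (ModuleCat.isZero_of_subsingleton (D.obj (op (op (n + 1))))).eq_of_src (colimit.ι D (op (op (n + 1)))) 0,
      comp_zero, zero_comp, zero_comp]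
  exact ModuleCat.subsingleton_of_isZero hz

/-- Vanishing at every level gives vanishing of the colimit. -/
theorem subsingleton_HDI_of_levels (I : Ideal A) (K : Dual.D A) (i : ℤ)
    (h : ∀ n : ℕ, Subsingleton (Dual.inD A (A ⧸ I ^ (n + 1)) ⟶ K⟦i⟧)) :
    Subsingleton ↑(Dual2.HDI A I K i) :=
  subsingleton_colimit (homDiag I (K⟦i⟧)) h

variable [IsNoetherianRing A]

/-- Maps from shifted torsion modules into `RΓ_I` are maps into the object. -/
theorem eq_zero_of_comp_ε_shift (I : Ideal A) [DRing.HasRgammaI I] (N : Type u) [AddCommGroup N] [Module A N]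
    (hN : LocCoh.IsPowerTorsion I N) (K : Dual.D A) (i : ℤ) (x : Dual.inD A N ⟶ ((DRing.RgammaI I).obj K)⟦i⟧)
    (hx : x ≫ (shiftFunctor (Dual.D A) i).map ((DRing.RgammaIε I).app K) = 0) : x = 0 := by
  let c := shiftFunctorCompIsoId (Dual.D A) i (-i) (by omega)
  have hL : ∀ j : ℤ, LocCoh.IsPowerTorsion I (Dual.HD A ((Dual.inD A N)⟦-i⟧) j) := fun j => by
    have hz : LocCoh.IsPowerTorsion I ((DerivedCategory.homologyFunctor (ModuleCat.{u} A) (-i + j)).obj (Dual.inD A N)) := by
      by_cases hj : -i + j = 0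
      · rw [hj]
        exact isPowerTorsion_of_equiv
          ((DerivedCategory.singleFunctorCompHomologyFunctorIso (ModuleCat.{u} A) 0).app (ModuleCat.of A N)).toLinearEquiv.symm hN
      · haveI : Subsingleton ((DerivedCategory.homologyFunctor (ModuleCat.{u} A) (-i + j)).obj (Dual.inD A N)) :=
          Groth.Agent.H9Misc.DRingTel.subsingleton_homology_inD N hj
        exact fun x => ⟨0, fun a _ => Subsingleton.elim _ _⟩
    exact isPowerTorsion_of_equiv
      (((DerivedCategory.homologyFunctor (ModuleCat.{u} A) 0).shiftIso (-i) j (-i + j) rfl).app (Dual.inD A N)).toLinearEquiv.symm hz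
  apply (shiftFunctor (Dual.D A) (-i)).map_injective
  rw [Functor.map_zero, ← cancel_mono (c.hom.app ((DRing.RgammaI I).obj K)), zero_comp]
  refine (bijective_comp_ε I hL K).1 ?_
  have hn := c.hom.naturality ((DRing.RgammaIε I).app K)
  simp only [Functor.comp_map, Functor.id_map] at hn
  show ((shiftFunctor (Dual.D A) (-i)).map x ≫ c.hom.app _) ≫ (DRing.RgammaIε I).app K = 0 ≫ _
  rw [zero_comp, assoc, ← hn, ← assoc, ← Functor.map_comp, hx, Functor.map_zero]
  exact zero_comp

variable [IsLocalRing A] {ω : Dual.D A} (hω : Dual.IsDualizing A ω) (hn : Dual.IsNormalized A ω)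

include hω hn

lemma subsingleton_hom_level (i : ℤ) (hi : i ≠ 0) (n : ℕ) :
    Subsingleton (Dual.inD A (A ⧸ maximalIdeal A ^ (n + 1)) ⟶ ω⟦i⟧) := by
  haveI : Nontrivial (A ⧸ maximalIdeal A ^ (n + 1)) := Ideal.Quotient.nontrivial_iff.2 fun h =>
    (maximalIdeal.isMaximal A).ne_top (top_unique (h ▸ Ideal.pow_le_self (Nat.succ_ne_zero n)))
  haveI : IsArtinianRing (A ⧸ maximalIdeal A ^ (n + 1)) :=
    isArtinian_of_tower A ((isFiniteLength_iff_isNoetherian_isArtinian.1
      (Groth.Agent.LC.isFiniteLength_quot_pow (R := A) (n + 1))).2)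
  have hd : Module.supportDim A (A ⧸ maximalIdeal A ^ (n + 1)) = ((0 : ℕ) : WithBot ℕ∞) := by
    rw [Module.supportDim_quotient_eq_ringKrullDim]
    exact le_antisymm (Ring.krullDimLE_iff.1 (inferInstance : Ring.KrullDimLE 0 _))
      (by rw [Nat.cast_zero]; exact ringKrullDim_nonneg_of_nontrivial)
  rw [← not_nontrivial_iff_subsingleton]
  intro hnt
  obtain ⟨h1, h2⟩ := (Groth.Agent.KFlatLib.ext_amplitude_and_support hω hn _ 0 hd i).1 hnt
  push_cast at h1
  omega

theorem subsingleton_HDI_ne (i : ℤ) (hi : i ≠ 0) : Subsingleton ↑(Dual2.HDI A (maximalIdeal A) ω i) :=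
  subsingleton_HDI_of_levels _ _ i (subsingleton_hom_level hω hn i hi)

/-- The local cohomology of a normalized dualizing complex in degree zero is the hull. -/
theorem nonempty_HD_equiv_hull [DRing.HasRgammaI (maximalIdeal A)] {E : Type u} [AddCommGroup E] [Module A E]
    {f : ResidueField A →ₗ[A] E} (hf : InjHull.IsInjectiveHull f) :
    Nonempty (Dual.HD A ((DRing.RgammaI (maximalIdeal A)).obj ω) 0 ≃ₗ[A] E) := by
  haveI := Groth.Agent.KFlatLib.hasLTen A
  haveI := Groth.Agent.KFlatLib.hasRHom (A := A)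
  let I := maximalIdeal A
  let G := (DRing.RgammaI I).obj ω
  let H := Dual.HD A G 0
  have hne : ∀ i : ℤ, i ≠ 0 → IsZero ((DerivedCategory.homologyFunctor (ModuleCat.{u} A) i).obj G) := fun i hi => by
    obtain ⟨e⟩ := nonempty_HDI_equiv_HD I ω i
    haveI := subsingleton_HDI_ne hω hn i hi
    haveI : Subsingleton (Dual.HD A G i) := e.toEquiv.symm.subsingleton
    exact ModuleCat.isZero_of_subsingleton _
  haveI : G.IsLE 0 := (DerivedCategory.isLE_iff _ _).2 fun i hi => hne i (by omega)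
  haveI : G.IsGE 0 := (DerivedCategory.isGE_iff _ _).2 fun i hi => hne i (by omega)
  obtain ⟨eG⟩ : Nonempty (G ≅ Dual.inD A H) := Groth.Agent.H9Misc.nonempty_iso_single_homology 0 G
  let F := DerivedCategory.singleFunctor (ModuleCat.{u} A) 0
  -- torsion and the maps from the residue field
  have hH : LocCoh.IsPowerTorsion I H := isPowerTorsion_HD I ω 0
  have hk : LocCoh.IsPowerTorsion I (A ⧸ I) :=
    (Groth.Agent.LC.isPowerTorsion_residueField : LocCoh.IsPowerTorsion I (ResidueField A))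
  have hext : Subsingleton (Dual.inD A (A ⧸ I) ⟶ (Dual.inD A H)⟦((0 : ℤ) + 1)⟧) := by
    refine subsingleton_of_forall_eq 0 fun x => ?_
    rw [← cancel_mono ((shiftFunctor (Dual.D A) ((0 : ℤ) + 1)).map eG.inv), zero_comp]
    refine eq_zero_of_comp_ε_shift I (A ⧸ I) hk ω _ _ ?_
    exact (hn _ (by omega) : Subsingleton (Dual.inD A (A ⧸ I) ⟶ ω⟦((0 : ℤ) + 1)⟧)).elim _ _
  -- the socle
  obtain ⟨m, hm1, ⟨hm2⟩⟩ := Groth.Agent.KFlatLib.exists_unique_ext_point (maximalIdeal A) hω
  haveI hnt : Nontrivial (A ⧸ maximalIdeal A) := Ideal.Quotient.nontrivial_iff.2 (maximalIdeal.isMaximal A).ne_top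
  obtain rfl : m = 0 := by
    by_contra h
    haveI : Subsingleton (Dual.inD A (A ⧸ maximalIdeal A) ⟶ ω⟦m⟧) := hn m h
    exact not_subsingleton (A ⧸ maximalIdeal A) hm2.toEquiv.symm.subsingleton
  let e₀ : ((A ⧸ I) →ₗ[A] H) → (Dual.inD A (A ⧸ I) ⟶ ω) := fun u =>
    (F.map (ModuleCat.ofHom u) ≫ eG.inv) ≫ (DRing.RgammaIε I).app ω
  have he₀ : Function.Bijective e₀ := by
    have hk' : ∀ j : ℤ, LocCoh.IsPowerTorsion I (Dual.HD A (Dual.inD A (A ⧸ I)) j) := fun j => by
      by_cases hj : j = 0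
      · subst hj
        exact isPowerTorsion_of_equiv
          ((DerivedCategory.singleFunctorCompHomologyFunctorIso (ModuleCat.{u} A) 0).app (ModuleCat.of A (A ⧸ I))).toLinearEquiv.symm hk
      · haveI := Groth.Agent.H9Misc.DRingTel.subsingleton_homology_inD (A := A) (A ⧸ I) hj
        exact fun x => ⟨0, fun a _ => Subsingleton.elim _ _⟩
    have h1 : Function.Bijective fun u : (A ⧸ I) →ₗ[A] H => F.map (ModuleCat.ofHom u) :=
      ⟨fun a b h => congrArg ModuleCat.Hom.hom (F.map_injective h), fun b => by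
        obtain ⟨v, hv⟩ := F.map_surjective b
        exact ⟨v.hom, hv⟩⟩
    have h2 : Function.Bijective fun v : Dual.inD A (A ⧸ I) ⟶ Dual.inD A H => v ≫ eG.inv :=
      (eG.symm.homToEquiv (Z := Dual.inD A (A ⧸ I))).bijective
    exact (bijective_comp_ε I hk' ω).comp (h2.comp h1)
  have he₀' : ∀ (r : A) u, e₀ (r • u) = r • e₀ u := fun r u => by
    simp only [e₀, ← Linear.smul_comp, ← Functor.map_smul]
    rfl
  let q : (Dual.inD A (A ⧸ I) ⟶ ω) ≃ₗ[A] A ⧸ I :=
    (Linear.homCongr A (Iso.refl _) ((shiftFunctorZero (Dual.D A) ℤ).app ω)).symm.trans hm2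
  obtain ⟨u₀, hu₀⟩ := he₀.2 (q.symm (Ideal.Quotient.mk I 1))
  have hu : ∀ u : (A ⧸ I) →ₗ[A] H, ∃ r : A, u = r • u₀ := fun u => by
    obtain ⟨r, hr⟩ := Ideal.Quotient.mk_surjective (q (e₀ u))
    refine ⟨r, he₀.1 (q.injective ?_)⟩
    rw [he₀', hu₀, map_smul, LinearEquiv.apply_symm_apply, ← hr, Algebra.smul_def,
      Ideal.Quotient.algebraMap_eq, ← map_mul, mul_one]
  have hu₀' : u₀ ≠ 0 := fun h => by
    have h0 : e₀ u₀ = 0 := by
      rw [h]
      simp only [e₀, show ModuleCat.ofHom (0 : (A ⧸ I) →ₗ[A] H) = 0 from rfl, Functor.map_zero, zero_comp]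
    rw [hu₀, LinearEquiv.map_eq_zero_iff] at h0
    exact (maximalIdeal.isMaximal A).ne_top ((Ideal.eq_top_iff_one _).2 (Ideal.Quotient.eq_zero_iff_mem.1 h0))
  let s₀ : H := u₀ (Ideal.Quotient.mk I 1)
  have hs₀I : ∀ a ∈ I, a • s₀ = 0 := fun a ha => by
    rw [← map_smul, Algebra.smul_def, Ideal.Quotient.algebraMap_eq, ← map_mul, mul_one,
      Ideal.Quotient.eq_zero_iff_mem.2 ha, map_zero]
  have hsoc : ∀ x : H, (∀ a ∈ I, a • x = 0) → ∃ r : A, r • s₀ = x := fun x hx => by
    let u : (A ⧸ I) →ₗ[A] H := Submodule.liftQ I (LinearMap.toSpanSingleton A H x) fun a ha => hx a ha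
    obtain ⟨r, hr⟩ := hu u
    refine ⟨r, ?_⟩
    have := LinearMap.congr_fun hr (Ideal.Quotient.mk I 1)
    exact this.symm.trans (one_smul A x)
  have hs₀ : s₀ ≠ 0 := fun h => hu₀' (LinearMap.ext fun z => by
    obtain ⟨a, rfl⟩ := Ideal.Quotient.mk_surjective z
    rw [show Ideal.Quotient.mk I a = a • Ideal.Quotient.mk I (1 : A) by
      rw [Algebra.smul_def, Ideal.Quotient.algebraMap_eq, ← map_mul, mul_one], map_smul]
    exact (congrArg (a • ·) h).trans (smul_zero a))
  -- the map to the hull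
  let t : (A ⧸ I) →ₗ[A] H := u₀
  have htinj : Function.Injective t := by
    rw [injective_iff_map_eq_zero]
    intro z hz
    obtain ⟨a, rfl⟩ := Ideal.Quotient.mk_surjective z
    by_contra hne'
    have ha : IsUnit a := by
      by_contra hu'
      exact hne' (Ideal.Quotient.eq_zero_iff_mem.2 ((mem_maximalIdeal a).2 hu'))
    refine hs₀ ((ha.smul_eq_zero).1 ?_)
    rw [← map_smul, Algebra.smul_def, Ideal.Quotient.algebraMap_eq, ← map_mul, mul_one]
    exact hz
  haveI := hf.isInjective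
  obtain ⟨g, hg⟩ := Groth.Agent.LC.exists_extension t htinj (f : (A ⧸ I) →ₗ[A] E)
  have hg₀ : ∀ r : A, g (r • s₀) = f (Ideal.Quotient.mk I r) := fun r => by
    have h := LinearMap.congr_fun hg (Ideal.Quotient.mk I r)
    refine Eq.trans (congrArg g ?_) h
    show r • t (Ideal.Quotient.mk I 1) = t (Ideal.Quotient.mk I r)
    rw [← map_smul, Algebra.smul_def, Ideal.Quotient.algebraMap_eq, ← map_mul, mul_one]
  have hginj : Function.Injective g := by
    rw [injective_iff_map_eq_zero]
    intro x hx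
    obtain ⟨n, hn'⟩ := hH x
    induction n generalizing x with
    | zero => simpa using hn' 1 (by simp)
    | succ n ih =>
      refine ih x hx fun a ha => ?_
      have h1 : ∀ b ∈ I, b • (a • x) = 0 := fun b hb => by
        rw [← mul_smul]
        exact hn' _ (by rw [pow_succ']; exact Ideal.mul_mem_mul hb ha)
      obtain ⟨r, hr⟩ := hsoc _ h1
      have h2 : g (a • x) = 0 := by rw [map_smul, hx, smul_zero]
      rw [← hr, hg₀] at h2
      have h3 : r ∈ I := Ideal.Quotient.eq_zero_iff_mem.1 (hf.injective (h2.trans f.map_zero.symm))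
      rw [← hr]
      exact hs₀I r h3
  have hsoc' : ∀ y : E, (∀ a ∈ I, a • y = 0) → y ∈ LinearMap.range g := fun y hy => by
    have h : y ∈ LinearMap.range f := by
      rw [← Groth.Agent.LC.hull_socle hf, Submodule.mem_torsionBySet_iff]
      exact fun a => hy a.1 a.2
    obtain ⟨z, rfl⟩ := h
    obtain ⟨r, rfl⟩ := Ideal.Quotient.mk_surjective (I := I) z
    exact ⟨r • s₀, hg₀ r⟩
  have hgsurj : Function.Surjective g := by
    intro y
    obtain ⟨n, hn'⟩ := Groth.Agent.LC.hull_isPowerTorsion hf y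
    induction n generalizing y with
    | zero => exact ⟨0, (map_zero g).trans (by simpa using (hn' 1 (by simp)).symm)⟩
    | succ n ih =>
      have hay : ∀ a ∈ I, a • y ∈ LinearMap.range g := fun a ha =>
        ih (a • y) fun b hb => by
          rw [← mul_smul]
          exact hn' _ (by rw [pow_succ]; exact Ideal.mul_mem_mul hb ha)
      let ψ : I →ₗ[A] H := (LinearEquiv.ofInjective g hginj).symm.toLinearMap.comp
        (((LinearMap.toSpanSingleton A E y).comp I.subtype).codRestrict (LinearMap.range g) fun a => hay a.1 a.2)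
      have hψ : ∀ a : I, g (ψ a) = (a : A) • y := fun a =>
        congrArg Subtype.val ((LinearEquiv.ofInjective g hginj).apply_symm_apply ⟨(a : A) • y, hay a.1 a.2⟩)
      obtain ⟨δ, hδ⟩ := Groth.Agent.KFlatLib.exists_extend_inD (f := I.subtype) (g := I.mkQ)
        I.injective_subtype I.mkQ_surjective (LinearMap.exact_subtype_mkQ I) (Dual.inD A H) 0
      let z := (shiftFunctorZero (Dual.D A) ℤ).app (Dual.inD A H)
      obtain ⟨Ψ, hΨ⟩ := hδ (F.map (ModuleCat.ofHom ψ) ≫ z.inv) (hext.elim _ _)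
      obtain ⟨Ψ', hΨ'⟩ := F.map_surjective (X := ModuleCat.of A A) (Y := ModuleCat.of A H) (Ψ ≫ z.hom)
      have hres : ∀ a : I, Ψ'.hom (a : A) = ψ a := by
        have h : ModuleCat.ofHom I.subtype ≫ Ψ' = ModuleCat.ofHom ψ := F.map_injective (by
          rw [Functor.map_comp, hΨ', ← assoc]
          exact (congrArg (· ≫ z.hom) hΨ).trans ((assoc _ _ _).trans ((congrArg _ z.inv_hom_id).trans (comp_id _))))
        exact fun a => ConcreteCategory.congr_hom h a
      have hkill : ∀ a ∈ I, a • (y - g (Ψ'.hom (1 : A))) = 0 := fun a ha => by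
        rw [smul_sub, ← map_smul, ← map_smul Ψ'.hom, smul_eq_mul, mul_one, hres ⟨a, ha⟩, hψ, sub_self]
      obtain ⟨x, hx⟩ := hsoc' _ hkill
      exact ⟨x + Ψ'.hom (1 : A), by rw [map_add, hx, sub_add_cancel]⟩
  exact ⟨LinearEquiv.ofBijective g ⟨hginj, hgsurj⟩⟩

end Groth.Agent.RGammaI
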