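import Groth.Agent.RGammaI.Injective
import Groth.Agent.KCLib.Colim
import Groth.Agent.LC.GammaRes
import Mathlib.Algebra.Homology.DerivedCategory.Fractions
import Mathlib.CategoryTheory.Abelian.Injective.Extend

/-! Iterated cones of localisations compute local cohomology over a Noetherian ring. -/

set_option linter.style.haveILetI false
set_option maxHeartbeats 1000000

universe u

open CategoryTheory CategoryTheory.Limits
open Groth.Agent.KCLib

attribute [local instance] HasDerivedCategory.standard

namespace Groth.Agent.RGammaI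

variable {A : Type u} [CommRing A]

lemma injTerms_shift {X : DRing.Cx A} (hX : InjTerms X) (r : ℤ) : InjTerms (X⟦r⟧) :=
  fun n => hX (n + r)

lemma zig_shift {K L : DRing.Cx A} (h : Zig K L) (r : ℤ) : Zig (K⟦r⟧) (L⟦r⟧) := by
  induction h with
  | rel K L h =>
    obtain ⟨φ, hφ⟩ := h
    haveI : QuasiIso (φ⟦r⟧') := (CochainComplex.quasiIso_shift_iff φ r).2 hφ
    exact Zig.of (φ⟦r⟧')
  | refl K => exact Relation.EqvGen.refl _
  | symm K L _ ih => exact ih.symm'
  | trans K L M _ _ ih ih' => exact ih.trans' ih'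

/-- `Γ_f X⟦1⟧ → cone (X → X_f)`. -/
noncomputable def torsToCone (f : A) (X : DRing.Cx A) :
    ((Γc (Ideal.span {f})).obj X)⟦(1 : ℤ)⟧ ⟶ coneLoc f X where
  f n := (DRing.gammaIι (Ideal.span {f})).app (X.X (n + 1)) ≫
    (CochainComplex.mappingCone.inl (DerCA.locCxUnit (Submonoid.powers f) X)).v (n + 1) n (by omega)
  comm' n m (h : n + 1 = m) := by
    subst h
    ext x
    have hx0 : (DerCA.locCxUnit (Submonoid.powers f) X).f (n + 1)
        ((DRing.gammaIι (Ideal.span {f})).app (X.X (n + 1)) x) = 0 := by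
      obtain ⟨k, hk⟩ := (mem_torsionSub_span_singleton f _).1 (x : DRing.torsionSub (Ideal.span {f}) (X.X (n + 1))).2
      exact (lfrac_eq_zero (Submonoid.powers f) _ 1).2 ⟨⟨_, k, rfl⟩, hk⟩
    let y : X.X (n + 1) := (DRing.gammaIι (Ideal.span {f})).app (X.X (n + 1)) x
    have e1 : ∀ (a b : ℤ) (hab : a + 1 = b) (z : X.X b),
        (CochainComplex.mappingCone.inl (DerCA.locCxUnit (Submonoid.powers f) X)).v b a (by omega) z =
          cmk (DerCA.locCxUnit (Submonoid.powers f) X) hab z 0 := fun a b hab z => by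
      simp [cmk]
    show (coneLoc f X).d n (n + 1)
        ((CochainComplex.mappingCone.inl (DerCA.locCxUnit (Submonoid.powers f) X)).v (n + 1) n (by omega) y) =
      (CochainComplex.mappingCone.inl (DerCA.locCxUnit (Submonoid.powers f) X)).v (n + 1 + 1) (n + 1) (by omega)
        ((DRing.gammaIι (Ideal.span {f})).app _ ((1 : ℤ).negOnePow •
          ((Γc (Ideal.span {f})).obj X).d (n + 1) (n + 1 + 1) x))
    rw [e1 n (n + 1) rfl y, e1 (n + 1) (n + 1 + 1) rfl]
    refine cone_ext' (DerCA.locCxUnit (Submonoid.powers f) X) (rfl : n + 1 + 1 = n + 1 + 1) ?_ ?_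
    · rw [cfst_d _ rfl rfl, cfst_cmk, cfst_cmk, Int.negOnePow_one, Units.neg_smul, one_smul]
      rfl
    · rw [csnd_d _ rfl, cfst_cmk, csnd_cmk, csnd_cmk, map_zero, add_zero]
      exact hx0

lemma torsToCone_apply (f : A) (X : DRing.Cx A) {n : ℤ} (x : DRing.torsionSub (Ideal.span {f}) (X.X (n + 1))) :
    (torsToCone f X).f n x = cmk (DerCA.locCxUnit (Submonoid.powers f) X) (rfl : n + 1 = n + 1) x.1 0 := by
  simp [torsToCone, cmk]
  rfl

theorem quasiIso_torsToCone [IsNoetherianRing A] (f : A) {X : DRing.Cx A} (hX : InjTerms X) :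
    QuasiIso (torsToCone f X) := by
  let φ := DerCA.locCxUnit (Submonoid.powers f) X
  have hsurj : ∀ (n : ℤ) y, ∃ a : X.X n, φ.f n a = y := fun n y => by
    haveI := hX n
    exact LC.surjective_mkLinearMap_of_injective (X.X n) f y
  have htors : ∀ (n : ℤ) (a : X.X n), φ.f n a = 0 → a ∈ DRing.torsionSub (Ideal.span {f}) (X.X n) :=
    fun n a ha => by
      obtain ⟨⟨_, k, rfl⟩, hk⟩ := (lfrac_eq_zero (Submonoid.powers f) a 1).1 ha
      exact (mem_torsionSub_span_singleton f a).2 ⟨k, hk⟩
  refine quasiIso_of_elem _ (fun i j k hij hjk z hz => ?_) fun i j k hij hjk x hx w hw => ?_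
  · subst hij hjk
    have h1 := congrArg (cfst φ (rfl : i + 1 + 1 + 1 = i + 1 + 1 + 1)) hz
    rw [cfst_d φ rfl rfl] at h1
    have h1' : X.d (i + 1 + 1) (i + 1 + 1 + 1) (cfst φ rfl z) = 0 := by simpa [cfst] using h1
    have h2 := congrArg (csnd φ) hz
    rw [csnd_d φ rfl] at h2
    have h2' : φ.f (i + 1 + 1) (cfst φ rfl z) +
        ((DerCA.locCx (Submonoid.powers f)).obj X).d (i + 1) (i + 1 + 1) (csnd φ z) = 0 := by
      simpa [csnd] using h2
    obtain ⟨a, ha⟩ := hsurj _ (csnd φ z)
    have hx' : φ.f _ (cfst φ rfl z + X.d (i + 1) (i + 1 + 1) a) = 0 := by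
      rw [map_add, ← comm_apply φ, ha, h2']
    refine ⟨(⟨_, htors _ _ hx'⟩ : DRing.torsionSub (Ideal.span {f}) (X.X (i + 1 + 1))), ?_,
      cmk φ rfl (-a) 0, ?_⟩
    · refine Subtype.ext ?_
      show ((1 : ℤ).negOnePow • X.d (i + 1 + 1) (i + 1 + 1 + 1) (cfst φ rfl z + X.d (i + 1) (i + 1 + 1) a)) = 0
      rw [map_add, h1', d_d_apply, add_zero, smul_zero]
    · rw [torsToCone_apply]
      refine cone_ext' φ (rfl : i + 1 + 1 = i + 1 + 1) ?_ ?_
      · rw [cfst_cmk]
        simp only [cfst, map_add]
        rw [show (CochainComplex.mappingCone.fst φ).1.v (i + 1) (i + 1 + 1) rfl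
          ((coneLoc f X).d i (i + 1) (cmk φ rfl (-a) 0)) = _ from cfst_d φ rfl rfl _, cfst_cmk, map_neg, neg_neg]
      · rw [csnd_cmk]
        simp only [csnd, map_add]
        rw [show (CochainComplex.mappingCone.snd φ).v (i + 1) (i + 1) (add_zero _)
          ((coneLoc f X).d i (i + 1) (cmk φ rfl (-a) 0)) = _ from csnd_d φ rfl _, cfst_cmk, csnd_cmk, map_zero,
          add_zero, map_neg, ha]
        exact (add_neg_cancel _).symm
  · subst hij hjk
    rw [torsToCone_apply] at hw
    have e1 := congrArg (cfst φ (rfl : i + 1 + 1 = i + 1 + 1)) hw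
    rw [cfst_cmk, cfst_d φ rfl rfl] at e1
    have e2 := congrArg (csnd φ) hw
    rw [csnd_cmk, csnd_d φ rfl] at e2
    obtain ⟨c, hc⟩ := hsurj _ (csnd φ w)
    have ha' : φ.f _ (cfst φ rfl w + X.d i (i + 1) c) = 0 := by
      rw [map_add, ← comm_apply φ, hc, ← e2]
    refine ⟨(⟨_, htors _ _ ha'⟩ : DRing.torsionSub (Ideal.span {f}) (X.X (i + 1))), Subtype.ext ?_⟩
    show ((1 : ℤ).negOnePow • X.d (i + 1) (i + 1 + 1) (cfst φ rfl w + X.d i (i + 1) c)) = _
    rw [map_add, d_d_apply, add_zero, Int.negOnePow_one, Units.neg_smul, one_smul]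
    exact e1.symm

/-- One step of the iteration. -/
theorem zig_coneLoc_gamma [IsNoetherianRing A] (f : A) (a : Ideal A) {X : DRing.Cx A} (hX : InjTerms X) :
    Zig (coneLoc f ((Γc a).obj X)) (((Γc (a ⊔ Ideal.span {f})).obj X)⟦(1 : ℤ)⟧) := by
  haveI := quasiIso_torsToCone f (injTerms_gamma a hX)
  exact (Zig.of (torsToCone f ((Γc a).obj X))).symm'.trans'
    (Zig.of_iso ((shiftFunctor (DRing.Cx A) (1 : ℤ)).mapIso ((ΓcSupIso a (Ideal.span {f})).app X)))

/-- The ideal generated by a list. -/
abbrev idl (fs : List A) : Ideal A := Ideal.span {a : A | a ∈ fs}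

lemma idl_cons (f : A) (fs : List A) : idl (f :: fs) = idl fs ⊔ Ideal.span {f} := by
  change Submodule.span A _ = Submodule.span A _ ⊔ Submodule.span A _
  rw [← Submodule.span_union]
  congr 1
  ext a
  simp [or_comm]

lemma idl_nil : idl ([] : List A) = ⊥ := by simp [idl]

variable [IsNoetherianRing A] (M : ModuleCat.{u} A)

/-- The iterated cone of localisations is the shifted torsion of an injective resolution. -/
theorem zig_kInf {X : DRing.Cx A} (hX : InjTerms X)
    (h : Zig ((HomologicalComplex.single (ModuleCat.{u} A) (ComplexShape.up ℤ) 0).obj M) X) :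
    ∀ fs : List A, Zig (kInf M fs) (((Γc (idl fs)).obj X)⟦(fs.length : ℤ)⟧) := by
  intro fs
  induction fs with
  | nil =>
    haveI := isIso_ι_bot X
    rw [idl_nil]
    exact h.trans' (Zig.of_iso ((asIso (ιc (⊥ : Ideal A) X)).symm ≪≫
      ((shiftFunctorZero (DRing.Cx A) ℤ).app _).symm))
  | cons f fs ih =>
    rw [idl_cons]
    refine (Zig.coneLoc f ih).trans' ?_
    let r : ℤ := fs.length
    let e : ((Γc (idl fs)).obj X)⟦r⟧ ≅ (Γc (idl fs)).obj (X⟦r⟧) := (((Γc (idl fs)).commShiftIso r).app X).symm
    refine (Zig.coneLoc f (Zig.of_iso e)).trans' ((zig_coneLoc_gamma f (idl fs) (injTerms_shift hX r)).trans' ?_)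
    exact Zig.of_iso ((shiftFunctor (DRing.Cx A) (1 : ℤ)).mapIso
        (((Γc (idl fs ⊔ Ideal.span {f})).commShiftIso r).app X) ≪≫
      ((shiftFunctorAdd' (DRing.Cx A) r 1 ((f :: fs).length : ℤ) (by simp [r])).app _).symm)

/-- The extended Čech complex is the torsion of an injective resolution. -/
theorem zig_extCech {X : DRing.Cx A} (hX : InjTerms X)
    (h : Zig ((HomologicalComplex.single (ModuleCat.{u} A) (ComplexShape.up ℤ) 0).obj M) X) :
    ∀ fs : List A, Zig (DerCA.extCech M fs) ((Γc (idl fs)).obj X) := by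
  intro fs
  induction fs with
  | nil =>
    haveI := isIso_ι_bot X
    rw [idl_nil]
    exact h.trans' (Zig.of_iso (asIso (ιc (⊥ : Ideal A) X)).symm)
  | cons f fs ih =>
    rw [idl_cons]
    refine (zig_shift (Zig.coneLoc f ih) (-1)).trans' ?_
    exact (zig_shift (zig_coneLoc_gamma f (idl fs) hX) (-1)).trans'
      (Zig.of_iso ((shiftFunctorCompIsoId (DRing.Cx A) (1 : ℤ) (-1) (by omega)).app _))

/-- `Γ_I` of an extended resolution is the extension of `Γ_I` of the resolution. -/
noncomputable def gammaExtendIso (I : Ideal A) {N : ModuleCat.{u} A} (J : InjectiveResolution N) :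
    (Γc I).obj J.cochainComplex ≅ (LC.gCx I J).extend ComplexShape.embeddingUpNat :=
  HomologicalComplex.Hom.isoOfComponents
    (fun n => match n with
      | Int.ofNat k => (DRing.gammaI I).mapIso (J.cochainComplexXIso _ k rfl) ≪≫
          (HomologicalComplex.extendXIso (LC.gCx I J) ComplexShape.embeddingUpNat (i := k) rfl).symm
      | Int.negSucc k =>
          ((DRing.gammaI I).map_isZero (CochainComplex.isZero_of_isStrictlyGE J.cochainComplex 0 _
              (Int.negSucc_lt_zero k))).iso
            (HomologicalComplex.isZero_extend_X _ _ _ fun i hi => by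
              change (i : ℤ) = Int.negSucc k at hi
              omega))
    (fun i j hij => by
      change i + 1 = j at hij
      rcases i with k | k
      · obtain rfl : j = Int.ofNat (k + 1) := by simp at hij ⊢; omega
        have he := HomologicalComplex.extend_d_eq (LC.gCx I J) ComplexShape.embeddingUpNat
          (i' := Int.ofNat k) (j' := Int.ofNat (k + 1)) (i := k) (j := k + 1) rfl rfl
        dsimp only
        rw [he]
        refine Eq.trans (b := (DRing.gammaI I).map (J.cochainComplexXIso _ k rfl).hom ≫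
          (LC.gCx I J).d k (k + 1) ≫
            (HomologicalComplex.extendXIso (LC.gCx I J) ComplexShape.embeddingUpNat (i := k + 1) rfl).inv) ?_ ?_
        · exact (Category.assoc _ _ _).trans (congrArg _ (Iso.inv_hom_id_assoc _ _))
        · have e : (DRing.gammaI I).map (J.cochainComplex.d (Int.ofNat k) (Int.ofNat (k + 1))) ≫
              (DRing.gammaI I).map (J.cochainComplexXIso _ (k + 1) rfl).hom =
              (DRing.gammaI I).map (J.cochainComplexXIso _ k rfl).hom ≫ (LC.gCx I J).d k (k + 1) := by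
            refine ((DRing.gammaI I).map_comp _ _).symm.trans (Eq.trans ?_ ((DRing.gammaI I).map_comp _ _))
            refine congrArg (DRing.gammaI I).map ?_
            rw [J.cochainComplex_d (Int.ofNat k) (Int.ofNat (k + 1)) k (k + 1) rfl rfl]
            simp
          exact ((Category.assoc _ _ _).symm.trans (congrArg (· ≫ _) e.symm)).trans (Category.assoc _ _ _)
      · exact ((DRing.gammaI I).map_isZero (CochainComplex.isZero_of_isStrictlyGE J.cochainComplex 0 _
          (Int.negSucc_lt_zero k))).eq_of_src _ _)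

lemma injTerms_resolution {N : ModuleCat.{u} A} (J : InjectiveResolution N) : InjTerms J.cochainComplex :=
  fun n =>
    haveI : Injective (ModuleCat.of A (J.cochainComplex.X n)) :=
      InjectiveResolution.instInjectiveXIntCochainComplex J n
    Module.injective_module_of_injective_object A (J.cochainComplex.X n)

lemma zig_resolution {N : ModuleCat.{u} A} (J : InjectiveResolution N) :
    Zig ((HomologicalComplex.single (ModuleCat.{u} A) (ComplexShape.up ℤ) 0).obj N) J.cochainComplex :=
  Zig.of (h := (inferInstance : QuasiIso J.ι')) J.ι'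

/-- The extended Čech complex computes local cohomology. -/
theorem nonempty_H_equiv_extCechH (fs : List A) (i : ℕ) :
    Nonempty ((localCohomology (idl fs) i).obj M ≃ₗ[A] DerCA.extCechH fs M i) := by
  let J := injectiveResolution M
  obtain ⟨e⟩ := (zig_extCech M (injTerms_resolution J) (zig_resolution J) fs).homology i
  exact ⟨(LC.equivG (idl fs) J i).trans ((LC.gCx (idl fs) J).extendHomologyIso ComplexShape.embeddingUpNat
    (j := i) rfl).toLinearEquiv.symm |>.trans (HomologicalComplex.homologyMapIso (gammaExtendIso (idl fs) J) (i : ℤ)).toLinearEquiv.symm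
      |>.trans e.symm.toLinearEquiv⟩

/-- The colimit of Koszul cohomology computes local cohomology. -/
theorem nonempty_H_equiv_koszulHLim (fs : List A) (i : ℕ) :
    Nonempty ((localCohomology (idl fs) i).obj M ≃ₗ[A] CohIII.koszulHLim fs M i) := by
  let J := injectiveResolution M
  obtain ⟨e⟩ := (zig_kInf M (injTerms_resolution J) (zig_resolution J) fs).homology ((i : ℤ) - fs.length)
  obtain ⟨e'⟩ := nonempty_koszulHLim_equiv M fs i
  exact ⟨(LC.equivG (idl fs) J i).trans ((LC.gCx (idl fs) J).extendHomologyIso ComplexShape.embeddingUpNat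
    (j := i) rfl).toLinearEquiv.symm |>.trans (HomologicalComplex.homologyMapIso (gammaExtendIso (idl fs) J) (i : ℤ)).toLinearEquiv.symm
      |>.trans (((HomologicalComplex.homologyFunctor (ModuleCat.{u} A) (ComplexShape.up ℤ) 0).shiftIso
        (fs.length : ℤ) ((i : ℤ) - fs.length) (i : ℤ) (by omega)).app _).toLinearEquiv.symm
      |>.trans (e.symm.toLinearEquiv.trans e'.symm)⟩

end Groth.Agent.RGammaI
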