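import Groth.Agent.RGammaI.Injective

/-! The counit of the derived torsion functor over a Noetherian ring. -/

set_option linter.style.haveILetI false

universe u

open CategoryTheory CategoryTheory.Limits

attribute [local instance] HasDerivedCategory.standard

namespace Groth.Agent.RGammaI

variable {A : Type u} [CommRing A]

/-- The quotient functor. -/
noncomputable abbrev hq : DRing.Cx A ⥤ HomotopyCategory (ModuleCat.{u} A) (ComplexShape.up ℤ) :=
  HomotopyCategory.quotient (ModuleCat.{u} A) (ComplexShape.up ℤ)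

lemma injTerms_of_injective {X : DRing.Cx A} (h : ∀ n, Injective (X.X n)) : InjTerms X := fun n =>
  haveI := h n
  Module.injective_module_of_injective_object A (X.X n)

/-- Every object has a K-injective representative with injective terms. -/
lemma exists_injRep (K : Dual.D A) : ∃ J : DRing.Cx A, J.IsKInjective ∧ InjTerms J ∧
    Nonempty (DerivedCategory.Q.obj J ≅ K) := by
  obtain ⟨J, i, hJ, hi, -, hinj⟩ := TriCat.exists_kInjective_resolution'.{u} (DerivedCategory.Q.objPreimage K)
  haveI := hi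
  haveI : IsIso (DerivedCategory.Q.map i) := (DerivedCategory.isIso_Q_map_iff_quasiIso _ _).2 hi
  exact ⟨J, hJ, injTerms_of_injective hinj,
    ⟨(asIso (DerivedCategory.Q.map i)).symm ≪≫ DerivedCategory.Q.objObjPreimageIso K⟩⟩

variable (I : Ideal A) [DRing.HasRgammaI I]

/-- The unit of the derived functor. -/
noncomputable abbrev η : DRing.gammaIKh I ⟶ DerivedCategory.Qh ⋙ DRing.RgammaI I :=
  (DRing.gammaIKh I).totalRightDerivedUnit DerivedCategory.Qh
    (HomotopyCategory.quasiIso (ModuleCat.{u} A) (ComplexShape.up ℤ))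

lemma isIso_gammaIKh_map {X Y : DRing.Cx A} (α : X ⟶ Y) (h : QuasiIso ((Γc I).map α)) :
    IsIso ((DRing.gammaIKh I).map (hq.map α)) := by
  haveI : IsIso (DerivedCategory.Qh.map (hq.map ((Γc I).map α))) :=
    (NatIso.isIso_map_iff (DerivedCategory.quotientCompQhIso (ModuleCat.{u} A)) _).2
      ((DerivedCategory.isIso_Q_map_iff_quasiIso _ _).2 h)
  exact (NatIso.isIso_map_iff (Functor.isoWhiskerRight
    ((DRing.gammaI I).mapHomotopyCategoryFactors (ComplexShape.up ℤ)) DerivedCategory.Qh) α).2 this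

variable [IsNoetherianRing A]

/-- `RΓ_I` is computed on complexes of injective modules. -/
theorem isIso_unit_of_injTerms {X : DRing.Cx A} (hX : InjTerms X) : IsIso ((η I).app (hq.obj X)) := by
  obtain ⟨J, i, hJ, hi, -, hinj⟩ := TriCat.exists_kInjective_resolution'.{u} X
  haveI := hJ
  haveI := hi
  haveI := isIso_gammaIKh_map I i ((both I).1 hX (injTerms_of_injective hinj) i)
  haveI := isIso_unit I J
  haveI : IsIso (DerivedCategory.Qh.map (hq.map i)) :=
    (NatIso.isIso_map_iff (DerivedCategory.quotientCompQhIso (ModuleCat.{u} A)) i).2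
      ((DerivedCategory.isIso_Q_map_iff_quasiIso _ _).2 hi)
  haveI : IsIso ((η I).app (hq.obj X) ≫ (DerivedCategory.Qh ⋙ DRing.RgammaI I).map (hq.map i)) := by
    rw [← (η I).naturality]
    infer_instance
  haveI : IsIso ((DerivedCategory.Qh ⋙ DRing.RgammaI I).map (hq.map i)) :=
    inferInstanceAs (IsIso ((DRing.RgammaI I).map (DerivedCategory.Qh.map (hq.map i))))
  exact IsIso.of_isIso_comp_right _ ((DerivedCategory.Qh ⋙ DRing.RgammaI I).map (hq.map i))

/-- `RΓ_I X = Γ_I X` for complexes of injective modules. -/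
noncomputable def isoOfInjTerms {X : DRing.Cx A} (hX : InjTerms X) :
    DerivedCategory.Q.obj ((Γc I).obj X) ≅ (DRing.RgammaI I).obj (DerivedCategory.Q.obj X) :=
  haveI := isIso_unit_of_injTerms I hX
  ((DerivedCategory.quotientCompQhIso (ModuleCat.{u} A)).app _).symm ≪≫
    DerivedCategory.Qh.mapIso
      (((DRing.gammaI I).mapHomotopyCategoryFactors (ComplexShape.up ℤ)).app X).symm ≪≫
    asIso ((η I).app (hq.obj X)) ≪≫
    (DRing.RgammaI I).mapIso ((DerivedCategory.quotientCompQhIso (ModuleCat.{u} A)).app X)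

omit [IsNoetherianRing A] in
lemma η_ε (X : DRing.Cx A) :
    (η I).app (hq.obj X) ≫ (DRing.RgammaIε I).app (DerivedCategory.Qh.obj (hq.obj X)) =
      DerivedCategory.Qh.map (((DRing.gammaI I).mapHomotopyCategoryFactors (ComplexShape.up ℤ)).hom.app X) ≫
        DerivedCategory.Qh.map (hq.map (ιc I X)) := by
  refine ((DRing.RgammaI I).rightDerived_fac_app _ _ _ _ (hq.obj X)).trans ?_
  refine (Category.comp_id _).trans ?_
  change (DRing.gammaIτ0 I).app X = _
  simp [DRing.gammaIτ0]
  refine congrArg (DerivedCategory.Qh.map _ ≫ ·) ?_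
  refine Eq.trans ?_ (congrArg DerivedCategory.Qh.map (hq.map_comp (ιc I X) (𝟙 X))).symm |>.trans ?_
  · rw [← Functor.map_comp, ← Functor.map_comp]
    congr 2
  · rw [Category.comp_id]

lemma isPowerTorsion_homology (X : DRing.Cx A) (n : ℤ) :
    LocCoh.IsPowerTorsion I (((Γc I).obj X).homology n) := by
  intro x
  obtain ⟨z, rfl⟩ := (ModuleCat.epi_iff_surjective (((Γc I).obj X).homologyπ n)).1 inferInstance x
  obtain ⟨k, hk⟩ := ((((Γc I).obj X).iCycles n) z : DRing.torsionSub I (X.X n)).2
  refine ⟨k, fun a ha => ?_⟩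
  rw [← map_smul]
  have hz : a • z = 0 := by
    apply (ModuleCat.mono_iff_injective (((Γc I).obj X).iCycles n)).1 inferInstance
    rw [map_smul, map_zero]
    exact Subtype.ext (hk a ha)
  rw [hz, map_zero]

/-- The cohomology of `RΓ_I K` is power torsion. -/
theorem isPowerTorsion_HD (K : Dual.D A) (n : ℤ) :
    LocCoh.IsPowerTorsion I (Dual.HD A ((DRing.RgammaI I).obj K) n) := by
  obtain ⟨J, hJ, hinj, ⟨e⟩⟩ := exists_injRep K
  exact isPowerTorsion_of_equiv
    (((DerivedCategory.homologyFunctorFactors (ModuleCat.{u} A) n).app ((Γc I).obj J)).symm ≪≫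
      (DerivedCategory.homologyFunctor (ModuleCat.{u} A) n).mapIso
        (isoOfInjTerms I hinj ≪≫ (DRing.RgammaI I).mapIso e)).toLinearEquiv
    (isPowerTorsion_homology I J n)

/-- The counit is invertible on torsion objects. -/
theorem isIso_ε_of_torsion (K : Dual.D A) (hK : ∀ i : ℤ, LocCoh.IsPowerTorsion I (Dual.HD A K i)) :
    IsIso ((DRing.RgammaIε I).app K) := by
  obtain ⟨J, hJ, hinj, ⟨e⟩⟩ := exists_injRep K
  refine (NatTrans.isIso_app_iff_of_iso (DRing.RgammaIε I)
    ((DerivedCategory.quotientCompQhIso (ModuleCat.{u} A)).app J ≪≫ e)).1 ?_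
  change IsIso ((DRing.RgammaIε I).app (DerivedCategory.Qh.obj (hq.obj J)))
  haveI := isIso_unit_of_injTerms I hinj
  haveI : QuasiIso (ιc I J) := (both I).2 hinj fun n => isPowerTorsion_of_equiv
    (((DerivedCategory.homologyFunctor (ModuleCat.{u} A) n).mapIso e).symm ≪≫
      (DerivedCategory.homologyFunctorFactors (ModuleCat.{u} A) n).app J).toLinearEquiv (hK n)
  haveI : IsIso (DerivedCategory.Qh.map (hq.map (ιc I J))) :=
    (NatIso.isIso_map_iff (DerivedCategory.quotientCompQhIso (ModuleCat.{u} A)) _).2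
      ((DerivedCategory.isIso_Q_map_iff_quasiIso _ _).2 inferInstance)
  haveI : IsIso ((η I).app (hq.obj J) ≫ (DRing.RgammaIε I).app (DerivedCategory.Qh.obj (hq.obj J))) := by
    rw [η_ε]
    exact IsIso.comp_isIso' inferInstance inferInstance
  exact IsIso.of_isIso_comp_left ((η I).app (hq.obj J)) _

omit [DRing.HasRgammaI I] in
lemma isIso_gamma_ι (X : DRing.Cx A) : IsIso ((Γc I).map (ιc I X)) := by
  haveI : ∀ n, IsIso (((Γc I).map (ιc I X)).f n) := fun n => by
    rw [ConcreteCategory.isIso_iff_bijective]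
    refine ⟨fun a b hab => Subtype.ext (Subtype.ext (congrArg Subtype.val hab :)), fun x => ?_⟩
    exact ⟨⟨⟨x.1, x.2⟩, x.2.imp fun k hk a ha => Subtype.ext (hk a ha)⟩, rfl⟩
  exact HomologicalComplex.Hom.isIso_of_components _

/-- `RΓ_I` inverts the counit. -/
theorem isIso_map_ε (K : Dual.D A) : IsIso ((DRing.RgammaI I).map ((DRing.RgammaIε I).app K)) := by
  obtain ⟨J, hJ, hinj, ⟨e⟩⟩ := exists_injRep K
  refine (NatTrans.isIso_app_iff_of_iso (Functor.whiskerRight (DRing.RgammaIε I) (DRing.RgammaI I))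
    ((DerivedCategory.quotientCompQhIso (ModuleCat.{u} A)).app J ≪≫ e)).1 ?_
  change IsIso ((DRing.RgammaI I).map ((DRing.RgammaIε I).app (DerivedCategory.Qh.obj (hq.obj J))))
  haveI := isIso_unit_of_injTerms I hinj
  haveI := isIso_unit_of_injTerms I (injTerms_gamma I hinj)
  haveI := isIso_gamma_ι I J
  haveI := isIso_gammaIKh_map I (ιc I J) inferInstance
  haveI : IsIso ((DerivedCategory.Qh ⋙ DRing.RgammaI I).map (hq.map (ιc I J))) := by
    haveI : IsIso ((η I).app (hq.obj ((Γc I).obj J)) ≫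
        (DerivedCategory.Qh ⋙ DRing.RgammaI I).map (hq.map (ιc I J))) := by
      rw [← (η I).naturality]
      infer_instance
    exact IsIso.of_isIso_comp_left ((η I).app (hq.obj ((Γc I).obj J))) _
  haveI : IsIso ((DRing.RgammaI I).map ((η I).app (hq.obj J)) ≫
      (DRing.RgammaI I).map ((DRing.RgammaIε I).app (DerivedCategory.Qh.obj (hq.obj J)))) := by
    rw [← Functor.map_comp, η_ε, Functor.map_comp]
    exact IsIso.comp_isIso' inferInstance (by assumption)
  exact IsIso.of_isIso_comp_left ((DRing.RgammaI I).map ((η I).app (hq.obj J))) _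

/-- `RΓ_I` is right adjoint to the inclusion of torsion objects. -/
theorem bijective_comp_ε {L : Dual.D A} (hL : ∀ i : ℤ, LocCoh.IsPowerTorsion I (Dual.HD A L i))
    (K : Dual.D A) :
    Function.Bijective (fun h : L ⟶ (DRing.RgammaI I).obj K => h ≫ (DRing.RgammaIε I).app K) := by
  haveI := isIso_ε_of_torsion I L hL
  haveI := isIso_map_ε I K
  refine ⟨fun h h' e => ?_, fun g => ⟨inv ((DRing.RgammaIε I).app L) ≫ (DRing.RgammaI I).map g, ?_⟩⟩
  · have e' : (DRing.RgammaI I).map h = (DRing.RgammaI I).map h' := by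
      rw [← cancel_mono ((DRing.RgammaI I).map ((DRing.RgammaIε I).app K)), ← Functor.map_comp,
        ← Functor.map_comp]
      exact congrArg _ e
    have n1 : (DRing.RgammaI I).map h ≫ (DRing.RgammaIε I).app _ = (DRing.RgammaIε I).app L ≫ h :=
      (DRing.RgammaIε I).naturality h
    have n2 : (DRing.RgammaI I).map h' ≫ (DRing.RgammaIε I).app _ = (DRing.RgammaIε I).app L ≫ h' :=
      (DRing.RgammaIε I).naturality h'
    rw [← cancel_epi ((DRing.RgammaIε I).app L), ← n1, ← n2, e']
  · change (inv ((DRing.RgammaIε I).app L) ≫ (DRing.RgammaI I).map g) ≫ (DRing.RgammaIε I).app K = g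
    rw [Category.assoc, IsIso.inv_comp_eq]
    exact (DRing.RgammaIε I).naturality g

end Groth.Agent.RGammaI
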