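import Groth.Prelude.Def_DRing3
import Groth.Agent.H9Misc.DRingHomCx
import Mathlib.Algebra.Homology.DerivedCategory.Linear

/-! The derived torsion functor is computed on K-injective complexes. -/

set_option linter.style.haveILetI false

universe u

open CategoryTheory CategoryTheory.Limits

attribute [local instance] HasDerivedCategory.standard
attribute [local instance] Groth.Agent.H9Misc.DRingHomCx.qh_isLeftAdjoint

namespace Groth.Agent.RGammaI

variable {A : Type u} [CommRing A]

instance linear_gammaI (I : Ideal A) : (DRing.gammaI I).Linear A where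
  map_smul := by intros; rfl

/-- `RΓ_I` is computed by `Γ_I` on K-injective complexes. -/
theorem isIso_unit (I : Ideal A) [DRing.HasRgammaI I] (J : DRing.Cx A) [J.IsKInjective] :
    IsIso (((DRing.gammaIKh I).totalRightDerivedUnit DerivedCategory.Qh
      (HomotopyCategory.quasiIso (ModuleCat.{u} A) (ComplexShape.up ℤ))).app
        ((HomotopyCategory.quotient (ModuleCat.{u} A) (ComplexShape.up ℤ)).obj J)) := by
  let W := HomotopyCategory.quasiIso (ModuleCat.{u} A) (ComplexShape.up ℤ)
  let q := (HomotopyCategory.quotient (ModuleCat.{u} A) (ComplexShape.up ℤ)).obj J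
  let adj := Adjunction.ofIsLeftAdjoint (DerivedCategory.Qh (C := ModuleCat.{u} A))
  haveI := TriCat.isRightDerivedFunctor_of_adjunction adj W (DRing.gammaIKh I)
  let u : DRing.gammaIKh I ⟶ DerivedCategory.Qh ⋙ (DerivedCategory.Qh.rightAdjoint ⋙ DRing.gammaIKh I) :=
    Functor.whiskerRight adj.unit (DRing.gammaIKh I)
  let η := (DRing.gammaIKh I).totalRightDerivedUnit DerivedCategory.Qh W
  let i := Functor.rightDerivedUnique _ _ u η W
  have h : u.app q ≫ i.hom.app (DerivedCategory.Qh.obj q) = η.app q :=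
    (Functor.rightDerivedNatTrans_app _ _ u η W (𝟙 _) q).trans (Category.id_comp _)
  haveI : IsIso (adj.unit.app q) := TriCat.isIso_unit_of_isKInjective adj J
  haveI : IsIso (u.app q) := inferInstanceAs (IsIso ((DRing.gammaIKh I).map (adj.unit.app q)))
  change IsIso (η.app q)
  rw [← h]
  infer_instance

/-- `RΓ_I J = Γ_I J` for K-injective `J`. -/
noncomputable def isoOfKInjective (I : Ideal A) [DRing.HasRgammaI I] (J : DRing.Cx A) [J.IsKInjective] :
    DerivedCategory.Q.obj (((DRing.gammaI I).mapHomologicalComplex (ComplexShape.up ℤ)).obj J) ≅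
      (DRing.RgammaI I).obj (DerivedCategory.Q.obj J) :=
  haveI := isIso_unit I J
  ((DerivedCategory.quotientCompQhIso (ModuleCat.{u} A)).app _).symm ≪≫
    DerivedCategory.Qh.mapIso
      (((DRing.gammaI I).mapHomotopyCategoryFactors (ComplexShape.up ℤ)).app J).symm ≪≫
    asIso (((DRing.gammaIKh I).totalRightDerivedUnit DerivedCategory.Qh
      (HomotopyCategory.quasiIso (ModuleCat.{u} A) (ComplexShape.up ℤ))).app
        ((HomotopyCategory.quotient (ModuleCat.{u} A) (ComplexShape.up ℤ)).obj J)) ≪≫
    (DRing.RgammaI I).mapIso ((DerivedCategory.quotientCompQhIso (ModuleCat.{u} A)).app J)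

/-- Every object has a K-injective representative. -/
lemma exists_rep (K : Dual.D A) : ∃ J : DRing.Cx A, J.IsKInjective ∧
    Nonempty (DerivedCategory.Q.obj J ≅ K) := by
  let K₀ := DerivedCategory.Q.objPreimage K
  obtain ⟨J, i, hJ, hi, -, -⟩ := TriCat.exists_kInjective_resolution'.{u} K₀
  haveI := hi
  haveI : IsIso (DerivedCategory.Q.map i) := (DerivedCategory.isIso_Q_map_iff_quasiIso _ _).2 hi
  exact ⟨J, hJ, ⟨(asIso (DerivedCategory.Q.map i)).symm ≪≫ DerivedCategory.Q.objObjPreimageIso K⟩⟩

/-- A quasi-isomorphic endomorphism of a K-injective complex stays one after an additive functor. -/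
lemma quasiIso_map_of_isKInjective (F : ModuleCat.{u} A ⥤ ModuleCat.{u} A) [F.Additive]
    {J J' : DRing.Cx A} [J.IsKInjective] [J'.IsKInjective] (φ : J ⟶ J') [QuasiIso φ] :
    QuasiIso ((F.mapHomologicalComplex (ComplexShape.up ℤ)).map φ) := by
  let q := HomotopyCategory.quotient (ModuleCat.{u} A) (ComplexShape.up ℤ)
  haveI : IsIso (DerivedCategory.Qh.map (q.map φ)) :=
    (NatIso.isIso_map_iff (DerivedCategory.quotientCompQhIso (ModuleCat.{u} A)) φ).2
      ((DerivedCategory.isIso_Q_map_iff_quasiIso _ _).2 inferInstance)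
  obtain ⟨ψ, hψ⟩ := (CochainComplex.IsKInjective.Qh_map_bijective (q.obj J') J).2
    (inv (DerivedCategory.Qh.map (q.map φ)))
  haveI : IsIso (q.map φ) := ⟨ψ, (CochainComplex.IsKInjective.Qh_map_bijective (q.obj J) J).1 (by simp [hψ]),
    (CochainComplex.IsKInjective.Qh_map_bijective (q.obj J') J').1 (by simp [hψ])⟩
  haveI : IsIso ((F.mapHomotopyCategory (ComplexShape.up ℤ)).map (q.map φ)) := inferInstance
  haveI : IsIso (q.map ((F.mapHomologicalComplex (ComplexShape.up ℤ)).map φ)) :=
    (NatIso.isIso_map_iff (F.mapHomotopyCategoryFactors (ComplexShape.up ℤ)) φ).1 this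
  rw [← DerivedCategory.isIso_Q_map_iff_quasiIso]
  exact (NatIso.isIso_map_iff (DerivedCategory.quotientCompQhIso (ModuleCat.{u} A)) _).1
    (inferInstanceAs (IsIso (DerivedCategory.Qh.map (q.map ((F.mapHomologicalComplex (ComplexShape.up ℤ)).map φ)))))

end Groth.Agent.RGammaI
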