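import Groth.Agent.RGammaI.ExtRange
import Groth.Agent.LC.GorDualizing
import Groth.Agent.KFlatLib.Ring.InvertibleTwist
import Groth.Agent.KFlatLib.Ring.Dualizing

/-! The Gorenstein locus of a ring with a dualizing complex. -/

set_option linter.style.haveILetI false
set_option maxHeartbeats 1000000

universe u

open CategoryTheory CategoryTheory.Limits TensorProduct

attribute [local instance] HasDerivedCategory.standard

namespace Groth.Agent.RGammaI

open Groth.Agent.KFlatLib

variable {A : Type u} [CommRing A] [IsNoetherianRing A]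

/-- An object with a single free rank one cohomology module is a shifted unit. -/
lemma nonempty_iso_of_single (X : Dual.D A) (s : ℤ) (h0 : ∀ i, i ≠ s → Subsingleton (Dual.HD A X i))
    (e : Dual.HD A X s ≃ₗ[A] A) : Nonempty (X ≅ (Dual.inD A A)⟦-s⟧) := by
  haveI : X.IsLE s := (DerivedCategory.isLE_iff _ _).2 fun i hi =>
    @ModuleCat.isZero_of_subsingleton _ _ _ (h0 i (by omega))
  haveI : X.IsGE s := (DerivedCategory.isGE_iff _ _).2 fun i hi =>
    @ModuleCat.isZero_of_subsingleton _ _ _ (h0 i (by omega))
  obtain ⟨u⟩ := Groth.Agent.H9Misc.nonempty_iso_single_homology s X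
  exact ⟨u ≪≫ (((DerivedCategory.singleFunctors (ModuleCat.{u} A)).shiftIso (-s) s 0 (by omega)).app _).symm ≪≫
    (shiftFunctor (Dual.D A) (-s)).mapIso
      ((DerivedCategory.singleFunctor (ModuleCat.{u} A) 0).mapIso e.toModuleIso)⟩

/-- Gorenstein at a point: the localised dualizing complex is a shifted unit. -/
theorem gorenstein_iff_local (ω : Dual.D A) (hω : Dual.IsDualizing A ω) (q : PrimeSpectrum A) :
    LocCoh.IsGorensteinLocalRing (Localization.AtPrime q.asIdeal) ↔
      ∃ s : ℤ, (∀ i, i ≠ s → q ∉ Module.support A (Dual.HD A ω i)) ∧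
        ∃ x : Dual.HD A ω s, Function.Bijective
          (LocalizedModule.map q.asIdeal.primeCompl (LinearMap.toSpanSingleton A (Dual.HD A ω s) x)) := by
  let B := Localization.AtPrime q.asIdeal
  haveI := hasLBase (algebraMap A B)
  haveI : Module.Flat A B := IsLocalization.flat _ q.asIdeal.primeCompl
  have hB : Dual.IsDualizing B ((DTen.LBase (algebraMap A B)).obj ω) := isDualizing_LBase hω fun m _ =>
    ⟨m.comap (algebraMap A B), IsLocalization.map_comap q.asIdeal.primeCompl _ m⟩
  haveI := hasLTen B
  haveI := hasRHom (A := B)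
  let ωB := (DTen.LBase (algebraMap A B)).obj ω
  have eH : ∀ i, Nonempty (Dual.HD B ωB i ≃ₗ[B] LocalizedModule q.asIdeal.primeCompl (Dual.HD A ω i)) := fun i => by
    obtain ⟨e⟩ := exists_hdLBaseLEquiv (B := B) ω i
    exact ⟨e.trans (IsLocalizedModule.isBaseChange q.asIdeal.primeCompl B
      (LocalizedModule.mkLinearMap q.asIdeal.primeCompl (Dual.HD A ω i))).equiv⟩
  constructor
  · intro hG
    obtain ⟨n, ⟨u⟩⟩ := exists_iso_shift_of_isDualizing ((Groth.Agent.LC.gorenstein_iff_isDualizing B).1 hG) hB
    refine ⟨-n, fun i hi hsupp => ?_, ?_⟩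
    · rw [Module.mem_support_iff] at hsupp
      obtain ⟨e⟩ := eH i
      haveI : Subsingleton (Dual.HD B (Dual.inD B B) (n + i)) :=
        Groth.Agent.H9Misc.DRingTel.subsingleton_homology_inD (A := B) B (by omega)
      let c : Dual.HD B ωB i ≃ₗ[B] Dual.HD B (Dual.inD B B) (n + i) :=
        ((DerivedCategory.homologyFunctor (ModuleCat.{u} B) i).mapIso u ≪≫
          (((DerivedCategory.homologyFunctor (ModuleCat.{u} B) 0).shiftIso n i (n + i) rfl).app _)).toLinearEquiv
      exact not_subsingleton (LocalizedModule q.asIdeal.primeCompl (Dual.HD A ω i))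
        (e.symm.trans c).toEquiv.subsingleton
    · obtain ⟨e⟩ := eH (-n)
      let c : Dual.HD B ωB (-n) ≃ₗ[B] B :=
        ((DerivedCategory.homologyFunctor (ModuleCat.{u} B) (-n)).mapIso u ≪≫
          (((DerivedCategory.homologyFunctor (ModuleCat.{u} B) 0).shiftIso n (-n) 0 (by omega)).app _) ≪≫
            (DerivedCategory.singleFunctorCompHomologyFunctorIso (ModuleCat.{u} B) 0).app (ModuleCat.of B B)).toLinearEquiv
      let g : B ≃ₗ[B] LocalizedModule q.asIdeal.primeCompl (Dual.HD A ω (-n)) := c.symm.trans e
      obtain ⟨⟨x, t⟩, hxt⟩ := IsLocalizedModule.surj q.asIdeal.primeCompl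
        (LocalizedModule.mkLinearMap q.asIdeal.primeCompl (Dual.HD A ω (-n))) (g 1)
      refine ⟨x, ?_⟩
      have hkey : ∀ b : B, LocalizedModule.map q.asIdeal.primeCompl (LinearMap.toSpanSingleton A (Dual.HD A ω (-n)) x) b =
          g (algebraMap A B (t : A) * b) := fun b => by
        refine congrFun (congrArg DFunLike.coe (?_ :
          (LocalizedModule.map q.asIdeal.primeCompl (LinearMap.toSpanSingleton A (Dual.HD A ω (-n)) x)) =
            g.toLinearMap ∘ₗ LinearMap.mulLeft B (algebraMap A B (t : A)))) b
        refine LinearMap.ext fun z => ?_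
        induction z using LocalizedModule.induction_on with
        | h a s =>
          rw [LocalizedModule.map_mk, LinearMap.toSpanSingleton_apply, LinearMap.comp_apply, LinearMap.mulLeft_apply,
            LinearEquiv.coe_coe, ← smul_eq_mul, map_smul, ← LocalizedModule.smul'_mk]
          change _ = algebraMap A B (t : A) • g (LocalizedModule.mk a s)
          rw [show (LocalizedModule.mk a s : B) = (LocalizedModule.mk a s : B) • (1 : B) from (mul_one _).symm,
            map_smul, smul_comm, algebraMap_smul]
          have hxt' : t • g 1 = LocalizedModule.mk x 1 := hxt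
          change _ = (LocalizedModule.mk a s : B) • (t • g 1)
          rw [hxt', LocalizedModule.smul'_mk]
          exact (congrArg (LocalizedModule.mk (a • x)) (mul_one s)).symm.trans (LocalizedModule.mk_smul_mk a x s 1).symm
      have ht : IsUnit (algebraMap A B (t : A)) := IsLocalization.map_units B t
      rw [show ⇑(LocalizedModule.map q.asIdeal.primeCompl (LinearMap.toSpanSingleton A (Dual.HD A ω (-n)) x)) =
        g ∘ fun b => algebraMap A B (t : A) * b from funext hkey]
      exact g.bijective.comp (ht.unit.mulLeft_bijective)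
  · rintro ⟨s, h0, x, hx⟩
    obtain ⟨e⟩ := eH s
    obtain ⟨u⟩ := nonempty_iso_of_single ωB s (fun i hi => by
      obtain ⟨e'⟩ := eH i
      haveI : Subsingleton (LocalizedModule q.asIdeal.primeCompl (Dual.HD A ω i)) :=
        Module.notMem_support_iff.1 (h0 i hi)
      exact e'.toEquiv.subsingleton) (e.trans (LinearEquiv.ofBijective _ hx).symm)
    exact (Groth.Agent.LC.gorenstein_iff_isDualizing B).2 (isDualizing_of_iso
      ((shiftFunctor (Dual.D B) s).mapIso u ≪≫ (shiftFunctorCompIsoId (Dual.D B) (-s) s (by omega)).app _)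
      (isDualizing_shift hB s))

/-- The Gorenstein locus is open. -/
theorem isOpen_gorenstein_locus (ω : Dual.D A) (hω : Dual.IsDualizing A ω) :
    IsOpen {p : PrimeSpectrum A | LocCoh.IsGorensteinLocalRing (Localization.AtPrime p.asIdeal)} := by
  obtain ⟨a, b, -, _, _⟩ := exists_bounds_of_isDualizing hω
  have hcl : ∀ (M : Type u) [AddCommGroup M] [Module A M] [Module.Finite A M],
      IsClosed (Module.support A M) := fun M _ _ _ => by
    rw [Module.support_eq_zeroLocus]
    exact PrimeSpectrum.isClosed_zeroLocus _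
  have hset : {p : PrimeSpectrum A | LocCoh.IsGorensteinLocalRing (Localization.AtPrime p.asIdeal)} =
      ⋃ s : ℤ, ⋃ x : Dual.HD A ω s, (⋃ i ∈ (Finset.Icc a b).erase s, Module.support A (Dual.HD A ω i))ᶜ ∩
        ((Module.support A (LinearMap.ker (LinearMap.toSpanSingleton A (Dual.HD A ω s) x)))ᶜ ∩
          (Module.support A (Dual.HD A ω s ⧸ LinearMap.range (LinearMap.toSpanSingleton A (Dual.HD A ω s) x)))ᶜ) := by
    ext q
    rw [Set.mem_setOf_eq, gorenstein_iff_local ω hω q]
    simp only [Set.mem_iUnion, Set.mem_inter_iff, Set.mem_compl_iff, Finset.mem_erase, not_exists]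
    refine exists_congr fun s => ⟨fun ⟨h0, x, hx⟩ => ⟨x, fun i hi => h0 i hi.1, ?_⟩,
      fun ⟨x, h0, hk, hc⟩ => ⟨fun i hi hs => ?_, x, ?_⟩⟩
    · exact ⟨Module.notMem_support_iff.2 (subsingleton_ker_of_injective _ hx.1),
        Module.notMem_support_iff.2 (subsingleton_coker_of_surjective _ hx.2)⟩
    · refine h0 i ⟨hi, ?_⟩ hs
      rw [Finset.mem_Icc]
      by_contra hr
      haveI : Subsingleton (Dual.HD A ω i) := by
        by_cases hia : i < a
        · exact ModuleCat.subsingleton_of_isZero (DerivedCategory.isZero_of_isGE ω a i hia)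
        · exact ModuleCat.subsingleton_of_isZero (DerivedCategory.isZero_of_isLE ω b i (by omega))
      haveI := Module.mem_support_iff.1 hs
      exact not_subsingleton (LocalizedModule q.asIdeal.primeCompl (Dual.HD A ω i))
        (LocalizedModule.subsingleton_iff.2 fun z => ⟨1, one_mem _, Subsingleton.elim _ _⟩)
    · exact bijective_map_of_ker_coker _ (Module.notMem_support_iff.1 hk) (Module.notMem_support_iff.1 hc)
  rw [hset]
  refine isOpen_iUnion fun s => isOpen_iUnion fun x => IsOpen.inter ?_ (IsOpen.inter ?_ ?_)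
  · rw [isOpen_compl_iff]
    exact isClosed_biUnion_finset fun i _ => haveI := hω.finite_cohomology i; hcl _
  · rw [isOpen_compl_iff]
    haveI := hω.finite_cohomology s
    exact hcl _
  · rw [isOpen_compl_iff]
    haveI := hω.finite_cohomology s
    exact hcl _
where
  subsingleton_ker_of_injective {M N : Type u} [AddCommGroup M] [Module A M] [AddCommGroup N] [Module A N]
      {S : Submonoid A} (g : M →ₗ[A] N) (h : Function.Injective (LocalizedModule.map S g)) :
      Subsingleton (LocalizedModule S (LinearMap.ker g)) := by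
    refine LocalizedModule.subsingleton_iff.2 fun z => ?_
    have h0 : LocalizedModule.mk (z : M) (1 : S) = 0 := h (by rw [LocalizedModule.map_mk, z.2, map_zero, LocalizedModule.zero_mk])
    rw [← LocalizedModule.zero_mk (1 : S), LocalizedModule.mk_eq] at h0
    obtain ⟨c, hc⟩ := h0
    exact ⟨c, c.2, Subtype.ext (by simpa [Submonoid.smul_def] using hc)⟩
  subsingleton_coker_of_surjective {M N : Type u} [AddCommGroup M] [Module A M] [AddCommGroup N] [Module A N]
      {S : Submonoid A} (g : M →ₗ[A] N) (h : Function.Surjective (LocalizedModule.map S g)) :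
      Subsingleton (LocalizedModule S (N ⧸ LinearMap.range g)) := by
    refine LocalizedModule.subsingleton_iff.2 fun z => ?_
    obtain ⟨y, rfl⟩ := Submodule.Quotient.mk_surjective _ z
    obtain ⟨w, hw⟩ := h (LocalizedModule.mk y 1)
    induction w using LocalizedModule.induction_on with
    | h m s =>
      rw [LocalizedModule.map_mk, LocalizedModule.mk_eq] at hw
      obtain ⟨c, hc⟩ := hw
      refine ⟨(c * s : S), (c * s).2, ?_⟩
      rw [← Submodule.Quotient.mk_smul, Submodule.Quotient.mk_eq_zero]
      refine ⟨(c : A) • m, ?_⟩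
      simpa [Submonoid.smul_def, mul_smul] using hc
  bijective_map_of_ker_coker {M N : Type u} [AddCommGroup M] [Module A M] [AddCommGroup N] [Module A N]
      {S : Submonoid A} (g : M →ₗ[A] N) (hk : Subsingleton (LocalizedModule S (LinearMap.ker g)))
      (hc : Subsingleton (LocalizedModule S (N ⧸ LinearMap.range g))) :
      Function.Bijective (LocalizedModule.map S g) := by
    refine ⟨(injective_iff_map_eq_zero _).2 fun w hw => ?_, fun w => ?_⟩
    · induction w using LocalizedModule.induction_on with
      | h m s =>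
        rw [LocalizedModule.map_mk, ← LocalizedModule.zero_mk (1 : S), LocalizedModule.mk_eq] at hw
        obtain ⟨c, hc'⟩ := hw
        have hker : (c : A) • m ∈ LinearMap.ker g := by simpa [Submonoid.smul_def] using hc'
        obtain ⟨r, hr, hr0⟩ := LocalizedModule.subsingleton_iff.1 hk ⟨_, hker⟩
        rw [← LocalizedModule.zero_mk (1 : S), LocalizedModule.mk_eq]
        exact ⟨⟨r, hr⟩ * c, by simpa [Submonoid.smul_def, mul_smul] using congrArg Subtype.val hr0⟩
    · induction w using LocalizedModule.induction_on with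
      | h y s =>
        obtain ⟨r, hr, hr0⟩ := LocalizedModule.subsingleton_iff.1 hc (Submodule.Quotient.mk y)
        rw [← Submodule.Quotient.mk_smul, Submodule.Quotient.mk_eq_zero] at hr0
        obtain ⟨m, hm⟩ := hr0
        refine ⟨LocalizedModule.mk m (⟨r, hr⟩ * s), ?_⟩
        rw [LocalizedModule.map_mk, hm, LocalizedModule.mk_eq]
        exact ⟨1, by simp [Submonoid.smul_def, mul_smul, smul_comm r]⟩

end Groth.Agent.RGammaI
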