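import Groth.Agent.KFlatLib.Ring.ResLBase
import Groth.Agent.KFlatLib.Ring.RHomFinite
import Groth.Agent.KFlatLib.Ring.ProjPair
import Groth.Agent.KFlatLib.Ring.BaseChangeGen
import Groth.Agent.KFlatLib.Ring.DualizingLocalExt

/-! Base change of duality, and duality along a right adjoint of restriction. -/

set_option linter.style.haveILetI false
set_option backward.isDefEq.respectTransparency false
set_option maxHeartbeats 1000000

universe u

open CategoryTheory CategoryTheory.Limits Pretriangulated MonoidalCategory Opposite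

open Pretriangulated.Opposite

attribute [local instance] HasDerivedCategory.standard

namespace Groth.Agent.RGammaI.ShriekDual

open Groth.Agent.KFlatLib

variable {R A : Type u} [CommRing R] [CommRing A]
  [DTen.HasLTen R] [DTen.HasLTen A] [DTen.HasRHom R] [DTen.HasRHom A]

section BC

variable (φ : R →+* A) [DTen.HasLBase φ] [DTen.HasResTen φ] [DTen.ResLegIso φ]

/-- Base change of derived hom out of an object with finite cohomology into one of finite injective dimension. -/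
theorem isIso_bcRHom_of_finite_hd [IsNoetherianRing R]
    (hA : DRing.HasTorAmplitudeIn R 0 0 (DerivedCategory.Q.obj (resUnitCx φ)))
    (K M : Dual.D R) [IsIso (DTen.rhomBC φ K ((DTen.LBase φ).obj M))]
    (hK : ∀ i : ℤ, Module.Finite R (Dual.HD R K i)) (hM : DRing.HasFiniteInjDim R M)
    (hN : DRing.HasFiniteInjDim A ((DTen.LBase φ).obj M)) :
    IsIso (DTen.bcRHom φ K M) := by
  haveI := hasLTen₃ R
  haveI := hasLTen₃ A
  haveI := isSymMonoidal R
  haveI := isSymMonoidal A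
  obtain ⟨a, b, hab⟩ := hM
  obtain ⟨a', b', hab'⟩ := hN
  haveI := isGE_of_injAmplitude hab
  have hbc : ∀ K M, IsIso (DTen.rhomBC φ K M) := fun K M => isIso_rhomBC φ K M
  haveI := hbc
  let N := (DTen.LBase φ).obj M
  let F := (DTen.RHom R).flip.obj M ⋙ DTen.LBase φ
  let G := (DTen.LBase φ).op ⋙ (DTen.RHom A).flip.obj N
  refine isIso_of_bijective_unit _ fun j => ?_
  let B : ℤ := max b b' + j + 2
  obtain ⟨T, hT, hpc, -, h₂, hB, -⟩ := exists_trunc hK B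
  subst h₂
  haveI hη : IsIso (DTen.bcRHom φ T.obj₁ M) :=
    isIso_bcRHom_of_pseudoCoherent hA T.obj₁ M hpc a inferInstance
  have hz : ∀ (Y : Dual.D A) (k : ℤ), Y.IsLE k → k < -j → ∀ f : (DTen.unit A)⟦j⟧ ⟶ Y, f = 0 := by
    intro Y k hY hk f
    haveI := hY
    obtain ⟨e⟩ := exists_homUnitLEquiv Y j (-j) (by omega)
    haveI := ModuleCat.subsingleton_of_isZero (DerivedCategory.isZero_of_isLE Y k (-j) hk)
    exact e.injective (Subsingleton.elim _ _)
  haveI hC : T.obj₃.IsGE (B + 1) := hB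
  haveI hC1 : DerivedCategory.IsGE (T.obj₃⟦(-1 : ℤ)⟧) (B + 2) :=
    DerivedCategory.TStructure.t.isGE_shift T.obj₃ (B + 1) (-1 : ℤ) (B + 2) (by omega)
  have hb : b ≤ max b b' := le_max_left _ _
  have hb' : b' ≤ max b b' := le_max_right _ _
  have hFC : ∀ f : (DTen.unit A)⟦j⟧ ⟶ F.obj (op T.obj₃), f = 0 := by
    haveI := isLE_RHomR T.obj₃ M (B + 1) a b hab
    exact fun f => hz _ _ (isLE_LBase (φ := φ) ((DTen.RHomR R T.obj₃).obj M) (b - (B + 1))) (by omega) f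
  have hFC' : ∀ f : (DTen.unit A)⟦j⟧ ⟶ F.obj (op (T.obj₃⟦(-1 : ℤ)⟧)), f = 0 := by
    haveI := isLE_RHomR (T.obj₃⟦(-1 : ℤ)⟧) M (B + 2) a b hab
    exact fun f => hz _ _ (isLE_LBase (φ := φ) ((DTen.RHomR R (T.obj₃⟦(-1 : ℤ)⟧)).obj M) (b - (B + 2)))
      (by omega) f
  have hGC : ∀ f : (DTen.unit A)⟦j⟧ ⟶ G.obj (op T.obj₃), f = 0 := by
    haveI : ((DTen.LBase φ).obj T.obj₃).IsGE (B + 1) := by
      simpa using isGE_LBase hA T.obj₃ (B + 1)
    exact fun f => hz _ _ (isLE_RHomR ((DTen.LBase φ).obj T.obj₃) N (B + 1) a' b' hab') (by omega) f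
  obtain ⟨c₁, hc₁⟩ := exists_triangle_RHomMap T hT M
  obtain ⟨c₂, hc₂⟩ := exists_triangle_LBase φ _ hc₁
  obtain ⟨c₃, hc₃⟩ := exists_triangle_RHomMap _ (inv_rot_of_distTriang _ hT) M
  obtain ⟨c₄, hc₄⟩ := exists_triangle_LBase φ _ hc₃
  obtain ⟨d₁, hd₁⟩ := exists_triangle_LBase φ _ hT
  obtain ⟨d₂, hd₂⟩ := exists_triangle_RHomMap _ hd₁ N
  let a₁ : F.obj (op T.obj₂) ⟶ F.obj (op T.obj₁) := (DTen.LBase φ).map (DTen.RHomMap T.mor₁ M)
  let a₂ : G.obj (op T.obj₂) ⟶ G.obj (op T.obj₁) := DTen.RHomMap ((DTen.LBase φ).map T.mor₁) N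
  have hn : DTen.bcRHom φ T.obj₂ M ≫ a₂ = a₁ ≫ DTen.bcRHom φ T.obj₁ M := rhom_map_bcRHom hbc M T.mor₁
  refine ⟨fun f f' hff => sub_eq_zero.1 ?_, fun y => ?_⟩
  · have h0 : (f - f') ≫ DTen.bcRHom φ T.obj₂ M = 0 := by
      rw [Preadditive.sub_comp]; exact sub_eq_zero.2 hff
    generalize f - f' = f at h0
    have h1 : f ≫ a₁ = 0 := (cancel_mono (DTen.bcRHom φ T.obj₁ M)).1 (by
      rw [Category.assoc, ← hn, ← Category.assoc, h0, zero_comp, zero_comp])
    obtain ⟨x, hx⟩ := Triangle.coyoneda_exact₂ _ hc₂ f h1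
    rw [hx, hFC x]
    exact zero_comp
  · obtain ⟨x, hx⟩ : ∃ x : (DTen.unit A)⟦j⟧ ⟶ F.obj (op T.obj₂),
        x ≫ a₁ = (y ≫ a₂) ≫ inv (DTen.bcRHom φ T.obj₁ M) := by
      obtain ⟨x, hx⟩ := Triangle.coyoneda_exact₂ _ hc₄
        ((y ≫ a₂) ≫ inv (DTen.bcRHom φ T.obj₁ M)) (hFC' _)
      exact ⟨x, hx.symm⟩
    refine ⟨x, sub_eq_zero.1 ?_⟩
    have h1 : (x ≫ DTen.bcRHom φ T.obj₂ M - y) ≫ a₂ = 0 := by
      rw [Preadditive.sub_comp, Category.assoc, hn, ← Category.assoc, hx, Category.assoc _ (inv _),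
        IsIso.inv_hom_id, Category.comp_id, sub_self]
    obtain ⟨z, hz'⟩ := Triangle.coyoneda_exact₂ _ hd₂ _ h1
    change x ≫ DTen.bcRHom φ T.obj₂ M - y = 0
    rw [hz', hGC z]
    exact zero_comp

end BC

section Shift

variable [DTen.HasLTen₃ A] [DTen.IsSymMonoidal A]

/-- Tensoring twice on the right. -/
noncomputable def tensorRightComp (Y U : Dual.D A) :
    DTen.tensorRightD A Y ⋙ DTen.tensorRightD A U ≅ DTen.tensorRightD A ((DTen.LTen₂ A).obj (Y, U)) :=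
  NatIso.ofComponents (fun X => DTen.associator X Y U) fun {X X'} f => by
    have h1 := (DTen.assocL A).naturality
      (show ((X, (Y, U)) : Dual.D A × (Dual.D A × Dual.D A)) ⟶ (X', (Y, U)) from
        Prod.mkHom f (Prod.mkHom (𝟙 Y) (𝟙 U)))
    have h2 := (asIso (DTen.assocR A)).inv.naturality
      (show ((X, (Y, U)) : Dual.D A × (Dual.D A × Dual.D A)) ⟶ (X', (Y, U)) from
        Prod.mkHom f (Prod.mkHom (𝟙 Y) (𝟙 U)))
    simp only [DTen.associator, Iso.trans_hom, Iso.app_hom, Iso.symm_hom, Iso.app_inv, asIso_hom]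
    refine (Category.assoc _ _ _).symm.trans ((congrArg (· ≫ _) h1).trans ((Category.assoc _ _ _).trans
      ((congrArg (_ ≫ ·) (h2.trans (congrArg (_ ≫ ·) ?_))).trans (Category.assoc _ _ _).symm)))
    exact congrArg (fun t => (DTen.LTen₂ A).map (Prod.mkHom f t)) ((DTen.LTen₂ A).map_id (Y, U))

/-- `RHom(Y, -)` commutes with shifts. -/
theorem nonempty_RHomR_shift (Y : Dual.D A) (k : ℤ) :
    Nonempty (shiftFunctor (Dual.D A) k ⋙ DTen.RHomR A Y ≅ DTen.RHomR A Y ⋙ shiftFunctor (Dual.D A) k) := by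
  obtain ⟨t⟩ := nonempty_tensorRight_shift (B := A) (-k) (Iso.refl ((DTen.unit A)⟦-k⟧))
  let U := (DTen.unit A)⟦-k⟧
  let a : shiftFunctor (Dual.D A) (-k) ⋙ DTen.tensorRightD A Y ≅
      DTen.tensorRightD A Y ⋙ shiftFunctor (Dual.D A) (-k) :=
    Functor.isoWhiskerRight t.symm _ ≪≫ tensorRightComp U Y ≪≫
      (DTen.LTen A).flip.mapIso (DTen.braiding Y U) ≪≫ (tensorRightComp Y U).symm ≪≫
      Functor.isoWhiskerLeft _ t
  let e := (shiftEquiv' (Dual.D A) (-k) k (by omega)).toAdjunction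
  exact ⟨Adjunction.rightAdjointUniq (((DTen.rhomAdj A Y).comp e).ofNatIsoLeft a.symm)
    (e.comp (DTen.rhomAdj A Y))⟩

end Shift

section Conjugate

variable [DTen.HasLTen₃ R] [DTen.IsSymMonoidal R] [DTen.HasLTen₃ A] [DTen.IsSymMonoidal A]
  (φ : R →+* A) [DTen.HasLBase φ] [DTen.HasResTen φ] [DTen.ResLegIso φ]

/-- Duality commutes with a right adjoint of restriction. -/
theorem nonempty_shriek_RHom {Rφ : Dual.D R ⥤ Dual.D A} (adj : DRing.restrictD φ ⊣ Rφ) (Y : Dual.D R) :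
    Nonempty (DTen.RHomR R Y ⋙ Rφ ≅ Rφ ⋙ DTen.RHomR A ((DTen.LBase φ).obj Y)) := by
  let L := (DTen.LBase φ).obj Y
  haveI : ∀ W, IsIso (piD φ Y W) := fun W => isIso_piD φ Y W
  let m : DRing.restrictD φ ⋙ (DTen.LTen R).obj Y ≅ (DTen.LTen A).obj L ⋙ DRing.restrictD φ :=
    NatIso.ofComponents (fun W => asIso (piD φ Y W)) fun {W W'} g => by
      have h := piD_natural φ (𝟙 Y) g
      rw [CategoryTheory.Functor.map_id] at h
      exact h
  let c : DRing.restrictD φ ⋙ DTen.tensorRightD R Y ≅ DTen.tensorRightD A L ⋙ DRing.restrictD φ :=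
    Functor.isoWhiskerLeft _ (tenFlipIso Y).symm ≪≫ m ≪≫ Functor.isoWhiskerRight (tenFlipIso L) _
  exact ⟨Adjunction.rightAdjointUniq ((adj.comp (DTen.rhomAdj R Y)).ofNatIsoLeft c)
    ((DTen.rhomAdj A L).comp adj)⟩

end Conjugate

end Groth.Agent.RGammaI.ShriekDual
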