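import Groth.Agent.RGammaI.Bidual

/-! Consequences of local duality. -/

set_option linter.style.haveILetI false
set_option maxHeartbeats 1000000

universe u

open CategoryTheory CategoryTheory.Category CategoryTheory.Limits IsLocalRing

attribute [local instance] HasDerivedCategory.standard

namespace Groth.Agent.RGammaI

variable {A : Type u} [CommRing A] [IsNoetherianRing A] [IsLocalRing A]
  {ω : Dual.D A} (hω : Dual.IsDualizing A ω) (hn : Dual.IsNormalized A ω)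
  {E : Type u} [AddCommGroup E] [Module A E] {f : ResidueField A →ₗ[A] E} (hf : InjHull.IsInjectiveHull f)

local notation "𝔪" => maximalIdeal A

include hω in
lemma finite_hom_twist {K : Dual.D A} (hK : ∀ i, Module.Finite A (Dual.HD A K i)) (i : ℤ) :
    Module.Finite A (K ⟶ ω⟦i⟧) :=
  Groth.Agent.KFlatLib.finite_hom_of_finite_hd hK hω.finite_cohomology
    (Groth.Agent.KFlatLib.finiteInjDim_of_isDualizing hω) i

include hω hn hf

/-- A model of the twisted maps, and its dual. -/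
theorem exists_model_dual (K : Dual.D A) (hK : ∀ i, Module.Finite A (Dual.HD A K i)) (i : ℤ) :
    ∃ (k : ℕ) (N : Submodule A (Fin k → A)), Nonempty ((K ⟶ ω⟦-i⟧) ≃ₗ[A] ((Fin k → A) ⧸ N)) ∧
      Nonempty (↑(Dual2.HDI A 𝔪 K i) ≃ₗ[A] (((Fin k → A) ⧸ N) →ₗ[A] E)) := by
  haveI := finite_hom_twist hω hK (-i)
  obtain ⟨k, N, ⟨u⟩⟩ := exists_model A (K ⟶ ω⟦-i⟧)
  obtain ⟨d⟩ := nonempty_HDI_equiv_dual hω hn hf K hK i
  exact ⟨k, N, ⟨u⟩, ⟨d.trans (u.arrowCongr (LinearEquiv.refl A E))⟩⟩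

theorem nonempty_hom_equiv_dual_of_complete [IsAdicComplete 𝔪 A] (K : Dual.D A)
    (hK : ∀ i, Module.Finite A (Dual.HD A K i)) (i : ℤ) :
    Nonempty ((K ⟶ ω⟦-i⟧) ≃ₗ[A] (↑(Dual2.HDI A 𝔪 K i) →ₗ[A] E)) := by
  obtain ⟨k, N, ⟨u⟩, ⟨d⟩⟩ := exists_model_dual hω hn hf K hK i
  exact ⟨u.trans ((LinearEquiv.ofBijective _ (Groth.Agent.LC.applyₗ_bijective_of_finite hf _)).trans
    (d.symm.arrowCongr (LinearEquiv.refl A E)))⟩

theorem nonempty_completion_equiv_dual (K : Dual.D A) (hK : ∀ i, Module.Finite A (Dual.HD A K i)) (i : ℤ) :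
    Nonempty (AdicCompletion 𝔪 (K ⟶ ω⟦-i⟧) ≃ₗ[A] (↑(Dual2.HDI A 𝔪 K i) →ₗ[A] E)) := by
  obtain ⟨k, N, ⟨u⟩, ⟨d⟩⟩ := exists_model_dual hω hn hf K hK i
  obtain ⟨b⟩ := nonempty_completion_equiv_bidual hf ((Fin k → A) ⧸ N)
  exact ⟨((AdicCompletion.congr 𝔪 u).restrictScalars A).trans (b.trans (d.symm.arrowCongr (LinearEquiv.refl A E)))⟩

theorem annihilator_hom_eq (K : Dual.D A) (hK : ∀ i, Module.Finite A (Dual.HD A K i)) (i : ℤ) :
    Module.annihilator A (K ⟶ ω⟦-i⟧) = Module.annihilator A ↑(Dual2.HDI A 𝔪 K i) := by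
  obtain ⟨k, N, ⟨u⟩, ⟨d⟩⟩ := exists_model_dual hω hn hf K hK i
  rw [u.annihilator_eq, d.annihilator_eq, ← Groth.Agent.LC.annihilator_dual hf]

theorem subsingleton_hom_iff (K : Dual.D A) (hK : ∀ i, Module.Finite A (Dual.HD A K i)) (i : ℤ) :
    Subsingleton (K ⟶ ω⟦-i⟧) ↔ Subsingleton ↑(Dual2.HDI A 𝔪 K i) := by
  rw [← Module.annihilator_eq_top_iff (R := A), annihilator_hom_eq hω hn hf K hK i,
    Module.annihilator_eq_top_iff]

omit hf in
/-- Local cohomology is the cohomology of the colimit description. -/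
theorem nonempty_H_equiv_HDI (M : Type u) [AddCommGroup M] [Module A M] (i : ℕ) :
    Nonempty (LocCoh.H 𝔪 i M ≃ₗ[A] ↑(Dual2.HDI A 𝔪 (Dual.inD A M) i)) := by
  haveI := hasRgammaI 𝔪
  obtain ⟨e₁⟩ := nonempty_H_equiv_HD 𝔪 M i
  obtain ⟨e₂⟩ := nonempty_HDI_equiv_HD 𝔪 (Dual.inD A M) (i : ℤ)
  exact ⟨e₁.trans e₂.symm⟩

omit hω hn hf in
/-- For torsion modules `RΓ` does nothing. -/
theorem nonempty_HDI_equiv_of_torsion (N : Type u) [AddCommGroup N] [Module A N]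
    (hN : LocCoh.IsPowerTorsion 𝔪 N) (i : ℤ) :
    Nonempty (↑(Dual2.HDI A 𝔪 (Dual.inD A N) i) ≃ₗ[A] Dual.HD A (Dual.inD A N) i) := by
  haveI := hasRgammaI 𝔪
  have ht : ∀ j : ℤ, LocCoh.IsPowerTorsion 𝔪 (Dual.HD A (Dual.inD A N) j) := fun j => by
    by_cases hj : j = 0
    · subst hj
      exact isPowerTorsion_of_equiv
        ((DerivedCategory.singleFunctorCompHomologyFunctorIso (ModuleCat.{u} A) 0).app (ModuleCat.of A N)).toLinearEquiv.symm hN
    · haveI := Groth.Agent.H9Misc.DRingTel.subsingleton_homology_inD (A := A) N hj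
      exact fun x => ⟨0, fun a _ => Subsingleton.elim _ _⟩
  haveI := isIso_ε_of_torsion 𝔪 (Dual.inD A N) ht
  obtain ⟨e₂⟩ := nonempty_HDI_equiv_HD 𝔪 (Dual.inD A N) i
  exact ⟨e₂.trans ((DerivedCategory.homologyFunctor (ModuleCat.{u} A) i).mapIso
    (asIso ((DRing.RgammaIε 𝔪).app (Dual.inD A N)))).toLinearEquiv⟩

theorem finiteLength_duality (N : Type u) [AddCommGroup N] [Module A N] (hN : IsFiniteLength A N) :
    (∀ i : ℤ, i ≠ 0 → Subsingleton (Dual.inD A N ⟶ ω⟦i⟧)) ∧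
      Nonempty ((Dual.inD A N ⟶ ω) ≃ₗ[A] (N →ₗ[A] E)) := by
  obtain ⟨_, _⟩ := isFiniteLength_iff_isNoetherian_isArtinian.1 hN
  have hfin : ∀ i, Module.Finite A (Dual.HD A (Dual.inD A N) i) := finite_HD_inD N
  have ht := Groth.Agent.LC.isPowerTorsion_of_isArtinian (R := A) N
  refine ⟨fun i hi => ?_, ?_⟩
  · obtain ⟨e⟩ := nonempty_HDI_equiv_of_torsion N ht (-i)
    haveI := Groth.Agent.H9Misc.DRingTel.subsingleton_homology_inD (A := A) N (neg_ne_zero.2 hi)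
    have h := (subsingleton_hom_iff hω hn hf _ hfin (-i)).2 e.toEquiv.subsingleton
    rwa [neg_neg] at h
  · obtain ⟨k, P, ⟨u⟩, ⟨d⟩⟩ := exists_model_dual hω hn hf (Dual.inD A N) hfin 0
    obtain ⟨e⟩ := nonempty_HDI_equiv_of_torsion N ht 0
    let q : Dual.HD A (Dual.inD A N) 0 ≃ₗ[A] N :=
      ((DerivedCategory.singleFunctorCompHomologyFunctorIso (ModuleCat.{u} A) 0).app (ModuleCat.of A N)).toLinearEquiv
    let c : (((Fin k → A) ⧸ P) →ₗ[A] E) ≃ₗ[A] N := (d.symm.trans e).trans q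
    let b : ((((Fin k → A) ⧸ P) →ₗ[A] E) →ₗ[A] E) ≃ₗ[A] (N →ₗ[A] E) :=
      LinearEquiv.arrowCongr c (LinearEquiv.refl A E)
    have hND : IsFiniteLength A (N →ₗ[A] E) := Module.length_ne_top_iff.1
      ((Groth.Agent.LC.length_dual hf N hN) ▸ Module.length_ne_top_iff.2 hN)
    have hP : IsFiniteLength A ((Fin k → A) ⧸ P) := by
      let M := (Fin k → A) ⧸ P
      let a : M →ₗ[A] (M →ₗ[A] E) →ₗ[A] E := LinearMap.applyₗ
      have ha : Function.Injective a := Groth.Agent.LC.applyₗ_injective hf M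
      let g : M →ₗ[A] (N →ₗ[A] E) := b.toLinearMap.comp a
      have hg : Function.Injective g := b.injective.comp ha
      exact Module.length_ne_top_iff.1 (ne_top_of_le_ne_top
        (Module.length_ne_top_iff.2 hND) (Module.length_le_of_injective g hg))
    let z : (Dual.inD A N ⟶ ω) ≃ₗ[A] (Dual.inD A N ⟶ ω⟦-(0 : ℤ)⟧) :=
      Linear.homCongr A (Iso.refl _) ((shiftFunctorZero' (Dual.D A) (-(0 : ℤ)) neg_zero).app ω).symm
    exact ⟨z.trans (u.trans ((LinearEquiv.ofBijective _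
      (Groth.Agent.LC.applyₗ_bijective_of_isFiniteLength hf _ hP)).trans b))⟩

theorem nonempty_iso_hull (h0 : ringKrullDim A = 0) : Nonempty (ω ≅ Dual.inD A E) := by
  haveI := hasRgammaI 𝔪
  haveI : Ring.KrullDimLE 0 A := Ring.krullDimLE_iff.2 h0.le
  haveI : IsArtinianRing A := IsNoetherianRing.isArtinianRing_of_krullDimLE_zero
  have ht : ∀ i, LocCoh.IsPowerTorsion 𝔪 (Dual.HD A ω i) := fun i => by
    haveI := hω.finite_cohomology i
    haveI : IsArtinian A (Dual.HD A ω i) := isArtinian_of_fg_of_artinian'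
    exact Groth.Agent.LC.isPowerTorsion_of_isArtinian (R := A) _
  haveI := isIso_ε_of_torsion 𝔪 ω ht
  let ε := asIso ((DRing.RgammaIε 𝔪).app ω)
  have hz : ∀ i : ℤ, i ≠ 0 → IsZero ((DerivedCategory.homologyFunctor (ModuleCat.{u} A) i).obj ω) := fun i hi => by
    obtain ⟨e⟩ := nonempty_HDI_equiv_HD 𝔪 ω i
    haveI := subsingleton_HDI_ne hω hn i hi
    haveI : Subsingleton (Dual.HD A ((DRing.RgammaI 𝔪).obj ω) i) := e.toEquiv.symm.subsingleton
    exact IsZero.of_iso (ModuleCat.isZero_of_subsingleton _)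
      ((DerivedCategory.homologyFunctor (ModuleCat.{u} A) i).mapIso ε.symm)
  haveI : ω.IsLE 0 := (DerivedCategory.isLE_iff _ _).2 fun i hi => hz i (by omega)
  haveI : ω.IsGE 0 := (DerivedCategory.isGE_iff _ _).2 fun i hi => hz i (by omega)
  obtain ⟨u⟩ := Groth.Agent.H9Misc.nonempty_iso_single_homology 0 ω
  obtain ⟨v⟩ := nonempty_HD_equiv_hull hω hn hf
  exact ⟨u ≪≫ (DerivedCategory.singleFunctor (ModuleCat.{u} A) 0).mapIso
    ((DerivedCategory.homologyFunctor (ModuleCat.{u} A) 0).mapIso ε.symm ≪≫ v.toModuleIso)⟩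

end Groth.Agent.RGammaI
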