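import Groth.Agent.RGammaI.FiniteDegree
import Groth.Agent.RGammaI.DualRows
import Groth.Agent.KFlatLib.Ring.DualizingDimension
import Groth.Agent.KFlatLib.Ring.LTensorCxBridge
import Groth.Agent.H9Misc.DRingLTensorCx

/-! Annihilation of maps from modules with supports into complexes, by duality. -/

set_option linter.style.haveILetI false
set_option maxHeartbeats 1000000
set_option backward.isDefEq.respectTransparency false

universe u

open CategoryTheory CategoryTheory.Limits Pretriangulated MonoidalCategory Opposite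

attribute [local instance] HasDerivedCategory.standard

namespace Groth.Agent.RGammaI.SuppDual

open Groth.Agent.KFlatLib

variable {A : Type u} [CommRing A]

/-- A scalar killing an object kills its cohomology. -/
lemma smul_hd_eq_zero {r : A} {Y : Dual.D A} (h : r • 𝟙 Y = 0) (m : ℤ) (x : Dual.HD A Y m) : r • x = 0 := by
  have h1 := congrArg (DerivedCategory.homologyFunctor (ModuleCat.{u} A) m).map h
  rw [Functor.map_smul, CategoryTheory.Functor.map_id, Functor.map_zero] at h1
  exact LinearMap.congr_fun (congrArg ModuleCat.Hom.hom h1) x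

lemma smul_id_inD {r : A} (N : Type u) [AddCommGroup N] [Module A N] (hr : ∀ z : N, r • z = 0) :
    r • 𝟙 (Dual.inD A N) = 0 := by
  have h1 : r • 𝟙 (ModuleCat.of A N) = 0 := ModuleCat.hom_ext (LinearMap.ext hr)
  have h2 := congrArg (DerivedCategory.singleFunctor (ModuleCat.{u} A) 0).map h1
  rwa [Functor.map_smul, CategoryTheory.Functor.map_id, Functor.map_zero] at h2

variable [IsNoetherianRing A]
variable [DTen.HasLTen A] [DTen.HasRHom A] [DTen.HasLTen₃ A] [DTen.IsSymMonoidal A]

/-- The tensor product of two finite modules: finite cohomology, in degrees `≤ 0`. -/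
lemma ten_modules (L N : Type u) [AddCommGroup L] [Module A L] [Module.Finite A L] [AddCommGroup N]
    [Module A N] [Module.Finite A N] :
    ((DTen.LTen₂ A).obj (Dual.inD A L, Dual.inD A N)).IsLE 0 ∧
      ∀ m, Module.Finite A (Dual.HD A ((DTen.LTen₂ A).obj (Dual.inD A L, Dual.inD A N)) m) := by
  let t := DerivedCategory.TStructure.t (C := ModuleCat.{u} A)
  let Y := (DTen.LTen₂ A).obj (Dual.inD A L, Dual.inD A N)
  refine ⟨(DerivedCategory.isLE_iff _ _).2 fun m hm => ?_, fun m => ?_⟩
  · haveI : DerivedCategory.IsLE (Dual.inD A L) 0 := inferInstance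
    haveI : DerivedCategory.IsLE (Dual.inD A N) 0 := inferInstance
    let Y' := (t.truncGE 1).obj Y
    haveI : Y'.IsGE 1 := t.isGE_truncGE_obj ..
    haveI : ((DTen.RHomR A (Dual.inD A N)).obj Y').IsGE 1 := by
      have := isGE_RHomR (Dual.inD A N) Y' 0 1
      rwa [sub_zero] at this
    have h0 : (t.truncGEπ 1).app Y = 0 := (rhomLEquiv (Dual.inD A L) (Dual.inD A N) Y').injective
      ((t.zero _ 0 1 (by omega)).trans (t.zero _ 0 1 (by omega)).symm)
    haveI : IsIso ((DerivedCategory.homologyFunctor (ModuleCat.{u} A) m).map ((t.truncGEπ 1).app Y)) :=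
      H9Misc.isIso_map_truncGEπ 1 m (by omega) Y
    exact (IsZero.iff_id_eq_zero _).2 ((cancel_mono
      ((DerivedCategory.homologyFunctor (ModuleCat.{u} A) m).map ((t.truncGEπ 1).app Y))).1 (by
        rw [h0, Functor.map_zero, comp_zero, comp_zero]))
  · let E := (HomologicalComplex.single (ModuleCat.{u} A) (ComplexShape.up ℤ) 0).obj (ModuleCat.of A N)
    haveI : DRing.HasLTensorCx A E := (H9Misc.DRingLTensorCx.resTensorCx E).hasLeftDerivedFunctor DerivedCategory.Q
    let eN : DerivedCategory.Q.obj E ≅ Dual.inD A N :=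
      ((DerivedCategory.singleFunctorIsoCompQ (ModuleCat.{u} A) 0).app (ModuleCat.of A N)).symm
    obtain ⟨c⟩ := nonempty_LTensorCx_obj_iso E (Dual.inD A L)
    have hpc := H9Misc.DRingLTensorCx.isPseudoCoherent _
      ((Groth.Agent.S6942.result A 0 (Dual.inD A L) L).2.2 inferInstance) E
      (H9Misc.DRingPC.of_iso' eN.symm ((Groth.Agent.S6942.result A 0 (Dual.inD A N) N).2.2 inferInstance))
    haveI := ((Groth.Agent.S6942.result A m _ A).1.1 ((H9Misc.DRingPC.pc'_iff _).1 hpc m)).2 m le_rfl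
    exact Module.Finite.equiv ((DerivedCategory.homologyFunctor (ModuleCat.{u} A) m).mapIso
      (c ≪≫ (DTen.LTen₂ A).mapIso (Iso.prod (Iso.refl _) eN))).toLinearEquiv

variable {ω : Dual.D A} {n : PrimeSpectrum A → ℤ}

/-- Maps into the dualizing complex out of an object in degrees `≤ 0` supported in high degree. -/
lemma subsingleton_hom_of_supp (hn : IsExtDegree ω n) (a : ℤ) [ω.IsGE a] (i : ℤ) :
    ∀ (d : ℕ) (Y : Dual.D A), Y.IsLE 0 → (∀ m, Module.Finite A (Dual.HD A Y m)) →
      (∀ m : ℤ, ∀ P ∈ Module.support A (Dual.HD A Y m), i < n P) →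
      ∀ k : ℤ, k ≤ 0 → Y.IsLE k → k - (a - i) < d → Subsingleton (Y ⟶ ω⟦i⟧) := by
  let t := DerivedCategory.TStructure.t (C := ModuleCat.{u} A)
  haveI : DerivedCategory.IsGE (ω⟦i⟧) (a - i) := t.isGE_shift ω a i (a - i) (by omega)
  intro d
  induction d with
  | zero =>
    intro Y _ _ _ k _ hk hlt
    haveI := hk
    exact subsingleton_of_forall_eq 0 fun φ => t.zero φ k (a - i) (by push_cast at hlt; omega)
  | succ d ih =>
    intro Y h0 hfin hsupp k hk0 hk hlt
    haveI := hk
    by_cases hlow : k < a - i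
    · exact subsingleton_of_forall_eq 0 fun φ => t.zero φ k (a - i) hlow
    obtain ⟨T, hT, rfl, h₁, h₃, hf₁, hf₃, -, hl₃⟩ := exists_trunc_finite hfin (k - 1)
    haveI := h₁
    haveI : T.obj₃.IsGE k := by rw [sub_add_cancel] at h₃; exact h₃
    haveI := hl₃ k hk
    haveI : T.obj₁.IsLE 0 := t.isLE_of_le _ (k - 1) 0 (by omega)
    let H := fun j => DerivedCategory.homologyFunctor (ModuleCat.{u} A) j
    have s₁ : Subsingleton (T.obj₁ ⟶ ω⟦i⟧) := ih T.obj₁ inferInstance hf₁ (fun m P hP => by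
      by_cases hm : m ≤ k - 1
      · haveI := (DerivedCategory.HomologySequence.mono_homologyMap_mor₁_iff _ hT (m - 1) m (by omega)).2
          ((DerivedCategory.isZero_of_isGE T.obj₃ k (m - 1) (by omega)).eq_of_src _ _)
        exact hsupp m P (Module.support_subset_of_injective ((H m).map T.mor₁).hom
          ((ModuleCat.mono_iff_injective _).1 inferInstance) hP)
      · haveI := ModuleCat.subsingleton_of_isZero (DerivedCategory.isZero_of_isLE T.obj₁ (k - 1) m (by omega))
        simp [Module.support_eq_empty] at hP) (k - 1) (by omega) inferInstance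
      (by push_cast at hlt; omega)
    haveI := (DerivedCategory.HomologySequence.epi_homologyMap_mor₂_iff _ hT k (k + 1) rfl).2
      ((DerivedCategory.isZero_of_isLE T.obj₁ (k - 1) (k + 1) (by omega)).eq_of_tgt _ _)
    obtain ⟨u⟩ := H9Misc.nonempty_iso_single_homology k T.obj₃
    let N := (H k).obj T.obj₃
    haveI : Module.Finite A N := hf₃ k
    haveI s₃' : Subsingleton (Dual.inD A N ⟶ ω⟦i + k⟧) := subsingleton_hom_module_of_lt hn N (i + k) fun P hP => by
      have := hsupp k P (Module.support_subset_of_surjective ((H k).map T.mor₂).hom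
        ((ModuleCat.epi_iff_surjective _).1 inferInstance) hP)
      omega
    let v : T.obj₃ ≅ (Dual.inD A N)⟦-k⟧ := u ≪≫
      (((DerivedCategory.singleFunctors (ModuleCat.{u} A)).shiftIso (-k) k 0 (by omega)).app N).symm
    have s₃ : Subsingleton (T.obj₃ ⟶ ω⟦i⟧) := subsingleton_of_forall_eq 0 fun φ => by
      rw [← cancel_epi v.inv, comp_zero]
      apply (shiftFunctor (Dual.D A) k).map_injective
      rw [Functor.map_zero]
      let e₁ : ((Dual.inD A N)⟦-k⟧)⟦k⟧ ≅ Dual.inD A N :=
        (shiftFunctorCompIsoId (Dual.D A) (-k) k (by omega)).app _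
      let e₂ : (ω⟦i⟧)⟦k⟧ ≅ ω⟦i + k⟧ := ((shiftFunctorAdd (Dual.D A) i k).app ω).symm
      rw [← cancel_epi e₁.inv, ← cancel_mono e₂.hom, comp_zero, zero_comp]
      exact Subsingleton.elim _ _
    refine subsingleton_of_forall_eq 0 fun φ => ?_
    obtain ⟨ψ, hψ⟩ := Triangle.yoneda_exact₂ _ hT φ (Subsingleton.elim _ _)
    rw [hψ, Subsingleton.elim ψ 0, comp_zero]

variable (T T' : Set (PrimeSpectrum A))

/-- `J` kills the maps out of shifts `≥ -s` of finite modules supported in `T`. -/
def Kills (J : Ideal A) (s : ℤ) (Z : Dual.D A) : Prop :=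
  ∀ i : ℤ, i ≤ s → ∀ (L : Type u) [AddCommGroup L] [Module A L] [Module.Finite A L],
    Module.support A L ⊆ T → ∀ r ∈ J, ∀ φ : (Dual.inD A L)⟦-i⟧ ⟶ Z, r • φ = 0

/-- Some ideal with zero locus in `T'` kills. -/
def ExKills (s : ℤ) (Z : Dual.D A) : Prop :=
  ∃ J : Ideal A, PrimeSpectrum.zeroLocus (J : Set A) ⊆ T' ∧ Kills T J s Z

variable {T T'}

omit [IsNoetherianRing A] [DTen.HasLTen A] [DTen.HasRHom A] [DTen.HasLTen₃ A] [DTen.IsSymMonoidal A] in
lemma ExKills.of_iso {s : ℤ} {Z Z' : Dual.D A} (e : Z ≅ Z') (h : ExKills T T' s Z) : ExKills T T' s Z' := by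
  obtain ⟨J, hJ, hK⟩ := h
  refine ⟨J, hJ, fun i hi L _ _ _ hL r hr φ => ?_⟩
  rw [← cancel_mono e.inv, Linear.smul_comp, zero_comp]
  exact hK i hi L hL r hr _

omit [IsNoetherianRing A] [DTen.HasLTen A] [DTen.HasRHom A] [DTen.HasLTen₃ A] [DTen.IsSymMonoidal A] in
lemma ExKills.middle {s : ℤ} (Tr : Triangle (Dual.D A)) (hTr : Tr ∈ distTriang _) (h₁ : ExKills T T' s Tr.obj₁)
    (h₃ : ExKills T T' s Tr.obj₃) : ExKills T T' s Tr.obj₂ := by
  obtain ⟨J, hJ, hK⟩ := h₁
  obtain ⟨J', hJ', hK'⟩ := h₃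
  refine ⟨J * J', ?_, fun i hi L _ _ _ hL r hr φ => ?_⟩
  · rw [PrimeSpectrum.zeroLocus_mul]
    exact Set.union_subset hJ hJ'
  refine Submodule.mul_induction_on hr (fun b hb c hc => ?_) fun u v hu hv => by rw [add_smul, hu, hv, add_zero]
  obtain ⟨ψ, hψ⟩ := Triangle.coyoneda_exact₂ _ hTr (c • φ) (by rw [Linear.smul_comp]; exact hK' i hi L hL c hc _)
  rw [mul_smul, hψ, ← Linear.smul_comp, hK i hi L hL b hb ψ, zero_comp]

omit [DTen.HasLTen A] [DTen.HasRHom A] [DTen.HasLTen₃ A] [DTen.IsSymMonoidal A] in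
lemma exKills_of_isGE {s c : ℤ} (Z : Dual.D A) [Z.IsGE c] (h : s < c) : ExKills T T' s Z := by
  refine ⟨⊤, by simp, fun i hi L _ _ _ _ r _ φ => ?_⟩
  let t := DerivedCategory.TStructure.t (C := ModuleCat.{u} A)
  haveI : DerivedCategory.IsLE ((Dual.inD A L)⟦-i⟧) i := t.isLE_shift _ 0 (-i) i (by omega)
  rw [t.zero φ i c (by omega), smul_zero]

section Dual

variable (ω)

/-- The dual with respect to `ω`. -/
noncomputable abbrev dd (K : Dual.D A) : Dual.D A := (DTen.RHomR A K).obj ω

variable {ω}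

/-- The dual of a finite module with no bad point in its support. -/
lemma exKills_dd_module (hn : IsExtDegree ω n) (a : ℤ) [ω.IsGE a] (hT' : StableUnderSpecialization T')
    (j s : ℤ) (N : Type u) [AddCommGroup N] [Module A N] [hN : Module.Finite A N]
    (h : ∀ p ∈ Module.support A N, p ∉ T' → ∀ q ∈ T, p ≤ q → j + s < n q) :
    ExKills T T' s (dd ω ((Dual.inD A N)⟦-j⟧)) := by
  revert h
  refine IsNoetherianRing.induction_on_isQuotientEquivQuotientPrime (A := A) (M := N) hN
    (motive := fun N _ _ _ => (∀ p ∈ Module.support A N, p ∉ T' → ∀ q ∈ T, p ≤ q → j + s < n q) →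
      ExKills T T' s (dd ω ((Dual.inD A N)⟦-j⟧))) ?_ ?_ ?_
  · intro N _ _ _ _ _
    have hz : IsZero ((Dual.inD A N)⟦-j⟧) := (shiftFunctor (Dual.D A) (-j)).map_isZero
      ((DerivedCategory.singleFunctor (ModuleCat.{u} A) 0).map_isZero (ModuleCat.isZero_of_subsingleton _))
    refine ⟨⊤, by simp, fun i hi L _ _ _ _ r _ φ => ?_⟩
    have : φ = 0 := (rhomLEquiv _ _ _).symm.injective (by
      haveI := preservesZeroMorphisms_LTen ((Dual.inD A L)⟦-i⟧)
      exact (((DTen.LTen A).obj ((Dual.inD A L)⟦-i⟧)).map_isZero hz).eq_of_src _ _)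
    rw [this, smul_zero]
  · intro N _ _ _ p e hN
    have hp : p ∈ Module.support A N := by
      rw [e.support_eq, Module.support_eq_zeroLocus, Ideal.annihilator_quotient]
      exact fun _ hx => hx
    have eD := ((DTen.RHom A).mapIso ((shiftFunctor (Dual.D A) (-j)).mapIso
      ((DerivedCategory.singleFunctor (ModuleCat.{u} A) 0).mapIso e.toModuleIso)).op).app ω
    refine ExKills.of_iso eD ?_
    obtain ⟨d⟩ := FiniteDegree.nonempty_RHomR_shift_source (Dual.inD A (A ⧸ p.asIdeal)) (-j)
    let dω : dd ω ((Dual.inD A (A ⧸ p.asIdeal))⟦-j⟧) ≅ (dd ω (Dual.inD A (A ⧸ p.asIdeal)))⟦- -j⟧ := d.app ω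
    refine ExKills.of_iso dω.symm ?_
    by_cases hpT : p ∈ T'
    · refine ⟨p.asIdeal, fun Q hQ => hT' ((PrimeSpectrum.le_iff_specializes _ _).1 hQ) hpT,
        fun i hi L _ _ _ hL r hr φ => ?_⟩
      have h1 := FiniteDegree.RHomMap_smul_id r (Dual.inD A (A ⧸ p.asIdeal)) ω
      rw [smul_id_inD (r := r) (A ⧸ p.asIdeal) (fun z => by
        obtain ⟨z, rfl⟩ := Ideal.Quotient.mk_surjective z
        exact Ideal.Quotient.eq_zero_iff_mem.2 (Ideal.mul_mem_right z _ hr))] at h1
      have h2 : r • 𝟙 (dd ω (Dual.inD A (A ⧸ p.asIdeal))) = 0 := by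
        rw [← h1]
        haveI := preservesZeroMorphisms_RHom (A := A) ω
        exact ((DTen.RHom A).flip.obj ω).map_zero _ _
      have h3 : r • 𝟙 ((dd ω (Dual.inD A (A ⧸ p.asIdeal)))⟦- -j⟧) = 0 := by
        rw [← CategoryTheory.Functor.map_id, ← Functor.map_smul, h2, Functor.map_zero]
      rw [← Category.comp_id φ, ← Linear.comp_smul, h3, comp_zero]
    · refine ⟨⊤, by simp, fun i hi L _ _ _ hL r _ φ => ?_⟩
      obtain ⟨hY0, hYf⟩ := ten_modules (A := A) L (A ⧸ p.asIdeal)
      let Y := (DTen.LTen₂ A).obj (Dual.inD A L, Dual.inD A (A ⧸ p.asIdeal))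
      have hs : ∀ m : ℤ, ∀ P ∈ Module.support A (Dual.HD A Y m), j + i < n P := fun m P hP => by
        have key : ∀ r : A, r • 𝟙 Y = 0 → r ∈ P.asIdeal := fun r hr =>
          Module.annihilator_le_of_mem_support hP (Module.mem_annihilator.2 (smul_hd_eq_zero hr m))
        have hpP : p ≤ P := fun r hr => key r (by
          rw [← FiniteDegree.ten_smul_id_right, smul_id_inD (r := r) (A ⧸ p.asIdeal) (fun z => by
            obtain ⟨z, rfl⟩ := Ideal.Quotient.mk_surjective z
            exact Ideal.Quotient.eq_zero_iff_mem.2 (Ideal.mul_mem_right z _ hr))]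
          haveI := preservesZeroMorphisms_LTen (Dual.inD A L)
          exact ((DTen.LTen A).obj _).map_zero _ _)
        have hLP : P ∈ Module.support A L := by
          rw [Module.support_eq_zeroLocus]
          intro r hr
          refine key r ?_
          rw [← ten_smul_id, smul_id_inD (r := r) L (fun z => Module.mem_annihilator.1 hr z)]
          haveI : (DTen.tensorRightD A (Dual.inD A (A ⧸ p.asIdeal))).PreservesZeroMorphisms := by
            haveI := preservesZeroMorphisms_LTen (Dual.inD A (A ⧸ p.asIdeal))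
            exact Functor.preservesZeroMorphisms_of_iso (tenFlipIso _)
          exact (DTen.tensorRightD A _).map_zero _ _
        have := hN p hp hpT P (hL hLP) hpP
        omega
      obtain ⟨sh⟩ := RGammaI.ShriekDual.nonempty_RHomR_shift (Dual.inD A (A ⧸ p.asIdeal)) (j + i)
      haveI hsub : Subsingleton (Y ⟶ ω⟦j + i⟧) :=
        subsingleton_hom_of_supp hn a (j + i) ((0 - (a - (j + i))).toNat + 1) Y hY0 hYf hs 0
          le_rfl hY0 (by push_cast; omega)
      haveI : Subsingleton (Dual.inD A L ⟶ (dd ω (Dual.inD A (A ⧸ p.asIdeal)))⟦j + i⟧) := by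
        have h4 : Subsingleton (Dual.inD A L ⟶ dd (ω⟦j + i⟧) (Dual.inD A (A ⧸ p.asIdeal))) :=
          (rhomLEquiv (Dual.inD A L) (Dual.inD A (A ⧸ p.asIdeal)) (ω⟦j + i⟧)).symm.injective.subsingleton
        exact @Equiv.subsingleton _ _ (Iso.homCongr (Iso.refl (Dual.inD A L)) (sh.app ω)).symm h4
      have : φ = 0 := by
        apply (shiftFunctor (Dual.D A) i).map_injective
        rw [Functor.map_zero]
        let e₁ : ((Dual.inD A L)⟦-i⟧)⟦i⟧ ≅ Dual.inD A L := (shiftFunctorCompIsoId (Dual.D A) (-i) i (by omega)).app _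
        let e₂ : ((dd ω (Dual.inD A (A ⧸ p.asIdeal)))⟦- -j⟧)⟦i⟧ ≅ (dd ω (Dual.inD A (A ⧸ p.asIdeal)))⟦j + i⟧ :=
          ((shiftFunctorAdd' (Dual.D A) (- -j) i (j + i) (by omega)).app _).symm
        rw [← cancel_epi e₁.inv, ← cancel_mono e₂.hom, comp_zero, zero_comp]
        exact Subsingleton.elim _ _
      rw [this, smul_zero]
  · intro N₁ _ _ _ N₂ _ _ _ N₃ _ _ _ f g hf hg hfg h1 h3 hN
    let C : ShortComplex (ModuleCat.{u} A) :=
      ShortComplex.mk (ModuleCat.ofHom f) (ModuleCat.ofHom g) (ModuleCat.hom_ext hfg.linearMap_comp_eq_zero)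
    have hC : C.ShortExact :=
      { exact := (ShortComplex.ShortExact.moduleCat_exact_iff_function_exact _).2 hfg
        mono_f := (ModuleCat.mono_iff_injective _).2 hf
        epi_g := (ModuleCat.epi_iff_surjective _).2 hg }
    have hsh := Triangle.shift_distinguished _ hC.singleTriangle_distinguished (-j)
    obtain ⟨c, hc⟩ := exists_triangle_RHomMap _ hsh ω
    exact ExKills.middle _ hc (h3 fun p hp => hN p (Module.support_subset_of_surjective g hg hp))
      (h1 fun p hp => hN p (Module.support_subset_of_injective f hf hp))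

/-- The condition on the dual. -/
def Cond (T T' : Set (PrimeSpectrum A)) (n : PrimeSpectrum A → ℤ) (s : ℤ) (X : Dual.D A) : Prop :=
  ∀ (j : ℤ) (p q : PrimeSpectrum A), p ∈ Module.support A (Dual.HD A X j) → p ∉ T' → q ∈ T → p ≤ q → j + s < n q

theorem exKills_dd (hn : IsExtDegree ω n) (a : ℤ) [ω.IsGE a] (hT' : StableUnderSpecialization T') (s : ℤ) :
    ∀ (k : ℕ) (X : Dual.D A) (b : ℤ), X.IsLE b → b - (a - s) < k → (∀ m, Module.Finite A (Dual.HD A X m)) →
      Cond T T' n s X → ExKills T T' s (dd ω X) := by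
  intro k
  induction k with
  | zero =>
    intro X b hb hlt _ _
    haveI := hb
    haveI := isGE_RHomR X ω b a
    exact exKills_of_isGE (c := a - b) _ (by push_cast at hlt; omega)
  | succ k ih =>
    intro X b hb hlt hfin hc
    haveI := hb
    obtain ⟨Tr, hTr, rfl, h₁, h₃, hf₁, hf₃, -, hl₃⟩ := exists_trunc_finite hfin (b - 1)
    haveI := h₁
    haveI : Tr.obj₃.IsGE b := by rw [sub_add_cancel] at h₃; exact h₃
    haveI := hl₃ b hb
    let H := fun j => DerivedCategory.homologyFunctor (ModuleCat.{u} A) j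
    have c₁ : Cond T T' n s Tr.obj₁ := fun j p q hp => by
      by_cases hj : j ≤ b - 1
      · haveI := (DerivedCategory.HomologySequence.mono_homologyMap_mor₁_iff _ hTr (j - 1) j (by omega)).2
          ((DerivedCategory.isZero_of_isGE Tr.obj₃ b (j - 1) (by omega)).eq_of_src _ _)
        exact hc j p q (Module.support_subset_of_injective ((H j).map Tr.mor₁).hom
          ((ModuleCat.mono_iff_injective _).1 inferInstance) hp)
      · haveI := ModuleCat.subsingleton_of_isZero (DerivedCategory.isZero_of_isLE Tr.obj₁ (b - 1) j (by omega))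
        simp [Module.support_eq_empty] at hp
    haveI := (DerivedCategory.HomologySequence.epi_homologyMap_mor₂_iff _ hTr b (b + 1) rfl).2
      ((DerivedCategory.isZero_of_isLE Tr.obj₁ (b - 1) (b + 1) (by omega)).eq_of_tgt _ _)
    obtain ⟨u⟩ := H9Misc.nonempty_iso_single_homology b Tr.obj₃
    let N := (H b).obj Tr.obj₃
    haveI : Module.Finite A N := hf₃ b
    let v : Tr.obj₃ ≅ (Dual.inD A N)⟦-b⟧ := u ≪≫
      (((DerivedCategory.singleFunctors (ModuleCat.{u} A)).shiftIso (-b) b 0 (by omega)).app N).symm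
    have g₃ : ExKills T T' s (dd ω Tr.obj₃) := ExKills.of_iso (((DTen.RHom A).mapIso v.op).app ω)
      (exKills_dd_module hn a hT' b s N fun p hp hpT q hq hpq => hc b p q
        (Module.support_subset_of_surjective ((H b).map Tr.mor₂).hom
          ((ModuleCat.epi_iff_surjective _).1 inferInstance) hp) hpT hq hpq)
    obtain ⟨c, hc'⟩ := exists_triangle_RHomMap Tr hTr ω
    exact ExKills.middle _ hc' g₃ (ih Tr.obj₁ (b - 1) h₁ (by push_cast at hlt; omega) hf₁ c₁)

/-- Annihilation from the supports of the dual. -/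
theorem exKills_of_cond (hω : Dual.IsDualizing A ω) (hn : IsExtDegree ω n) (hT' : StableUnderSpecialization T')
    (s : ℤ) (K : Dual.D A) (c : ℤ) [K.IsGE c] (hK : ∀ m, Module.Finite A (Dual.HD A K m))
    (h : Cond T T' n s (dd ω K)) : ExKills T T' s K := by
  obtain ⟨a, b, hab, hGE, -⟩ := exists_bounds_of_isDualizing hω
  haveI := hGE
  haveI := isLE_RHomR K ω c a b hab
  obtain ⟨e⟩ := nonempty_biduality hω hK
  exact ExKills.of_iso e (exKills_dd hn a hT' s ((b - c - (a - s)).toNat + 1) (dd ω K) (b - c) inferInstance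
    (by push_cast; omega) (finite_hd_RHom_of_finite_hd hK hω.finite_cohomology (finiteInjDim_of_isDualizing hω)) h)

end Dual

end Groth.Agent.RGammaI.SuppDual
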