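import Groth.Prelude.Def_DerCA
import Groth.Prelude.Def_DDual2
import Mathlib.Algebra.Category.ModuleCat.ChangeOfRings
import Mathlib.Algebra.Homology.HomotopyCategory.Pretriangulated
import Mathlib.Algebra.Homology.HomotopyCategory.Shift
import Mathlib.Algebra.Homology.SingleHomology

/-! Extended Čech complexes and extension of scalars. -/

set_option linter.style.haveILetI false
set_option maxHeartbeats 1000000

universe u

open CategoryTheory CategoryTheory.Limits CochainComplex
open scoped TensorProduct

namespace Groth.Agent.RGammaI.CechBase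

variable {A B : Type u} [CommRing A] [CommRing B] (φ : A →+* B) (f : A)

/-- `B ⊗ M ⟶ B ⊗ M_f`. -/
noncomputable def uM (M : ModuleCat.{u} A) :
    (ModuleCat.extendScalars.{u, u, u} φ).obj M ⟶
      (ModuleCat.extendScalars.{u, u, u} φ).obj ((DerCA.locFunctor (Submonoid.powers f)).obj M) :=
  (ModuleCat.extendScalars.{u, u, u} φ).map ((DerCA.locUnit (Submonoid.powers f)).app M)

lemma isLocalizedModule_uM (M : ModuleCat.{u} A) :
    IsLocalizedModule (Submonoid.powers (φ f)) (uM φ f M).hom := by
  letI := φ.toAlgebra
  let S := Submonoid.powers f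
  let T := Submonoid.powers (φ f)
  let BM := B ⊗[A] M
  let BL := B ⊗[A] LocalizedModule S M
  let u : BM →ₗ[B] BL := (LocalizedModule.mkLinearMap S M).baseChange B
  suffices h : IsLocalizedModule T u from h
  have hiso : Function.Bijective fun z : BL => φ f • z := by
    have hb : Function.Bijective fun z : LocalizedModule S M => f • z :=
      (Module.End.isUnit_iff _).1 (IsLocalizedModule.map_units (LocalizedModule.mkLinearMap S M)
        ⟨f, Submonoid.mem_powers f⟩)
    let e : LocalizedModule S M ≃ₗ[A] LocalizedModule S M := LinearEquiv.ofBijective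
      (f • LinearMap.id : LocalizedModule S M →ₗ[A] LocalizedModule S M) hb
    have he : ∀ z : BL, (LinearEquiv.lTensor B e) z = φ f • z := fun z => by
      induction z using TensorProduct.induction_on with
      | zero => simp
      | add x y hx hy => rw [map_add, smul_add, hx, hy]
      | tmul b y =>
        show b ⊗ₜ[A] (f • y) = φ f • (b ⊗ₜ[A] y)
        rw [TensorProduct.tmul_smul, algebra_compatible_smul B f]
        rfl
    exact funext he ▸ (LinearEquiv.lTensor B e).bijective
  refine ⟨?_, ?_, ?_⟩
  · rintro ⟨_, k, rfl⟩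
    have h1 : IsUnit (algebraMap B (Module.End B BL) (φ f)) := (Module.End.isUnit_iff _).2 hiso
    show IsUnit (algebraMap B (Module.End B BL) ((φ f) ^ k))
    rw [map_pow]
    exact h1.pow k
  · intro z
    induction z using TensorProduct.induction_on with
    | zero => exact ⟨⟨0, 1⟩, by simp⟩
    | add x y hx hy =>
      obtain ⟨⟨a, s⟩, ha⟩ := hx
      obtain ⟨⟨c, t⟩, hc⟩ := hy
      refine ⟨⟨t • a + s • c, s * t⟩, ?_⟩
      simp only [Submonoid.smul_def, Submonoid.coe_mul, map_add, map_smul, smul_add] at ha hc ⊢
      rw [← ha, ← hc, smul_smul, smul_smul, mul_comm (t : B)]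
    | tmul b y =>
      obtain ⟨⟨m, ⟨_, k, rfl⟩⟩, hm⟩ := IsLocalizedModule.surj S (LocalizedModule.mkLinearMap S M) y
      refine ⟨⟨b ⊗ₜ[A] m, ⟨(φ f) ^ k, k, rfl⟩⟩, ?_⟩
      simp only [Submonoid.smul_def] at hm ⊢
      show (φ f) ^ k • (b ⊗ₜ[A] y) = b ⊗ₜ[A] (LocalizedModule.mkLinearMap S M m)
      rw [← hm, ← map_pow, TensorProduct.tmul_smul, algebra_compatible_smul B (f ^ k)]
      rfl
  · intro x y hxy
    let N := LocalizedModule T BM
    have hT : ∀ s : S, IsUnit (algebraMap A (Module.End A N) s) := by
      rintro ⟨_, k, rfl⟩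
      refine (Module.End.isUnit_iff _).2 ?_
      have h := (Module.End.isUnit_iff _).1 (IsLocalizedModule.map_units (LocalizedModule.mkLinearMap T BM)
        ⟨(φ f) ^ k, Submonoid.pow_mem _ (Submonoid.mem_powers (φ f)) k⟩)
      have he : (fun z : N => (φ f) ^ k • z) = fun z : N => (f ^ k) • z := funext fun z => by
        rw [← map_pow]
        exact algebraMap_smul B (f ^ k) z
      show Function.Bijective fun z : N => (f ^ k) • z
      rw [← he]
      exact h
    let l : LocalizedModule S M →ₗ[A] N := LocalizedModule.lift S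
      (((LocalizedModule.mkLinearMap T BM).restrictScalars A).comp (TensorProduct.mk A B M 1)) hT
    let g : BL →ₗ[B] N := TensorProduct.AlgebraTensorModule.lift
      ((LinearMap.toSpanSingleton B (LocalizedModule S M →ₗ[A] N) l))
    have hg : ∀ z : BM, g (u z) = LocalizedModule.mkLinearMap T BM z := fun z => by
      induction z using TensorProduct.induction_on with
      | zero => simp
      | add a c ha hc => rw [map_add, map_add, ha, hc, map_add]
      | tmul b m =>
        show (b • l) (LocalizedModule.mkLinearMap S M m) = _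
        rw [LinearMap.smul_apply]
        have hl : l (LocalizedModule.mkLinearMap S M m) = LocalizedModule.mkLinearMap T BM (1 ⊗ₜ[A] m) :=
          LocalizedModule.lift_mk_one S _ hT m
        rw [hl, ← map_smul, TensorProduct.smul_tmul', smul_eq_mul, mul_one]
    exact (IsLocalizedModule.eq_iff_exists T (LocalizedModule.mkLinearMap T BM)).1
      (by rw [← hg x, ← hg y, hxy])

/-- `B ⊗ M_f = (B ⊗ M)_f`. -/
noncomputable def locBaseIso :
    DerCA.locFunctor (Submonoid.powers f) ⋙ ModuleCat.extendScalars.{u, u, u} φ ≅
      ModuleCat.extendScalars.{u, u, u} φ ⋙ DerCA.locFunctor (Submonoid.powers (φ f)) :=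
  NatIso.ofComponents (fun M =>
    haveI := isLocalizedModule_uM φ f M
    (IsLocalizedModule.iso (Submonoid.powers (φ f)) (uM φ f M).hom).symm.toModuleIso) (by
      intro M N g
      haveI := isLocalizedModule_uM φ f M
      haveI := isLocalizedModule_uM φ f N
      refine ModuleCat.hom_ext (IsLocalizedModule.ext (Submonoid.powers (φ f)) (uM φ f M).hom
        (fun t => IsLocalizedModule.map_units (LocalizedModule.mkLinearMap (Submonoid.powers (φ f))
          ((ModuleCat.extendScalars.{u, u, u} φ).obj N)) t) (LinearMap.ext fun z => ?_))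
      have hn : uM φ f M ≫ (ModuleCat.extendScalars.{u, u, u} φ).map ((DerCA.locFunctor (Submonoid.powers f)).map g) =
          (ModuleCat.extendScalars.{u, u, u} φ).map g ≫ uM φ f N := by
        simp only [uM, ← Functor.map_comp]
        exact congrArg (ModuleCat.extendScalars.{u, u, u} φ).map
          ((DerCA.locUnit (Submonoid.powers f)).naturality g).symm
      show (IsLocalizedModule.iso (Submonoid.powers (φ f)) (uM φ f N).hom).symm
          (((ModuleCat.extendScalars.{u, u, u} φ).map ((DerCA.locFunctor (Submonoid.powers f)).map g)).hom ((uM φ f M).hom z)) =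
        ((DerCA.locFunctor (Submonoid.powers (φ f))).map ((ModuleCat.extendScalars.{u, u, u} φ).map g)).hom
          ((IsLocalizedModule.iso (Submonoid.powers (φ f)) (uM φ f M).hom).symm ((uM φ f M).hom z))
      rw [show ((ModuleCat.extendScalars.{u, u, u} φ).map ((DerCA.locFunctor (Submonoid.powers f)).map g)).hom
        ((uM φ f M).hom z) = (uM φ f N).hom (((ModuleCat.extendScalars.{u, u, u} φ).map g).hom z) from
          ConcreteCategory.congr_hom hn z,
        IsLocalizedModule.iso_symm_apply' (Submonoid.powers (φ f)) (uM φ f N).hom _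
          (((ModuleCat.extendScalars.{u, u, u} φ).map g).hom z) 1 (one_smul _ _),
        IsLocalizedModule.iso_symm_apply' (Submonoid.powers (φ f)) (uM φ f M).hom _ z 1 (one_smul _ _)]
      exact (ConcreteCategory.congr_hom ((DerCA.locUnit (Submonoid.powers (φ f))).naturality
        ((ModuleCat.extendScalars.{u, u, u} φ).map g)) z))

lemma locBaseIso_unit (M : ModuleCat.{u} A) :
    uM φ f M ≫ (locBaseIso φ f).hom.app M =
      (DerCA.locUnit (Submonoid.powers (φ f))).app ((ModuleCat.extendScalars.{u, u, u} φ).obj M) := by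
  haveI := isLocalizedModule_uM φ f M
  refine ModuleCat.hom_ext (LinearMap.ext fun z => ?_)
  exact IsLocalizedModule.iso_symm_apply' (Submonoid.powers (φ f)) (uM φ f M).hom ((uM φ f M).hom z) z 1 (one_smul _ _)

section Cone

variable {K L K' L' : DRing.Cx B}

/-- Isomorphic maps have isomorphic cocones. -/
noncomputable def coconeIso (a : K ⟶ L) (a' : K' ⟶ L') (e₁ : K ≅ K') (e₂ : L ≅ L')
    (h : a ≫ e₂.hom = e₁.hom ≫ a') : mappingCocone a ≅ mappingCocone a' :=
  (CategoryTheory.shiftFunctor (DRing.Cx B) (-1 : ℤ)).mapIso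
    { hom := mappingCone.map a a' e₁.hom e₂.hom h
      inv := mappingCone.map a' a e₁.inv e₂.inv (by
        rw [Iso.eq_inv_comp, ← Category.assoc, ← h, Category.assoc, e₂.hom_inv_id, Category.comp_id])
      hom_inv_id := by
        rw [← mappingCone.map_comp]
        simp only [Iso.hom_inv_id]
        exact mappingCone.map_id a
      inv_hom_id := by
        rw [← mappingCone.map_comp]
        simp only [Iso.inv_hom_id]
        exact mappingCone.map_id a' }

end Cone

/-- Extension of scalars of complexes. -/
noncomputable abbrev extC : DRing.Cx A ⥤ DRing.Cx B :=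
  (ModuleCat.extendScalars.{u, u, u} φ).mapHomologicalComplex (ComplexShape.up ℤ)

/-- `locBaseIso` on complexes. -/
noncomputable def locBaseCxIso (K : DRing.Cx A) :
    (extC φ).obj ((DerCA.locCx (Submonoid.powers f)).obj K) ≅
      (DerCA.locCx (Submonoid.powers (φ f))).obj ((extC φ).obj K) :=
  HomologicalComplex.Hom.isoOfComponents (fun n => (locBaseIso φ f).app (K.X n))
    (fun i j _ => ((locBaseIso φ f).hom.naturality (K.d i j)).symm)

/-- Extension of scalars of the extended Čech complex. -/
theorem nonempty_extC_extCech : ∀ (fs : List A) (M : ModuleCat.{u} A) (N : ModuleCat.{u} B),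
    ((ModuleCat.extendScalars.{u, u, u} φ).obj M ≅ N) →
      Nonempty ((extC φ).obj (DerCA.extCech M fs) ≅ DerCA.extCech N (fs.map φ)) := by
  intro fs
  induction fs with
  | nil =>
    intro M N e
    exact ⟨(HomologicalComplex.singleMapHomologicalComplex (ModuleCat.extendScalars.{u, u, u} φ)
      (ComplexShape.up ℤ) 0).app M ≪≫ (HomologicalComplex.single (ModuleCat.{u} B) (ComplexShape.up ℤ) 0).mapIso e⟩
  | cons f fs ih =>
    intro M N e
    obtain ⟨e'⟩ := ih M N e
    let a := DerCA.locCxUnit (Submonoid.powers f) (DerCA.extCech M fs)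
    refine ⟨((extC φ).commShiftIso (-1 : ℤ)).app (mappingCone a) ≪≫
      (CategoryTheory.shiftFunctor (DRing.Cx B) (-1 : ℤ)).mapIso (mappingCone.mapHomologicalComplexIso a (ModuleCat.extendScalars.{u, u, u} φ)) ≪≫
      coconeIso ((extC φ).map a) (DerCA.locCxUnit (Submonoid.powers (φ f)) (DerCA.extCech N (fs.map φ))) e'
        (locBaseCxIso φ f (DerCA.extCech M fs) ≪≫ (DerCA.locCx (Submonoid.powers (φ f))).mapIso e') ?_⟩
    refine HomologicalComplex.hom_ext _ _ fun n => ?_
    refine Eq.trans (b := (DerCA.locUnit (Submonoid.powers (φ f))).app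
      (((extC φ).obj (DerCA.extCech M fs)).X n) ≫ (DerCA.locFunctor (Submonoid.powers (φ f))).map (e'.hom.f n)) ?_ ?_
    · exact (Category.assoc _ _ _).symm.trans (congrArg (· ≫ _) (locBaseIso_unit φ f ((DerCA.extCech M fs).X n)))
    · exact ((DerCA.locUnit (Submonoid.powers (φ f))).naturality (e'.hom.f n)).symm

end Groth.Agent.RGammaI.CechBase
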