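import Groth.Agent.RGammaI.SuppHDTMain
import Groth.Agent.LC.ExtBridge
import Mathlib.Algebra.Homology.DerivedCategory.Ext.Linear

/-! Local cohomology with supports of a module, in the derived category. -/

set_option linter.style.haveILetI false
set_option maxHeartbeats 1000000
set_option backward.isDefEq.respectTransparency false

universe u

open CategoryTheory CategoryTheory.Limits Opposite

attribute [local instance] HasDerivedCategory.standard

namespace Groth.Agent.RGammaI.SuppHDT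

variable {A : Type u} [CommRing A] {T : Set (PrimeSpectrum A)}

section HT

variable (M : Type u) [AddCommGroup M] [Module A M] (i : ℕ)

/-- The diagram of Ext modules. -/
noncomputable abbrev extDiag (T : Set (PrimeSpectrum A)) : (Dual2.IdealsIn T)ᵒᵖ ⥤ ModuleCat.{u} A :=
  localCohomology.diagram (Dual2.idealsInDiagram T) i ⋙ (evaluation (ModuleCat.{u} A) (ModuleCat.{u} A)).obj (ModuleCat.of A M)

/-- One level. -/
noncomputable def lvlHom (Q : Ideal A) :
    (((Ext A (ModuleCat.{u} A) i).obj (op (ModuleCat.of A (A ⧸ Q)))).obj (ModuleCat.of A M)) ≃ₗ[A]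
      (Dual.inD A (A ⧸ Q) ⟶ (Dual.inD A M)⟦(i : ℤ)⟧) :=
  (LC.ExtBridge.bridge (projectiveResolution (ModuleCat.of A (A ⧸ Q))) (ModuleCat.of A M) i).trans
    Abelian.Ext.homLinearEquiv

lemma lvlHom_map {Q Q' : Ideal A} (h : Q' ≤ Q) (x) :
    lvlHom M i Q' ((((Ext A (ModuleCat.{u} A) i).map
      (ModuleCat.ofHom (Submodule.mapQ Q' Q LinearMap.id h)).op).app (ModuleCat.of A M)).hom x) =
      q h ≫ lvlHom M i Q x := by
  let b := LC.ExtBridge.bridge (projectiveResolution (ModuleCat.of A (A ⧸ Q))) (ModuleCat.of A M) i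
  refine (congrArg Abelian.Ext.hom (LC.ExtBridge.bridge_natural_left
    (projectiveResolution (ModuleCat.of A (A ⧸ Q))) (ModuleCat.of A M) i
    (projectiveResolution (ModuleCat.of A (A ⧸ Q'))) (ModuleCat.ofHom (Submodule.mapQ Q' Q LinearMap.id h)) x)).trans ?_
  rw [Abelian.Ext.comp_hom, Abelian.Ext.mk₀_hom, ShiftedHom.mk₀_comp]
  rfl

/-- The comparison at a level. -/
noncomputable def toExt (j : (Dual2.IdealsIn T)ᵒᵖ) :
    (Dual.inD A (A ⧸ j.unop.obj) ⟶ (Dual.inD A M)⟦(i : ℤ)⟧) ≃ₗ[A] (extDiag M i T).obj j :=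
  (lvlHom M i j.unop.obj).symm

lemma toExt_map {j k : (Dual2.IdealsIn T)ᵒᵖ} (f : j ⟶ k)
    (φ : Dual.inD A (A ⧸ j.unop.obj) ⟶ (Dual.inD A M)⟦(i : ℤ)⟧) :
    ((extDiag M i T).map f).hom (toExt M i j φ) = toExt M i k (q (leOfHom f.unop.hom) ≫ φ) := by
  obtain ⟨x, rfl⟩ := (toExt M i j).symm.surjective φ
  rw [LinearEquiv.apply_symm_apply]
  apply (toExt M i k).symm.injective
  rw [LinearEquiv.symm_apply_apply]
  exact lvlHom_map M i (leOfHom f.unop.hom) x

/-- The colimit of the Ext modules is `HDT`. -/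
theorem nonempty_HT_equiv_HDT (T : Set (PrimeSpectrum A)) :
    Nonempty (Dual2.HDT A T (Dual.inD A M) (i : ℤ) ≃ₗ[A] Dual2.HT T i M) := by
  haveI := localCohomology.hasColimitDiagram.{u, u} (Dual2.idealsInDiagram T) i
  let F := extDiag M i T
  let H := localCohomology.diagram (Dual2.idealsInDiagram T) i
  let e : Dual2.HT T i M ≃ₗ[A] ↑(colimit F) :=
    (colimitObjIsoColimitCompEvaluation H (ModuleCat.of A M)).toLinearEquiv
  suffices Nonempty (Dual2.HDT A T (Dual.inD A M) (i : ℤ) ≃ₗ[A] ↑(colimit F)) by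
    obtain ⟨d⟩ := this
    exact ⟨d.trans e.symm⟩
  haveI : PreservesFilteredColimitsOfSize.{u, u} (forget AddCommGrpCat.{u}) := inferInstance
  haveI : PreservesColimitsOfShape (Dual2.IdealsIn T)ᵒᵖ (forget AddCommGrpCat.{u}) :=
    PreservesFilteredColimitsOfSize.preserves_filtered_colimits _
  haveI : PreservesColimit F (forget (ModuleCat.{u} A)) :=
    (comp_preservesColimit (forget₂ (ModuleCat.{u} A) AddCommGrpCat.{u}) (forget AddCommGrpCat.{u}) :
      PreservesColimit F (forget₂ (ModuleCat.{u} A) AddCommGrpCat.{u} ⋙ forget AddCommGrpCat.{u}))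
  let W : ModuleCat.{u + 1} A := ModuleCat.of A (ULift.{u + 1} ↑(colimit F))
  let θ : ∀ j : (Dual2.IdealsIn T)ᵒᵖ, (Dual.inD A (A ⧸ j.unop.obj) ⟶ (Dual.inD A M)⟦(i : ℤ)⟧) →ₗ[A] ↑(colimit F) :=
    fun j => (colimit.ι F j).hom.comp (toExt M i j).toLinearMap
  let c : Cocone (Diag T (Dual.inD A M) (i : ℤ)) :=
    { pt := W
      ι :=
        { app := fun j => ModuleCat.ofHom (ULift.moduleEquiv.symm.toLinearMap.comp (θ j))
          naturality := fun j k f => by
            ext φ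
            exact congrArg ULift.up ((congrArg (colimit.ι F k).hom (toExt_map M i f φ).symm).trans
              (ConcreteCategory.congr_hom (colimit.w F f) (toExt M i j φ))) } }
  let D : Dual2.HDT A T (Dual.inD A M) (i : ℤ) →ₗ[A] ↑(colimit F) :=
    ULift.moduleEquiv.toLinearMap.comp (colimit.desc (Diag T (Dual.inD A M) (i : ℤ)) c).hom
  have hD : ∀ (Q : Ideal A) (hQ : PrimeSpectrum.zeroLocus (Q : Set A) ⊆ T) φ,
      D (mk Q hQ φ) = (colimit.ι F (op (ix T Q hQ))).hom (toExt M i (op (ix T Q hQ)) φ) := fun Q hQ φ =>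
    congrArg ULift.down (ConcreteCategory.congr_hom (colimit.ι_desc c (op (ix T Q hQ))) φ)
  refine ⟨LinearEquiv.ofBijective D ⟨?_, fun z => ?_⟩⟩
  · rw [injective_iff_map_eq_zero]
    intro z hz
    obtain ⟨Q, hQ, φ, rfl⟩ := exists_mk z
    rw [hD] at hz
    let j : (Dual2.IdealsIn T)ᵒᵖ := op (ix T Q hQ)
    let x : F.obj j := toExt M i j φ
    have hz' : (colimit.ι F j).hom x = 0 := hz
    have h0 : (colimit.ι F j).hom 0 = 0 := LinearMap.map_zero _
    obtain ⟨k, f, g, hfg⟩ := Concrete.colimit_exists_of_rep_eq F x 0 (hz'.trans h0.symm)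
    have h1 : (F.map g).hom 0 = 0 := LinearMap.map_zero _
    have h2 : (F.map f).hom x = 0 := hfg.trans h1
    refine (mk_eq_zero_iff hQ φ).2 ⟨k.unop.obj, k.unop.property, leOfHom f.unop.hom, ?_⟩
    exact (LinearEquiv.map_eq_zero_iff (toExt M i k)).1 ((toExt_map M i f φ).symm.trans h2)
  · obtain ⟨j, x, hx⟩ := Concrete.colimit_exists_rep F z
    obtain ⟨φ, hφ⟩ := (toExt M i j).surjective x
    subst hφ
    exact ⟨mk j.unop.obj j.unop.property φ, (hD _ _ φ).trans hx⟩

/-- Finiteness transfers. -/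
theorem finite_HT_iff : Module.Finite A (Dual2.HT T i M) ↔ Module.Finite A (Dual2.HDT A T (Dual.inD A M) (i : ℤ)) := by
  obtain ⟨e⟩ := nonempty_HT_equiv_HDT M i T
  exact ⟨fun _ => Module.Finite.equiv e.symm, fun _ => Module.Finite.equiv e⟩

/-- Being killed transfers. -/
theorem killsH_inD_iff (J : Ideal A) (n : ℕ) :
    KillsH T J (n : ℤ) (Dual.inD A M) ↔ ∀ j : ℕ, j ≤ n → ∀ r ∈ J, ∀ x : Dual2.HT T j M, r • x = 0 := by
  constructor
  · intro h j hj r hr x
    obtain ⟨e⟩ := nonempty_HT_equiv_HDT M j T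
    obtain ⟨z, rfl⟩ := e.surjective x
    rw [← map_smul, h j (by omega) r hr z, map_zero]
  · intro h j hj r hr z
    by_cases h0 : 0 ≤ j
    · obtain ⟨m, rfl⟩ := Int.eq_ofNat_of_zero_le h0
      obtain ⟨e⟩ := nonempty_HT_equiv_HDT M m T
      exact e.injective (by rw [map_smul, h m (by omega) r hr, map_zero])
    · obtain ⟨Q, hQ, φ, rfl⟩ := exists_mk z
      haveI : DerivedCategory.IsGE ((Dual.inD A M)⟦j⟧) (-j) :=
        DerivedCategory.TStructure.t.isGE_shift _ 0 j (-j) (by omega)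
      rw [DerivedCategory.TStructure.t.zero φ 0 (-j) (by omega), map_zero, smul_zero]

/-- Finiteness in a range transfers. -/
theorem finite_HDT_inD_of_HT {n : ℕ} (h : ∀ j : ℕ, j ≤ n → Module.Finite A (Dual2.HT T j M)) :
    ∀ j : ℤ, j ≤ n → Module.Finite A (Dual2.HDT A T (Dual.inD A M) j) := fun j hj => by
  by_cases h0 : 0 ≤ j
  · obtain ⟨m, rfl⟩ := Int.eq_ofNat_of_zero_le h0
    exact (finite_HT_iff M m).1 (h m (by omega))
  · haveI : Subsingleton (Dual2.HDT A T (Dual.inD A M) j) := subsingleton_of_forall_eq 0 fun z => by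
      obtain ⟨Q, hQ, φ, rfl⟩ := exists_mk z
      haveI : DerivedCategory.IsGE ((Dual.inD A M)⟦j⟧) (-j) :=
        DerivedCategory.TStructure.t.isGE_shift _ 0 j (-j) (by omega)
      rw [DerivedCategory.TStructure.t.zero φ 0 (-j) (by omega), map_zero]
    infer_instance

variable [IsNoetherianRing A]

/-- Finiteness is annihilation, for a module. -/
theorem finite_HT_iff_killed [Module.Finite A M] (T : Set (PrimeSpectrum A)) (n : ℕ) :
    (∀ j : ℕ, j ≤ n → Module.Finite A (Dual2.HT T j M)) ↔ ∃ J : Ideal A, PrimeSpectrum.zeroLocus (J : Set A) ⊆ T ∧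
      ∀ j : ℕ, j ≤ n → ∀ r ∈ J, ∀ x : Dual2.HT T j M, r • x = 0 := by
  haveI : DerivedCategory.IsGE (Dual.inD A M) 0 := inferInstance
  constructor
  · intro h
    obtain ⟨J, hJ, hk⟩ := killsH_of_finite (T := T) (n : ℤ) (Dual.inD A M) 0 (finite_HDT_inD_of_HT M h)
    exact ⟨J, hJ, (killsH_inD_iff M J n).1 hk⟩
  · rintro ⟨J, hJ, h⟩ j hj
    exact (finite_HT_iff M j).2 (finite_of_killsH hJ (n : ℤ) (Dual.inD A M) 0
      (finite_HD_inD M) ((killsH_inD_iff M J n).2 h) j (by omega))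

end HT

end Groth.Agent.RGammaI.SuppHDT
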