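import Groth.Agent.RGammaI.SuppCrit
import Groth.Agent.RGammaI.SuppHT

/-! The criterion for modules, in terms of depth. -/

set_option linter.style.haveILetI false
set_option maxHeartbeats 1000000
set_option backward.isDefEq.respectTransparency false

universe u

open CategoryTheory CategoryTheory.Limits Opposite TensorProduct

attribute [local instance] HasDerivedCategory.standard

namespace Groth.Agent.RGammaI.SuppModule

open Groth.Agent.KFlatLib SuppDual SuppHDT

variable {A : Type u} [CommRing A] [IsNoetherianRing A] (M : Type u) [AddCommGroup M] [Module A M] [Module.Finite A M]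

/-- Vanishing of local cohomology at a prime in a range is a depth bound. -/
theorem forall_HDI_iff_depth (p : PrimeSpectrum A)
    [DRing.HasLBaseChange (algebraMap A (Localization.AtPrime p.asIdeal))] (s h : ℕ) :
    (∀ i : ℤ, i ≤ (s : ℤ) - h → Subsingleton (Dual2.HDI (Localization.AtPrime p.asIdeal)
        (IsLocalRing.maximalIdeal (Localization.AtPrime p.asIdeal))
        ((DRing.LBaseChange (algebraMap A (Localization.AtPrime p.asIdeal))).obj (Dual.inD A M)) i)) ↔
      (s : WithBot ℕ∞) < ((LocCoh.depth (Localization.AtPrime p.asIdeal) (LocalizedModule p.asIdeal.primeCompl M) : ℕ∞) : WithBot ℕ∞) + ((h : ℕ∞) : WithBot ℕ∞) := by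
  let B := Localization.AtPrime p.asIdeal
  haveI := hasLBase (algebraMap A B)
  haveI : Module.Flat A B := IsLocalization.flat _ p.asIdeal.primeCompl
  obtain ⟨eb⟩ := nonempty_LBaseChange_iso (algebraMap A B)
  obtain ⟨_, ⟨e⟩⟩ := exists_LBase_map_iso (B := B) (Dual.inD A M)
  obtain ⟨c⟩ := exists_extendLEquiv (B := B) (ModuleCat.of A M)
  let Mp := LocalizedModule p.asIdeal.primeCompl M
  haveI : Module.Finite B Mp := Module.Finite.of_isLocalizedModule p.asIdeal.primeCompl
    (LocalizedModule.mkLinearMap p.asIdeal.primeCompl M)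
  let g : (DRing.LBaseChange (algebraMap A B)).obj (Dual.inD A M) ≅ Dual.inD B Mp :=
    eb.app _ ≪≫ e ≪≫ ((ModuleCat.extendScalars.{u, u, u} (algebraMap A B)).mapDerivedCategorySingleFunctor 0).app _ ≪≫
      (DerivedCategory.singleFunctor (ModuleCat.{u} B) 0).mapIso
        (c.trans (LocalizedModule.equivTensorProduct p.asIdeal.primeCompl M).symm).toModuleIso
  haveI := hasRgammaI (IsLocalRing.maximalIdeal B)
  have key : ∀ i : ℕ, Subsingleton (Dual2.HDI B (IsLocalRing.maximalIdeal B)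
        ((DRing.LBaseChange (algebraMap A B)).obj (Dual.inD A M)) i) ↔
      Subsingleton ((localCohomology (IsLocalRing.maximalIdeal B) i).obj (ModuleCat.of B Mp)) := fun i => by
    rw [SuppCrit.subsingleton_HDI_congr _ g]
    obtain ⟨e₁⟩ := nonempty_H_equiv_HD (IsLocalRing.maximalIdeal B) Mp i
    obtain ⟨e₂⟩ := nonempty_HDI_equiv_HD (IsLocalRing.maximalIdeal B) (Dual.inD B Mp) (i : ℤ)
    exact (e₂.trans e₁.symm).toEquiv.subsingleton_congr
  have hneg : ∀ i : ℤ, i < 0 → Subsingleton (Dual2.HDI B (IsLocalRing.maximalIdeal B)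
      ((DRing.LBaseChange (algebraMap A B)).obj (Dual.inD A M)) i) := fun i hi => by
    rw [SuppCrit.subsingleton_HDI_congr _ g]
    refine subsingleton_HDI_of_levels _ _ i fun N => ?_
    haveI : DerivedCategory.IsGE ((Dual.inD B Mp)⟦i⟧) (-i) :=
      DerivedCategory.TStructure.t.isGE_shift _ 0 i (-i) (by omega)
    exact subsingleton_of_forall_eq 0 fun φ => DerivedCategory.TStructure.t.zero φ 0 (-i) (by omega)
  rw [← WithBot.coe_add, show (s : WithBot ℕ∞) = ((s : ℕ∞) : WithBot ℕ∞) from rfl, WithBot.coe_lt_coe,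
    ← ENat.add_one_le_iff (ENat.coe_ne_top s)]
  by_cases hs : s < h
  · refine ⟨fun _ => le_add_left (by exact_mod_cast hs), fun _ i hi => hneg i (by omega)⟩
  obtain ⟨m, rfl⟩ := Nat.exists_eq_add_of_le (not_lt.1 hs)
  have hlin : ((h + m : ℕ) : ℕ∞) + 1 = ((m + 1 : ℕ) : ℕ∞) + h := by push_cast; ring
  rw [hlin, WithTop.add_le_add_iff_right (ENat.coe_ne_top h)]
  change _ ↔ ((m + 1 : ℕ) : ℕ∞) ≤ LocCoh.idealDepth (IsLocalRing.maximalIdeal B) Mp
  rw [LC.le_idealDepth_iff_H]
  constructor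
  · exact fun hH i hi => (key i).1 (hH i (by push_cast; omega))
  · intro hH i hi
    by_cases h0 : 0 ≤ i
    · obtain ⟨j, rfl⟩ := Int.eq_ofNat_of_zero_le h0
      exact (key j).2 (hH j (by push_cast at hi; omega))
    · exact hneg i (by omega)

/-- The criterion for a module. -/
theorem exists_kills_iff_depth {ω : Dual.D A} (hω : Dual.IsDualizing A ω) {T T' : Set (PrimeSpectrum A)}
    (hT : StableUnderSpecialization T) (hT' : StableUnderSpecialization T') (s : ℕ) :
    (∃ J : Ideal A, PrimeSpectrum.zeroLocus (J : Set A) ⊆ T' ∧ KillsH T J (s : ℤ) (Dual.inD A M)) ↔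
      ∀ p q : PrimeSpectrum A, p ∉ T' → q ∈ T → p ≤ q → (s : WithBot ℕ∞) <
        ((LocCoh.depth (Localization.AtPrime p.asIdeal) (LocalizedModule p.asIdeal.primeCompl M) : ℕ∞) : WithBot ℕ∞) +
          Order.krullDim (Set.Icc p q) := by
  obtain ⟨n, hn, hcov, hmono, -⟩ := exists_extDegree hω
  haveI : ∀ p : PrimeSpectrum A, DRing.HasLBaseChange (algebraMap A (Localization.AtPrime p.asIdeal)) :=
    fun p => H9Misc.DRingLBase.hasLBaseChange _
  haveI : DerivedCategory.IsGE (Dual.inD A M) 0 := inferInstance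
  rw [SuppCrit.exists_killsH_iff hω hn hcov hmono hT hT' s (Dual.inD A M) 0 (finite_HD_inD M)]
  constructor
  · intro H p q hp hq hpq
    rw [SuppCrit.krullDim_Icc hcov hmono hpq]
    exact (forall_HDI_iff_depth M p s _).1 (H p q hpq hp hq _ (SuppCrit.height_Ici hcov hmono hpq))
  · intro H p q hpq hp hq h hh
    rw [SuppCrit.height_Ici hcov hmono hpq, Nat.cast_inj] at hh
    subst hh
    refine (forall_HDI_iff_depth M p s _).2 ?_
    rw [← SuppCrit.krullDim_Icc hcov hmono hpq]
    exact H p q hp hq hpq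

omit [Module.Finite A M] in
/-- Killing `H^i_T` kills `H^i_I` for `V(I) ⊆ T`. -/
theorem H_smul_eq_zero_of_kills {T : Set (PrimeSpectrum A)} {J : Ideal A} {s : ℕ} (I : Ideal A)
    (hI : PrimeSpectrum.zeroLocus (I : Set A) ⊆ T) (h : Kills T J (s : ℤ) (Dual.inD A M)) (i : ℕ) (hi : i ≤ s)
    (r : A) (hr : r ∈ J) (x : LocCoh.H I i M) : r • x = 0 := by
  haveI := hasRgammaI I
  obtain ⟨e₁⟩ := nonempty_H_equiv_HD I M i
  obtain ⟨e₂⟩ := nonempty_HDI_equiv_HD I (Dual.inD A M) (i : ℤ)
  obtain ⟨z, hz⟩ := (e₂.trans e₁.symm).surjective x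
  rw [← hz, ← map_smul]
  convert map_zero (e₂.trans e₁.symm)
  let D := homDiag I ((Dual.inD A M)⟦(i : ℤ)⟧)
  haveI : PreservesFilteredColimitsOfSize.{0, 0} (forget AddCommGrpCat.{u + 1}) :=
    preservesFilteredColimitsOfSize_shrink _
  haveI : PreservesColimitsOfShape ℕᵒᵖᵒᵖ (forget AddCommGrpCat.{u + 1}) :=
    PreservesFilteredColimitsOfSize.preserves_filtered_colimits _
  haveI : PreservesColimit D (forget (ModuleCat.{u + 1} A)) :=
    (comp_preservesColimit (forget₂ (ModuleCat.{u + 1} A) AddCommGrpCat.{u + 1}) (forget AddCommGrpCat.{u + 1}) :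
      PreservesColimit D (forget₂ (ModuleCat.{u + 1} A) AddCommGrpCat.{u + 1} ⋙ forget AddCommGrpCat.{u + 1}))
  obtain ⟨⟨⟨N⟩⟩, φ, rfl⟩ := Concrete.colimit_exists_rep D z
  rw [← map_smul]
  refine (congrArg (colimit.ι D _).hom ?_).trans (LinearMap.map_zero (colimit.ι D (op (op N))).hom)
  suffices key : ∀ ψ : Dual.inD A (A ⧸ I ^ N) ⟶ (Dual.inD A M)⟦(i : ℤ)⟧, r • ψ = 0 from key φ
  intro ψ
  let e : ((Dual.inD A M)⟦(i : ℤ)⟧)⟦-(i : ℤ)⟧ ≅ Dual.inD A M :=
    (shiftFunctorCompIsoId (Dual.D A) (i : ℤ) (-(i : ℤ)) (by omega)).app _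
  apply (shiftFunctor (Dual.D A) (-(i : ℤ))).map_injective
  rw [Functor.map_zero, Functor.map_smul, ← cancel_mono e.hom, zero_comp, Linear.smul_comp]
  refine h i (by omega) (A ⧸ I ^ N) ?_ r hr _
  rw [Module.support_eq_zeroLocus, Ideal.annihilator_quotient]
  exact fun P hP => hI (P.isPrime.le_of_pow_le hP)

end Groth.Agent.RGammaI.SuppModule
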