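import Groth.Agent.KFlatLib.Ring.DualizingDepth

/-! Localised Ext into a dualizing complex and the depth of the localisation. -/

set_option linter.style.haveILetI false
set_option maxHeartbeats 1000000

universe u

open CategoryTheory CategoryTheory.Limits TensorProduct

attribute [local instance] HasDerivedCategory.standard

namespace Groth.Agent.RGammaI

open Groth.Agent.KFlatLib

variable {A : Type u} [CommRing A]

/-- Flat base change of a module. -/
lemma nonempty_LBase_inD {B : Type u} [CommRing B] [Algebra A B] [Module.Flat A B]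
    [DTen.HasLBase (algebraMap A B)] (M : Type u) [AddCommGroup M] [Module A M] :
    Nonempty ((DTen.LBase (algebraMap A B)).obj (Dual.inD A M) ≅ Dual.inD B (B ⊗[A] M)) := by
  obtain ⟨_, ⟨e⟩⟩ := exists_LBase_map_iso (B := B) (Dual.inD A M)
  obtain ⟨c⟩ := exists_extendLEquiv (B := B) (ModuleCat.of A M)
  exact ⟨e ≪≫ ((ModuleCat.extendScalars.{u, u, u} (algebraMap A B)).mapDerivedCategorySingleFunctor 0).app _ ≪≫
    (DerivedCategory.singleFunctor (ModuleCat.{u} B) 0).mapIso c.toModuleIso⟩

variable [IsNoetherianRing A] {ω : Dual.D A}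

/-- Localised Ext is Ext of the localisation. -/
theorem nonempty_localExt (a : ℤ) [ω.IsGE a] (q : Ideal A) [q.IsPrime]
    [DTen.HasLBase (algebraMap A (Localization.AtPrime q))] (M : Type u) [AddCommGroup M] [Module A M]
    [Module.Finite A M] (i : ℤ) :
    Nonempty ((Dual.inD (Localization.AtPrime q) (LocalizedModule q.primeCompl M) ⟶
        ((DTen.LBase (algebraMap A (Localization.AtPrime q))).obj ω)⟦i⟧) ≃
      LocalizedModule q.primeCompl (Dual.inD A M ⟶ ω⟦i⟧)) := by
  haveI : Module.Flat A (Localization.AtPrime q) := IsLocalization.flat _ q.primeCompl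
  obtain ⟨eI⟩ := nonempty_LBase_inD (A := A) (B := Localization.AtPrime q) M
  have hb : IsBaseChange (Localization.AtPrime q) (LocalizedModule.mkLinearMap q.primeCompl M) :=
    IsLocalizedModule.isBaseChange q.primeCompl (Localization.AtPrime q) _
  let eM := eI ≪≫ (DerivedCategory.singleFunctor (ModuleCat.{u} (Localization.AtPrime q)) 0).mapIso
    hb.equiv.toModuleIso
  obtain ⟨e⟩ := exists_homBaseChangeLEquiv (B := Localization.AtPrime q) (X := Dual.inD A M) (Y := ω)
    ((Groth.Agent.S6942.result A 0 ω M).2.2 (inferInstance : Module.Finite A M)) a i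
  exact ⟨eM.homFromEquiv.symm.trans (e.toEquiv.trans
    (LocalizedModule.equivTensorProduct q.primeCompl (Dual.inD A M ⟶ ω⟦i⟧)).symm.toEquiv)⟩

/-- The degree function of the localisation. -/
theorem exists_local_degree (hω : Dual.IsDualizing A ω) {n : PrimeSpectrum A → ℤ} (hn : IsExtDegree ω n)
    (a : ℤ) [ω.IsGE a] (q : PrimeSpectrum A)
    [DTen.HasLBase (algebraMap A (Localization.AtPrime q.asIdeal))] :
    Dual.IsDualizing (Localization.AtPrime q.asIdeal)
        ((DTen.LBase (algebraMap A (Localization.AtPrime q.asIdeal))).obj ω) ∧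
      ∃ nB : PrimeSpectrum (Localization.AtPrime q.asIdeal) → ℤ,
        IsExtDegree ((DTen.LBase (algebraMap A (Localization.AtPrime q.asIdeal))).obj ω) nB ∧
        (∀ p p' : PrimeSpectrum (Localization.AtPrime q.asIdeal), p ⋖ p' → nB p' = nB p + 1) ∧ StrictMono nB ∧
        nB (IsLocalRing.closedPoint (Localization.AtPrime q.asIdeal)) = n q := by
  let B := Localization.AtPrime q.asIdeal
  haveI : Module.Flat A B := IsLocalization.flat _ q.asIdeal.primeCompl
  have hB : Dual.IsDualizing B ((DTen.LBase (algebraMap A B)).obj ω) := isDualizing_LBase hω fun m _ =>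
    ⟨m.comap (algebraMap A B), IsLocalization.map_comap q.asIdeal.primeCompl _ m⟩
  obtain ⟨nB, hnB, hcov, hmono, -⟩ := exists_extDegree hB
  refine ⟨hB, nB, hnB, hcov, hmono, ?_⟩
  refine (hn q (nB (IsLocalRing.closedPoint B))).1 ?_
  obtain ⟨e⟩ := exists_localExtLEquiv (ω := ω) a q.asIdeal q.asIdeal (nB (IsLocalRing.closedPoint B))
  have h := (hnB (IsLocalRing.closedPoint B) (nB (IsLocalRing.closedPoint B))).2 rfl
  rw [Localization.AtPrime.map_eq_maximalIdeal] at e
  by_contra hc
  rw [not_nontrivial_iff_subsingleton] at hc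
  haveI := e.subsingleton
  exact not_subsingleton (LocalizedModule (IsLocalRing.closedPoint B).asIdeal.primeCompl
    (Dual.inD B (B ⧸ (IsLocalRing.closedPoint B).asIdeal) ⟶
      ((DTen.LBase (algebraMap A B)).obj ω)⟦nB (IsLocalRing.closedPoint B)⟧))
    (LocalizedModule.subsingleton_iff.2 fun φ => ⟨1, one_mem _, by
      rw [one_smul]
      exact Subsingleton.elim (α := Dual.inD B (B ⧸ IsLocalRing.maximalIdeal B) ⟶
        ((DTen.LBase (algebraMap A B)).obj ω)⟦nB (IsLocalRing.closedPoint B)⟧) _ _⟩)

/-- The first nonvanishing localised Ext, from above. -/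
theorem localized_ext_of_depth (hω : Dual.IsDualizing A ω) {n : PrimeSpectrum A → ℤ} (hn : IsExtDegree ω n)
    (M : Type u) [AddCommGroup M] [Module A M] [Module.Finite A M] (q : PrimeSpectrum A) :
    (∀ (δ : ℕ), LocCoh.depth (Localization.AtPrime q.asIdeal) (LocalizedModule q.asIdeal.primeCompl M) = δ →
      q ∈ Module.support A M →
      (∀ i : ℤ, n q - δ < i → Subsingleton (LocalizedModule q.asIdeal.primeCompl (Dual.inD A M ⟶ ω⟦i⟧))) ∧
        Nontrivial (LocalizedModule q.asIdeal.primeCompl (Dual.inD A M ⟶ ω⟦n q - δ⟧))) := by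
  intro δ hδ hq
  let B := Localization.AtPrime q.asIdeal
  haveI := hasLBase (algebraMap A B)
  haveI : Module.Flat A B := IsLocalization.flat _ q.asIdeal.primeCompl
  obtain ⟨a, b, -, _, _⟩ := exists_bounds_of_isDualizing hω
  haveI := isGE_LBase_flat (B := B) ω a
  obtain ⟨hB, nB, hnB, -, -, hclosed⟩ := exists_local_degree hω hn a q
  haveI : Nontrivial (LocalizedModule q.asIdeal.primeCompl M) := Module.mem_support_iff.1 hq
  haveI : Module.Finite B (LocalizedModule q.asIdeal.primeCompl M) := inferInstance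
  obtain ⟨hv, hnt⟩ := ext_of_depth hnB a hB.finite_cohomology δ (LocalizedModule q.asIdeal.primeCompl M) hδ
  rw [hclosed] at hnt
  rw [hclosed] at hv
  refine ⟨fun i hi => ?_, ?_⟩
  · obtain ⟨e⟩ := nonempty_localExt (ω := ω) a q.asIdeal M i
    haveI := hv i hi
    exact e.symm.subsingleton
  · obtain ⟨e⟩ := nonempty_localExt (ω := ω) a q.asIdeal M (n q - δ)
    exact e.symm.nontrivial

end Groth.Agent.RGammaI
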