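import Groth.Agent.KFlatLib.Ring.HasRHom
import Groth.Agent.H9Misc.DRingHomTensor
import Groth.Agent.H9Misc.DRingHomCxPre
import Groth.Agent.H9Misc.DRingRHomCompl

/-! The two derived homs of a ring agree. -/

set_option linter.style.haveILetI false
set_option maxHeartbeats 1000000

universe u

open CategoryTheory CategoryTheory.Limits MonoidalCategory
open CochainComplex CochainComplex.HomComplex

attribute [local instance] HasDerivedCategory.standard

namespace Groth.Agent.RGammaI

open Groth.Agent.KFlatLib Groth.Agent.H9Misc.DRingHomTensor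

variable {A : Type u} [CommRing A]

lemma δ_curry {X P I : DRing.Cx A} (w : Cochain (X ⊗ P) I 0) (h : δ 0 1 w = 0) :
    δ 0 1 (curry w) = 0 := by
  refine (curryEquiv X P I 1).injective ?_
  change uncurry (δ 0 (0 + 1) (curry w)) = uncurry 0
  rw [← δ_uncurry, uncurry_curry]
  exact h.trans (map_zero (curryEquiv X P I 1)).symm

/-- Maps into the Hom complex are maps out of the tensor product. -/
noncomputable def homCxEquiv (X P I : DRing.Cx A) : (X ⟶ DRing.homCx P I) ≃ (X ⊗ P ⟶ I) where
  toFun f := (Cocycle.mk (uncurry (Cochain.ofHom f)) 1 (zero_add 1) (by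
    change δ 0 (0 + 1) (uncurry (Cochain.ofHom f)) = 0
    rw [δ_uncurry, δ_ofHom]
    exact map_zero (curryEquiv X P I 1))).homOf
  invFun g := (Cocycle.mk (curry (Cochain.ofHom g)) 1 (zero_add 1) (δ_curry _ (δ_ofHom g))).homOf
  left_inv f := by
    refine (Cocycle.equivHom _ _).injective (Subtype.ext ?_)
    change Cochain.ofHom (Cocycle.homOf _) = Cochain.ofHom f
    rw [Cocycle.cochain_ofHom_homOf_eq_coe]
    change curry (Cochain.ofHom (Cocycle.homOf _)) = _
    rw [Cocycle.cochain_ofHom_homOf_eq_coe]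
    exact curry_uncurry _
  right_inv g := by
    refine (Cocycle.equivHom _ _).injective (Subtype.ext ?_)
    change Cochain.ofHom (Cocycle.homOf _) = Cochain.ofHom g
    rw [Cocycle.cochain_ofHom_homOf_eq_coe]
    change uncurry (Cochain.ofHom (Cocycle.homOf _)) = _
    rw [Cocycle.cochain_ofHom_homOf_eq_coe]
    exact uncurry_curry _

lemma homCxEquiv_comp {X' X P I : DRing.Cx A} (g : X' ⟶ X) (f : X ⟶ DRing.homCx P I) :
    homCxEquiv X' P I (g ≫ f) = (tenCx P).map g ≫ homCxEquiv X P I f := by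
  refine HomologicalComplex.hom_ext _ _ fun a => Groth.Agent.H9Misc.DRingHomTensor.hom_ext fun p q hpq x y => ?_
  refine (uncurry_pure (Cochain.ofHom (g ≫ f)) p q a a hpq (add_zero a) x y).trans ?_
  have hι := ConcreteCategory.congr_hom (HomologicalComplex.ι_mapBifunctorMap g (𝟙 P) (curriedTensor (ModuleCat.{u} A))
    (ComplexShape.up ℤ) p q a hpq) (x ⊗ₜ[A] y)
  change _ = ((homCxEquiv X P I f).f a).hom (((tenCx P).map g).f a (pure X' P p q a hpq x y))
  refine Eq.trans ?_ (congrArg ((homCxEquiv X P I f).f a).hom hι).symm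
  refine Eq.trans ?_ (uncurry_pure (Cochain.ofHom f) p q a a hpq (add_zero a) ((g.f p).hom x) y).symm
  change ((show Cochain P I (p + 0) from ((Cochain.ofHom (g ≫ f)).v p (p + 0) rfl).hom x).v q a _).hom y =
    ((show Cochain P I (p + 0) from ((Cochain.ofHom f).v p (p + 0) rfl).hom ((g.f p).hom x)).v q a _).hom y
  have h1 : (Cochain.ofHom (g ≫ f)).v p (p + 0) rfl = g.f p ≫ (Cochain.ofHom f).v p (p + 0) rfl := by
    rw [Cochain.ofHom_comp, Cochain.zero_cochain_comp_v, Cochain.ofHom_v]
  rw [h1]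
  rfl

/-- The two internal homs agree. -/
noncomputable def innerIso (P I : DRing.Cx A) : (innerHom P).obj I ≅ DRing.homCx P I :=
  Yoneda.ext _ _
    (fun {Z} f => (homCxEquiv Z P I).symm (((innerAdj P).homEquiv Z I).symm f))
    (fun {Z} f => (innerAdj P).homEquiv Z I (homCxEquiv Z P I f))
    (fun {Z} f => by rw [Equiv.apply_symm_apply, Equiv.apply_symm_apply])
    (fun {Z} f => by rw [Equiv.symm_apply_apply, Equiv.symm_apply_apply])
    (fun {Z Z'} g h => by
      refine (homCxEquiv Z' P I).injective ?_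
      rw [Equiv.apply_symm_apply, homCxEquiv_comp, Equiv.apply_symm_apply]
      exact (innerAdj P).homEquiv_naturality_left_symm g h)

/-- `RHom` computed by either construction. -/
theorem nonempty_RHomR_iso_RHomCx [DTen.HasLTen A] [DTen.HasRHom A] (K : DRing.Cx A) [DRing.HasRHomCx K]
    (L : Dual.D A) : Nonempty ((DTen.RHomR A (DRing.toD K)).obj L ≅ (DRing.RHomCx K).obj L) := by
  obtain ⟨I, hI, hinj, ⟨eI⟩⟩ := Groth.Agent.H9Misc.DRingRHomCompl.exists_resolution L
  haveI := hI
  haveI := hinj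
  let P := flatRep (DRing.toD K)
  let eP : DerivedCategory.Q.obj P ≅ DerivedCategory.Q.obj K := flatRepIso (DRing.toD K)
  obtain ⟨P', s, hs, g, hg⟩ := DerivedCategory.right_fac eP.hom
  haveI : QuasiIso s := (DerivedCategory.isIso_Q_map_iff_quasiIso _ _).1 hs
  haveI : QuasiIso g := (DerivedCategory.isIso_Q_map_iff_quasiIso _ _).1 (by
    rw [show DerivedCategory.Q.map g = DerivedCategory.Q.map s ≫ eP.hom by rw [hg, IsIso.hom_inv_id_assoc]]
    infer_instance)
  haveI := Groth.Agent.H9Misc.DRingHomCx.quasiIso_homCxPre_of_isKInjective s I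
  haveI := Groth.Agent.H9Misc.DRingHomCx.quasiIso_homCxPre_of_isKInjective g I
  haveI := isIso_innerCmp (P := P) (kFlat_ringRes _) I
  exact ⟨((DTen.RHom A).mapIso eP.op).app L ≪≫ (DTen.RHomR A (DerivedCategory.Q.obj P)).mapIso eI ≪≫
    (asIso (innerCmp P I)).symm ≪≫ DerivedCategory.Q.mapIso (innerIso P I) ≪≫
      asIso (DerivedCategory.Q.map (Groth.Agent.H9Misc.DRingHomCx.homCxPre s I)) ≪≫
      (asIso (DerivedCategory.Q.map (Groth.Agent.H9Misc.DRingHomCx.homCxPre g I))).symm ≪≫
      Groth.Agent.H9Misc.DRingHomCx.isoOfKInjective K I ≪≫ (DRing.RHomCx K).mapIso eI.symm⟩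

end Groth.Agent.RGammaI
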