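import Groth.Agent.Alg6.AssDepth

/-! The punctured spectrum of a local ring of depth two is connected. -/

universe u

namespace Groth.Agent.RGammaI

open IsLocalRing

/-- In depth at least two, two ideals with zero product and primary sum cannot both be nonzero. -/
theorem eq_bot_or_eq_bot_of_two_le_depth {B : Type u} [CommRing B] [IsLocalRing B] [IsNoetherianRing B]
    (hd : (2 : ℕ∞) ≤ LocCoh.depth B B) (a b : Ideal B) (hab : a * b = ⊥)
    (hle : a ⊔ b ≤ maximalIdeal B) (hrad : maximalIdeal B ≤ (a ⊔ b).radical) : a = ⊥ ∨ b = ⊥ := by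
  obtain ⟨h1, h2⟩ := Alg6.two_le_depth_iff'.1 hd
  obtain ⟨x₀, hx₀, hreg₀⟩ := (Alg6.exists_isSMulRegular_mem_iff (M := B) (maximalIdeal B)).2
    fun Q hQ hle' => h1 ((maximalIdeal.isMaximal B).eq_of_le (Alg6.mem_ass_iff.1 hQ).1.ne_top hle' ▸ hQ)
  obtain ⟨K, hK⟩ := Ideal.exists_pow_le_of_le_radical_of_fg hrad (IsNoetherian.noetherian _)
  have hxab : x₀ ^ K ∈ a ⊔ b := hK (Ideal.pow_mem_pow hx₀ K)
  have hreg := hreg₀.pow K
  have hass := h2 _ (hle hxab) hreg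
  obtain ⟨a₁, ha₁, b₁, hb₁, hxe⟩ := Submodule.mem_sup.1 hxab
  have hprod : ∀ u ∈ a, ∀ v ∈ b, u * v = 0 := fun u hu v hv => by
    simpa [hab] using Ideal.mul_mem_mul hu hv
  have hzero : ∀ r, r ∈ a → r ∈ b → r = 0 := fun r hra hrb => hreg (show x₀ ^ K • r = x₀ ^ K • (0 : B) by
    rw [smul_zero, smul_eq_mul, ← hxe, add_mul, hprod _ ha₁ _ hrb, mul_comm b₁, hprod _ hra _ hb₁, add_zero])
  have hdiv : ∃ c, a₁ = x₀ ^ K * c := by
    by_contra hnd
    let z : QuotSMulTop (x₀ ^ K) B := Submodule.Quotient.mk a₁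
    have hz : z ≠ 0 := fun hz => by
      obtain ⟨c, hc⟩ := Alg6.mem_pointwise_smul_top_iff.1 hz
      exact hnd ⟨c, hc.symm⟩
    obtain ⟨Q, hQ, hQz⟩ := Alg6.exists_ass_ge (R := B) hz
    have hQp := (Alg6.mem_ass_iff.1 hQ).1
    have hsub : a ⊔ b ≤ Q := fun c hc => hQz c (by
      obtain ⟨u, hu, v, hv, rfl⟩ := Submodule.mem_sup.1 hc
      show (u + v) • (Submodule.Quotient.mk a₁ : QuotSMulTop (x₀ ^ K) B) = 0
      rw [← Submodule.Quotient.mk_smul, Alg6.mem_pointwise_smul_top_iff]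
      refine ⟨u, ?_⟩
      rw [smul_eq_mul, smul_eq_mul, ← hxe, add_mul, add_mul, mul_comm v, hprod _ ha₁ _ hv, mul_comm b₁,
        hprod _ hu _ hb₁, mul_comm a₁])
    exact hass (le_antisymm (IsLocalRing.le_maximalIdeal hQp.ne_top) (hrad.trans (hQp.radical_le_iff.2 hsub)) ▸ hQ)
  obtain ⟨c, hc'⟩ := hdiv
  have h3 : (1 - c) * a₁ = c * b₁ := by rw [← hxe] at hc'; linear_combination hc'
  have h4 : c * b₁ = 0 := hzero _ (h3 ▸ a.mul_mem_left _ ha₁) (b.mul_mem_left c hb₁)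
  rw [h4] at h3
  rcases IsLocalRing.isUnit_or_isUnit_one_sub_self c with hu | hu
  · right
    have hb0 : b₁ = 0 := hu.mul_right_eq_zero.1 h4
    refine (Submodule.eq_bot_iff _).2 fun r hr => hreg (show x₀ ^ K • r = x₀ ^ K • (0 : B) by
      rw [smul_zero, smul_eq_mul, ← hxe, hb0, add_zero, hprod _ ha₁ _ hr])
  · left
    have ha0 : a₁ = 0 := hu.mul_right_eq_zero.1 h3
    refine (Submodule.eq_bot_iff _).2 fun r hr => hreg (show x₀ ^ K • r = x₀ ^ K • (0 : B) by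
      rw [smul_zero, smul_eq_mul, ← hxe, ha0, zero_add, mul_comm, hprod _ hr _ hb₁])

/-- The intersection of a finite set of primes. -/
theorem exists_ideal_of_finite_primes {A : Type u} [CommRing A] (S : Set (Ideal A)) (hS : S.Finite) :
    ∃ J : Ideal A, (∀ q ∈ S, J ≤ q) ∧ ∀ Q : Ideal A, Q.IsPrime → J ≤ Q → ∃ q ∈ S, q ≤ Q :=
  ⟨hS.toFinset.inf id, fun q hq => Finset.inf_le (f := id) (hS.mem_toFinset.2 hq), fun Q hQ h => by
    obtain ⟨q, hq, hq'⟩ := (Ideal.IsPrime.inf_le' hQ).1 h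
    exact ⟨q, hS.mem_toFinset.1 hq, hq'⟩⟩

end Groth.Agent.RGammaI
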