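import Groth.Agent.RGammaI.Duality
import Groth.Agent.RGammaI.KoszulInf
import Mathlib.RingTheory.AdicCompletion.Functoriality

/-! Biduals of finite modules and completion. -/

set_option linter.style.haveILetI false
set_option maxHeartbeats 1000000

universe u v

open CategoryTheory CategoryTheory.Category CategoryTheory.Limits IsLocalRing

attribute [local instance] HasDerivedCategory.standard

namespace Groth.Agent.RGammaI

/-- A finite module has a model in the universe of the ring. -/
theorem exists_model (A : Type u) [CommRing A] (M : Type v) [AddCommGroup M] [Module A M] [Module.Finite A M] :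
    ∃ (k : ℕ) (N : Submodule A (Fin k → A)), Nonempty (M ≃ₗ[A] ((Fin k → A) ⧸ N)) := by
  obtain ⟨k, π, hπ⟩ := Module.Finite.exists_fin' A M
  exact ⟨k, LinearMap.ker π, ⟨(π.quotKerEquivOfSurjective hπ).symm⟩⟩

/-- Local cohomology of a module is the cohomology of `RΓ_I`. -/
theorem nonempty_H_equiv_HD {A : Type u} [CommRing A] [IsNoetherianRing A] (I : Ideal A) [DRing.HasRgammaI I]
    (M : Type u) [AddCommGroup M] [Module A M] (i : ℕ) :
    Nonempty (LocCoh.H I i M ≃ₗ[A] Dual.HD A ((DRing.RgammaI I).obj (Dual.inD A M)) i) := by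
  let J := injectiveResolution (ModuleCat.of A M)
  let X := J.cochainComplex
  haveI : QuasiIso J.ι' := inferInstance
  let α : Dual.inD A M ≅ DerivedCategory.Q.obj X :=
    (DerivedCategory.singleFunctorIsoCompQ (ModuleCat.{u} A) 0).app (ModuleCat.of A M) ≪≫
      asIso (DerivedCategory.Q.map J.ι')
  let β := (DerivedCategory.homologyFunctor (ModuleCat.{u} A) (i : ℤ)).mapIso
    ((DRing.RgammaI I).mapIso α ≪≫ (isoOfInjTerms I (injTerms_resolution J)).symm) ≪≫
      (DerivedCategory.homologyFunctorFactors (ModuleCat.{u} A) (i : ℤ)).app _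
  exact ⟨(LC.equivG I J i).trans (((LC.gCx I J).extendHomologyIso ComplexShape.embeddingUpNat
    (j := i) rfl).toLinearEquiv.symm |>.trans
      ((HomologicalComplex.homologyMapIso (gammaExtendIso I J) (i : ℤ)).toLinearEquiv.symm.trans β.toLinearEquiv.symm))⟩

variable {A : Type u} [CommRing A] [IsNoetherianRing A] [IsLocalRing A]

local notation "𝔪" => maximalIdeal A

lemma isFiniteLength_quot (M : Type u) [AddCommGroup M] [Module A M] [Module.Finite A M] (n : ℕ) :
    IsFiniteLength A (M ⧸ (𝔪 ^ n • ⊤ : Submodule A M)) := by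
  obtain ⟨k, π, hπ⟩ := Module.Finite.exists_fin' A M
  obtain ⟨_, _⟩ := isFiniteLength_iff_isNoetherian_isArtinian.1
    (Groth.Agent.LC.isFiniteLength_quot_pow (R := A) n)
  let Q := M ⧸ (𝔪 ^ n • ⊤ : Submodule A M)
  let g : Fin k → ((A ⧸ 𝔪 ^ n) →ₗ[A] Q) := fun j =>
    Submodule.liftQ (𝔪 ^ n) (LinearMap.toSpanSingleton A Q (Submodule.Quotient.mk (π (Pi.single j 1))))
      fun a ha => by
        rw [LinearMap.mem_ker, LinearMap.toSpanSingleton_apply, ← Submodule.Quotient.mk_smul,
          Submodule.Quotient.mk_eq_zero]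
        exact Submodule.smul_mem_smul ha Submodule.mem_top
  let G : (Fin k → A ⧸ 𝔪 ^ n) →ₗ[A] Q := ∑ j, g j ∘ₗ LinearMap.proj j
  have hG : Function.Surjective G := fun z => by
    obtain ⟨m, rfl⟩ := Submodule.Quotient.mk_surjective _ z
    obtain ⟨v, rfl⟩ := hπ m
    refine ⟨fun j => Submodule.Quotient.mk (v j), ?_⟩
    simp only [G, g, LinearMap.sum_apply, LinearMap.comp_apply, LinearMap.proj_apply, Submodule.liftQ_apply,
      LinearMap.toSpanSingleton_apply, ← Submodule.Quotient.mk_smul]
    rw [← Submodule.mkQ_apply]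
    simp only [← Submodule.mkQ_apply, ← map_smul, ← map_sum]
    congr 2
    exact funext fun a => by simp [Finset.sum_apply, Pi.single_apply]
  exact isFiniteLength_iff_isNoetherian_isArtinian.2
    ⟨isNoetherian_of_surjective G (LinearMap.range_eq_top.2 hG), isArtinian_of_surjective _ G hG⟩

variable {E : Type u} [AddCommGroup E] [Module A E] {f : ResidueField A →ₗ[A] E}

/-- A functional on a finite module is killed by a power of the maximal ideal. -/
lemma exists_level (hf : InjHull.IsInjectiveHull f) {M : Type u} [AddCommGroup M] [Module A M]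
    [Module.Finite A M] (φ : M →ₗ[A] E) : ∃ n : ℕ, (𝔪 ^ n • ⊤ : Submodule A M) ≤ LinearMap.ker φ := by
  classical
  obtain ⟨s, hs⟩ := Module.Finite.fg_top (R := A) (M := M)
  choose k hk using fun x : M => Groth.Agent.LC.hull_isPowerTorsion hf (φ x)
  refine ⟨s.sup k, Submodule.smul_le.2 fun a ha x _ => ?_⟩
  rw [LinearMap.mem_ker, map_smul]
  have hx : x ∈ Submodule.span A (s : Set M) := hs ▸ Submodule.mem_top
  induction hx using Submodule.span_induction with
  | mem y hy => exact hk y a (Ideal.pow_le_pow_right (Finset.le_sup (f := k) hy) ha)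
  | zero => rw [map_zero, smul_zero]
  | add y z _ _ h₁ h₂ => rw [map_add, smul_add, h₁ trivial, h₂ trivial, add_zero]
  | smul r y _ h => rw [map_smul, smul_comm, h trivial, smul_zero]

/-- The completion of a finite module is its Matlis bidual. -/
theorem nonempty_completion_equiv_bidual (hf : InjHull.IsInjectiveHull f) (M : Type u) [AddCommGroup M]
    [Module A M] [Module.Finite A M] :
    Nonempty (AdicCompletion 𝔪 M ≃ₗ[A] ((M →ₗ[A] E) →ₗ[A] E)) := by
  let N := fun n : ℕ => (𝔪 ^ n • ⊤ : Submodule A M)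
  let b := fun n : ℕ => LinearEquiv.ofBijective _
    (Groth.Agent.LC.applyₗ_bijective_of_isFiniteLength hf _ (isFiniteLength_quot M n))
  let pre : ∀ n, ((M ⧸ N n) →ₗ[A] E) →ₗ[A] (M →ₗ[A] E) := fun n => LinearMap.lcomp A E (N n).mkQ
  let c : ∀ n, ((M →ₗ[A] E) →ₗ[A] E) →ₗ[A] M ⧸ N n := fun n =>
    (b n).symm.toLinearMap ∘ₗ LinearMap.lcomp A E (pre n)
  have hc : ∀ n (lam : (M →ₗ[A] E) →ₗ[A] E) (ψ : (M ⧸ N n) →ₗ[A] E), ψ (c n lam) = lam (ψ ∘ₗ (N n).mkQ) :=
    fun n lam ψ => LinearMap.congr_fun ((b n).apply_symm_apply (LinearMap.lcomp A E (pre n) lam)) ψ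
  have hcompat : ∀ {m n : ℕ} (h : m ≤ n), AdicCompletion.transitionMap 𝔪 M h ∘ₗ c n = c m := fun {m n} h =>
    LinearMap.ext fun lam => Groth.Agent.LC.applyₗ_injective hf _ (LinearMap.ext fun ψ => by
      change ψ (AdicCompletion.transitionMap 𝔪 M h (c n lam)) = ψ (c m lam)
      refine (hc n lam (ψ ∘ₗ AdicCompletion.transitionMap 𝔪 M h)).trans (Eq.trans ?_ (hc m lam ψ).symm)
      exact congrArg lam (LinearMap.ext fun x => rfl))
  let Φ : ((M →ₗ[A] E) →ₗ[A] E) →ₗ[A] AdicCompletion 𝔪 M := AdicCompletion.lift 𝔪 c hcompat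
  refine ⟨(LinearEquiv.ofBijective Φ ⟨(injective_iff_map_eq_zero _).2 fun lam hl => ?_, fun x => ?_⟩).symm⟩
  · refine LinearMap.ext fun φ => ?_
    obtain ⟨n, hn⟩ := exists_level hf φ
    have h0 : c n lam = 0 := congrArg (fun z : AdicCompletion 𝔪 M => z.val n) hl
    have h := hc n lam ((N n).liftQ φ hn)
    rw [h0, map_zero, Submodule.liftQ_mkQ] at h
    exact h.symm
  · choose lvl hlvl using fun φ : M →ₗ[A] E => exists_level hf φ
    let v : (M →ₗ[A] E) → E := fun φ => (N (lvl φ)).liftQ φ (hlvl φ) (x.val (lvl φ))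
    have hv : ∀ (φ : M →ₗ[A] E) (n : ℕ) (hn : N n ≤ LinearMap.ker φ), v φ = (N n).liftQ φ hn (x.val n) := by
      have key : ∀ (φ : M →ₗ[A] E) (m n : ℕ) (hmn : m ≤ n) (hm : N m ≤ LinearMap.ker φ) (hn : N n ≤ LinearMap.ker φ),
          (N m).liftQ φ hm (x.val m) = (N n).liftQ φ hn (x.val n) := fun φ m n hmn hm hn => by
        rw [← x.2 hmn]
        obtain ⟨y, hy⟩ := Submodule.Quotient.mk_surjective _ (x.val n)
        rw [← hy]
        rfl
      intro φ n hn
      rcases le_total (lvl φ) n with h | h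
      · exact key φ _ _ h _ _
      · exact (key φ _ _ h _ _).symm
    have happ : ∀ (n : ℕ) (φ : M →ₗ[A] E) (hn : N n ≤ LinearMap.ker φ) (y : M),
        x.val n = Submodule.Quotient.mk y → v φ = φ y := fun n φ hn y hy => by
      rw [hv φ n hn, hy]
      rfl
    have mono : ∀ (φ : M →ₗ[A] E) (n : ℕ), lvl φ ≤ n → N n ≤ LinearMap.ker φ := fun φ n h =>
      le_trans (Submodule.smul_mono_left (Ideal.pow_le_pow_right h)) (hlvl φ)
    let lam : (M →ₗ[A] E) →ₗ[A] E :=
      { toFun := v
        map_add' := fun φ ψ => by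
          let n := max (lvl φ) (lvl ψ)
          obtain ⟨y, hy⟩ := Submodule.Quotient.mk_surjective _ (x.val n)
          have hφ := mono φ n (le_max_left _ _)
          have hψ := mono ψ n (le_max_right _ _)
          rw [happ n φ hφ y hy.symm, happ n ψ hψ y hy.symm, happ n (φ + ψ) (fun z hz => by
            rw [LinearMap.mem_ker, LinearMap.add_apply, LinearMap.mem_ker.1 (hφ hz), LinearMap.mem_ker.1 (hψ hz),
              add_zero]) y hy.symm]
          rfl
        map_smul' := fun r φ => by
          obtain ⟨y, hy⟩ := Submodule.Quotient.mk_surjective _ (x.val (lvl φ))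
          rw [happ _ φ (hlvl φ) y hy.symm, happ _ (r • φ) (fun z hz => by
            rw [LinearMap.mem_ker, LinearMap.smul_apply, LinearMap.mem_ker.1 (hlvl φ hz), smul_zero]) y hy.symm]
          rfl }
    refine ⟨lam, AdicCompletion.ext fun n => ?_⟩
    change c n lam = x.val n
    refine Groth.Agent.LC.applyₗ_injective hf _ (LinearMap.ext fun ψ => ?_)
    change ψ (c n lam) = ψ (x.val n)
    obtain ⟨y, hy⟩ := Submodule.Quotient.mk_surjective _ (x.val n)
    rw [hc n lam ψ, ← hy]
    exact happ n _ (fun z hz => by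
      rw [LinearMap.mem_ker, LinearMap.comp_apply, Submodule.mkQ_apply, (Submodule.Quotient.mk_eq_zero _).2 hz,
        map_zero]) y hy.symm

end Groth.Agent.RGammaI
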