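import Groth.Agent.RGammaI.DualRows
import Groth.Agent.LC.HlvtMain
import Groth.Agent.LC.CdBase
import Groth.Agent.LC.CanonComplete
import Mathlib.RingTheory.TensorProduct.Quotient
import Mathlib.RingTheory.Regular.IsSMulRegular

/-! Vanishing of the top local cohomology from the dualizing complex. -/

set_option linter.style.haveILetI false
set_option backward.isDefEq.respectTransparency false

universe u

open CategoryTheory CategoryTheory.Limits Pretriangulated Opposite IsLocalRing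
open scoped TensorProduct

attribute [local instance] HasDerivedCategory.standard

namespace Groth.Agent.RGammaI.CdTop

open Groth.Agent.KFlatLib (inDMap)

variable {A : Type u} [CommRing A] [IsLocalRing A] [IsNoetherianRing A]

local notation "𝔪" => maximalIdeal A

theorem le_zero_of_lt_one (x : WithBot ℕ∞) (h : x < 1) : x ≤ 0 := by
  cases x with
  | bot => exact bot_le
  | coe a => exact WithBot.coe_le_coe.2 (ENat.lt_one_iff_eq_zero.1 (WithBot.coe_lt_coe.1 h)).le

/-- The saturation of an ideal with respect to the maximal ideal. -/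
def sat (J : Ideal A) : Ideal A where
  carrier := {y | ∃ M : ℕ, ∀ a ∈ 𝔪 ^ M, a * y ∈ J}
  zero_mem' := ⟨0, fun a _ => by rw [mul_zero]; exact zero_mem _⟩
  add_mem' := fun {y z} hy hz => by
    obtain ⟨M, hM⟩ := hy
    obtain ⟨M', hM'⟩ := hz
    exact ⟨max M M', fun a ha => by
      rw [mul_add]
      exact add_mem (hM a (Ideal.pow_le_pow_right (le_max_left _ _) ha))
        (hM' a (Ideal.pow_le_pow_right (le_max_right _ _) ha))⟩
  smul_mem' := fun c y hy => by
    obtain ⟨M, hM⟩ := hy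
    exact ⟨M, fun a ha => by rw [smul_eq_mul, mul_left_comm]; exact Ideal.mul_mem_left _ _ (hM a ha)⟩

theorem mem_sat {J : Ideal A} {y : A} : y ∈ sat J ↔ ∃ M : ℕ, ∀ a ∈ 𝔪 ^ M, a * y ∈ J := Iff.rfl

theorem sat_mono {J J' : Ideal A} (h : J ≤ J') : sat J ≤ sat J' := fun _ ⟨M, hM⟩ => ⟨M, fun a ha => h (hM a ha)⟩

theorem le_sat (J : Ideal A) : J ≤ sat J := fun _ hy => ⟨0, fun a _ => J.mul_mem_left a hy⟩

theorem exists_pow_mul_sat_le (J : Ideal A) : ∃ M : ℕ, 𝔪 ^ M * sat J ≤ J := by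
  obtain ⟨s, hs⟩ := (IsNoetherian.noetherian (sat J) : (sat J).FG)
  have hmem : ∀ y ∈ s, ∃ M : ℕ, ∀ a ∈ 𝔪 ^ M, a * y ∈ J := fun y hy =>
    mem_sat.1 (hs ▸ Ideal.subset_span hy)
  choose! M hM using hmem
  refine ⟨s.sup M, Ideal.mul_le.2 fun a ha y hy => ?_⟩
  rw [← hs] at hy
  refine Submodule.span_induction (p := fun z _ => a * z ∈ J) (fun z hz => ?_) (by rw [mul_zero]; exact zero_mem _)
    (fun z w _ _ hz hw => by rw [mul_add]; exact add_mem hz hw)
    (fun c z _ hz => by rw [smul_eq_mul, mul_left_comm]; exact J.mul_mem_left c hz) hy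
  exact hM z hz a (Ideal.pow_le_pow_right (Finset.le_sup hz) ha)

/-- The quotient by a saturation has a regular element in the maximal ideal. -/
theorem exists_regular_sat (J : Ideal A) : ∃ s ∈ 𝔪, IsSMulRegular (A ⧸ sat J) s := by
  by_contra hc
  push Not at hc
  have hsub : (𝔪 : Set A) ⊆ ⋃ p ∈ associatedPrimes A (A ⧸ sat J), (p : Set A) := by
    rw [biUnion_associatedPrimes_eq_compl_regular]
    exact fun s hs => hc s hs
  have hfin := associatedPrimes.finite A (A ⧸ sat J)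
  obtain ⟨p, hp, hle⟩ := (Ideal.subset_union_prime_finite hfin ⊥ ⊥ (fun i hi _ _ => hi.isPrime)).1 hsub
  obtain rfl : p = 𝔪 := ((maximalIdeal.isMaximal A).eq_of_le hp.isPrime.ne_top hle).symm
  obtain ⟨hprime, z, hz⟩ := isAssociatedPrime_iff.1 hp
  obtain ⟨y, rfl⟩ := Submodule.Quotient.mk_surjective (sat J) z
  obtain ⟨M, hM⟩ := exists_pow_mul_sat_le J
  have hy : y ∈ sat J := ⟨M + 1, fun a ha => by
    rw [pow_succ] at ha
    refine Submodule.mul_induction_on ha (fun b hb c hc => ?_) fun u v hu hv => by rw [add_mul]; exact add_mem hu hv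
    have hcy : c * y ∈ sat J := by
      rw [hz, Submodule.mem_colon_singleton, Submodule.mem_bot] at hc
      exact (Submodule.Quotient.mk_eq_zero (sat J)).1 hc
    rw [mul_assoc]
    exact hM (Ideal.mul_mem_mul hb hcy)⟩
  refine hprime.ne_top ((Ideal.eq_top_iff_one _).2 ?_)
  rw [hz, Submodule.mem_colon_singleton, Submodule.mem_bot, one_smul]
  exact (Submodule.Quotient.mk_eq_zero (sat J)).2 hy

theorem sup_pow_le {R : Type u} [CommRing R] (P Q : Ideal R) : ∀ n : ℕ, (P ⊔ Q) ^ n ≤ P ^ n ⊔ Q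
  | 0 => by simp
  | n + 1 => by
    rw [pow_succ, pow_succ]
    refine (Ideal.mul_mono_left (sup_pow_le P Q n)).trans ?_
    rw [Ideal.sup_mul, Ideal.mul_sup]
    exact sup_le (sup_le le_sup_left ((Ideal.mul_le.2 fun r _ t ht => Ideal.mul_mem_left _ r ht).trans le_sup_right)) ((Ideal.mul_le.2 fun r hr t _ => Ideal.mul_mem_right t _ hr).trans le_sup_right)

variable {ω : Dual.D A} (hω : Dual.IsDualizing A ω) (hn : Dual.IsNormalized A ω)

include hω hn

/-- Vanishing of `H⁰_I(ω)` makes the saturations of the powers of `I` tend to zero. -/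
theorem exists_sat_le (I : Ideal A) (hI : I ≤ 𝔪) (h0 : Subsingleton (Dual2.HDI A I ω 0)) (k : ℕ) :
    ∃ N : ℕ, sat (I ^ N) ≤ 𝔪 ^ k := by
  by_contra hcon
  push Not at hcon
  haveI : IsArtinian A (A ⧸ 𝔪 ^ k) :=
    (isFiniteLength_iff_isNoetherian_isArtinian.1 (Groth.Agent.LC.isFiniteLength_quot_pow (R := A) k)).2
  let C : ℕ →o (Submodule A (A ⧸ 𝔪 ^ k))ᵒᵈ :=
    ⟨fun N => OrderDual.toDual (Submodule.map (𝔪 ^ k).mkQ (sat (I ^ N))),
      fun N N' h => Submodule.map_mono (sat_mono (Ideal.pow_le_pow_right h))⟩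
  obtain ⟨N₁, hN₁⟩ := IsArtinian.monotone_stabilizes C
  obtain ⟨y₀, hy₀, hy₀'⟩ := SetLike.not_le_iff_exists.1 (hcon N₁)
  let W := ω⟦(0 : ℤ)⟧
  obtain ⟨E, _, _, f, hf⟩ := Groth.Agent.LC.exists_injectiveHull A (IsLocalRing.ResidueField A)
  obtain ⟨-, ⟨dual⟩⟩ := finiteLength_duality hω hn hf (A ⧸ 𝔪 ^ k) (Groth.Agent.LC.isFiniteLength_quot_pow (R := A) k)
  obtain ⟨e, he⟩ : ∃ e : Dual.inD A (A ⧸ 𝔪 ^ k) ⟶ W, y₀ • e ≠ 0 := by
    by_contra hall
    push Not at hall
    have hy : y₀ ∈ Module.annihilator A (A ⧸ 𝔪 ^ k) := by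
      rw [Groth.Agent.LC.annihilator_dual hf, Module.mem_annihilator]
      intro φ
      let d := (Linear.homCongr A (Iso.refl _) ((shiftFunctorZero (Dual.D A) ℤ).app ω)).trans dual
      obtain ⟨x, rfl⟩ := d.surjective φ
      rw [← map_smul, hall x, map_zero]
    rw [Ideal.annihilator_quotient] at hy
    exact hy₀' hy
  let N₀ := k
  have hle : I ^ N₀ ≤ 𝔪 ^ k := Ideal.pow_right_mono hI k
  let π : ∀ (J : Ideal A), J ≤ 𝔪 ^ k → ((A ⧸ J) →ₗ[A] (A ⧸ 𝔪 ^ k)) := fun J h => Submodule.factor h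
  let D := (localCohomology.ringModIdeals (localCohomology.idealPowersDiagram I) ⋙
    DerivedCategory.singleFunctor (ModuleCat.{u} A) 0).op ⋙ (linearYoneda A (Dual.D A)).obj W
  haveI : PreservesFilteredColimitsOfSize.{0, 0} (forget AddCommGrpCat.{u + 1}) :=
    preservesFilteredColimitsOfSize_shrink _
  haveI : PreservesColimitsOfShape ℕᵒᵖᵒᵖ (forget AddCommGrpCat.{u + 1}) :=
    PreservesFilteredColimitsOfSize.preserves_filtered_colimits _
  haveI : PreservesColimit D (forget (ModuleCat.{u + 1} A)) :=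
    (comp_preservesColimit (forget₂ (ModuleCat.{u + 1} A) AddCommGrpCat.{u + 1}) (forget AddCommGrpCat.{u + 1}) :
      PreservesColimit D (forget₂ (ModuleCat.{u + 1} A) AddCommGrpCat.{u + 1} ⋙ forget AddCommGrpCat.{u + 1}))
  let φ₀ : D.obj (op (op N₀)) := (inDMap (π (I ^ N₀) hle) ≫ e : Dual.inD A (A ⧸ I ^ N₀) ⟶ W)
  haveI : Subsingleton ↑(colimit D) := h0
  obtain ⟨⟨⟨N'⟩⟩, f₁, g₁, hfg⟩ := Concrete.colimit_exists_of_rep_eq D φ₀ (0 : D.obj (op (op N₀))) (Subsingleton.elim _ _)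
  have hN' : N₀ ≤ N' := leOfHom f₁.unop.unop
  have hle' : I ^ N' ≤ 𝔪 ^ k := (Ideal.pow_le_pow_right hN').trans hle
  have hker : inDMap (π (I ^ N') hle') ≫ e = 0 := by
    have h1 : (D.map f₁).hom φ₀ = 0 := hfg.trans (LinearMap.map_zero (D.map g₁).hom)
    have h2 : π (I ^ N') hle' = (π (I ^ N₀) hle).comp (Submodule.factor (Ideal.pow_le_pow_right hN')) := by
      refine Submodule.linearMap_qext _ (LinearMap.ext fun x => ?_)
      rfl
    rw [h2]
    show (DerivedCategory.singleFunctor (ModuleCat.{u} A) 0).map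
      (ModuleCat.ofHom (Submodule.factor (Ideal.pow_le_pow_right hN')) ≫ ModuleCat.ofHom (π (I ^ N₀) hle)) ≫ e = 0
    rw [Functor.map_comp, Category.assoc]
    exact h1
  have hkill : ∀ y ∈ sat (I ^ N'), y • e = 0 := by
    intro y hy
    obtain ⟨M₀, hM₀⟩ := hy
    let M := M₀ + k
    have hMk : 𝔪 ^ M ≤ 𝔪 ^ k := Ideal.pow_le_pow_right (Nat.le_add_left _ _)
    let g : (A ⧸ 𝔪 ^ M) →ₗ[A] (A ⧸ I ^ N') := Submodule.mapQ _ _ (LinearMap.mulRight A y)
      (fun a ha => hM₀ a (Ideal.pow_le_pow_right (Nat.le_add_right _ _) ha))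
    let q : (A ⧸ 𝔪 ^ M) →ₗ[A] (A ⧸ 𝔪 ^ k) := Submodule.factor hMk
    have hgq : (π (I ^ N') hle').comp g = y • q := by
      refine Submodule.linearMap_qext _ (LinearMap.ext fun a => ?_)
      show (Submodule.Quotient.mk (a * y) : A ⧸ 𝔪 ^ k) = y • (Submodule.Quotient.mk a : A ⧸ 𝔪 ^ k)
      rw [← Submodule.Quotient.mk_smul, smul_eq_mul, mul_comm]
    have hq0 : inDMap q ≫ (y • e) = 0 := by
      have hl : inDMap (y • q) = y • inDMap q := by
        show (DerivedCategory.singleFunctor (ModuleCat.{u} A) 0).map (y • ModuleCat.ofHom q) = _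
        rw [Functor.map_smul]
      rw [Linear.comp_smul, ← Linear.smul_comp, ← hl, ← hgq]
      show (DerivedCategory.singleFunctor (ModuleCat.{u} A) 0).map (ModuleCat.ofHom g ≫ ModuleCat.ofHom (π (I ^ N') hle')) ≫ e = 0
      rw [Functor.map_comp, Category.assoc]
      exact (congrArg (inDMap g ≫ ·) hker).trans comp_zero
    have hqs : Function.Surjective q := Submodule.factor_surjective hMk
    obtain ⟨w, hS⟩ := Groth.Agent.KFlatLib.exists_ses_of_exact (Submodule.injective_subtype (LinearMap.ker q)) hqs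
      (LinearMap.exact_subtype_ker_map q)
    obtain ⟨χ, hχ⟩ := Triangle.yoneda_exact₃ _ hS.singleTriangle_distinguished (y • e) hq0
    let F := shiftFunctor (Dual.D A) (1 : ℤ)
    let c : (ω⟦(-1 : ℤ)⟧)⟦(1 : ℤ)⟧ ≅ W := ((shiftFunctorAdd' (Dual.D A) (-1) 1 0 (by omega)).app ω).symm
    obtain ⟨χ', hχ'⟩ := F.map_surjective (χ ≫ c.inv)
    haveI : IsFiniteLength A (LinearMap.ker q) ↔ True := iff_true_intro (isFiniteLength_iff_isNoetherian_isArtinian.2
      ⟨inferInstance, haveI := (isFiniteLength_iff_isNoetherian_isArtinian.1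
        (Groth.Agent.LC.isFiniteLength_quot_pow (R := A) M)).2; inferInstance⟩)
    haveI := (finiteLength_duality hω hn hf (LinearMap.ker q) (this.2 trivial)).1 (-1) (by omega)
    have h0' : χ = 0 := by
      rw [← cancel_mono c.inv, zero_comp, ← hχ']
      rw [Subsingleton.elim (α := Dual.inD A (LinearMap.ker q) ⟶ ω⟦(-1 : ℤ)⟧) χ' 0, Functor.map_zero]
    rw [hχ, h0', comp_zero]
  refine he ?_
  have hmem : (𝔪 ^ k).mkQ y₀ ∈ Submodule.map (𝔪 ^ k).mkQ (sat (I ^ (max N₁ N'))) := by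
    have heq : C N₁ = C (max N₁ N') := hN₁ _ (le_max_left _ _)
    exact (SetLike.ext_iff.1 (OrderDual.toDual.injective heq) _).1 (Submodule.mem_map_of_mem hy₀)
  obtain ⟨y, hy, hyy⟩ := hmem
  have hk : y₀ - y ∈ 𝔪 ^ k := (Submodule.Quotient.eq _).1 hyy.symm
  have hz : (y₀ - y) • e = 0 := by
    have : (y₀ - y) • 𝟙 (Dual.inD A (A ⧸ 𝔪 ^ k)) = 0 := by
      have h1 : (y₀ - y) • 𝟙 (ModuleCat.of A (A ⧸ 𝔪 ^ k)) = 0 := ModuleCat.hom_ext (LinearMap.ext fun z => by
        obtain ⟨a, rfl⟩ := Submodule.Quotient.mk_surjective _ z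
        show (y₀ - y) • (Submodule.Quotient.mk a : A ⧸ 𝔪 ^ k) = 0
        rw [← Submodule.Quotient.mk_smul]
        exact (Submodule.Quotient.mk_eq_zero _).2 (Ideal.mul_mem_right _ _ hk))
      show (y₀ - y) • 𝟙 ((DerivedCategory.singleFunctor (ModuleCat.{u} A) 0).obj (ModuleCat.of A (A ⧸ 𝔪 ^ k))) = 0
      rw [← CategoryTheory.Functor.map_id, ← Functor.map_smul, h1, Functor.map_zero]
    calc (y₀ - y) • e = ((y₀ - y) • 𝟙 _) ≫ e := by rw [Linear.smul_comp, Category.id_comp]
      _ = 0 := by rw [this, zero_comp]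
  rw [sub_smul, hkill y (sat_mono (Ideal.pow_le_pow_right (le_max_right _ _)) hy), sub_zero] at hz
  exact hz

/-- If `H⁰_I(ω) = 0` then the local cohomology vanishes from the dimension on. -/
theorem subsingleton_H_of_HDI (I : Ideal A) (h0 : Subsingleton (Dual2.HDI A I ω 0)) {d : ℕ}
    (hd : ringKrullDim A = d) (M : Type u) [AddCommGroup M] [Module A M] (i : ℕ) (hi : d ≤ i) :
    Subsingleton (LocCoh.H I i M) := by
  by_cases hI : I = ⊤
  · refine subsingleton_of_forall_eq 0 fun z => ?_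
    obtain ⟨n, hn⟩ := Groth.Agent.LC.isPowerTorsion_obj I i (ModuleCat.of A M) z
    exact (one_smul A z).symm.trans (hn 1 (by rw [hI, Ideal.top_pow]; trivial))
  refine Groth.Agent.LC.subsingleton_H_top_of_ring I hd.le (Groth.Agent.LC.subsingleton_H_hlvt I hd ?_) M i hi
  intro p hp hpd
  let R := AdicCompletion 𝔪 A
  haveI : IsNoetherianRing R := Groth.Agent.LC.Canon.isNoetherianRing_completion
  haveI : Module.FaithfullyFlat A R := Groth.Agent.LC.Canon.faithfullyFlat_completion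
  haveI := hp.1.1
  have hmax : maximalIdeal R = Ideal.map (algebraMap A R) 𝔪 := AdicCompletion.maximalIdeal_eq_map
  by_contra hlt
  let J := I.map (algebraMap A R) ⊔ p
  have hJm : maximalIdeal R ≤ J.radical := by
    rw [Ideal.radical_eq_sInf]
    refine le_sInf fun Q hQ => ?_
    haveI := hQ.2
    haveI : Nontrivial (R ⧸ J) := Ideal.Quotient.nontrivial_iff.2 fun h => hQ.2.ne_top (top_unique (h ▸ hQ.1))
    haveI : Ring.KrullDimLE 0 (R ⧸ J) := Ring.krullDimLE_iff.2 (by
      have h1 : ringKrullDim (R ⧸ J) < ((1 : ℕ) : WithBot ℕ∞) := by rw [Nat.cast_one]; exact not_le.1 hlt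
      exact le_zero_of_lt_one _ (by simpa using h1))
    haveI : (Q.map (Ideal.Quotient.mk J)).IsPrime := Ideal.map_isPrime_of_surjective Ideal.Quotient.mk_surjective
      (by rw [Ideal.mk_ker]; exact hQ.1)
    have hmx : (Q.map (Ideal.Quotient.mk J)).IsMaximal := Ideal.IsPrime.isMaximal' this
    have hQm : Q.IsMaximal := by
      have := Ideal.comap_isMaximal_of_surjective (Ideal.Quotient.mk J) Ideal.Quotient.mk_surjective (K := Q.map (Ideal.Quotient.mk J))
      rwa [Ideal.comap_map_of_surjective _ Ideal.Quotient.mk_surjective, ← RingHom.ker_eq_comap_bot, Ideal.mk_ker,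
        sup_eq_left.2 hQ.1] at this
    exact (IsLocalRing.eq_maximalIdeal hQm).ge
  obtain ⟨c, hc⟩ := Ideal.exists_pow_le_of_le_radical_of_fg hJm (IsNoetherian.noetherian _)
  -- a section killed by `p`
  have hass : IsAssociatedPrime p R := by
    have h1 : p ∈ (Module.annihilator R R).minimalPrimes := by
      rw [Module.annihilator_eq_bot.2 inferInstance]; exact hp
    exact Module.associatedPrimes.minimalPrimes_annihilator_subset_associatedPrimes R R h1
  obtain ⟨-, x, hx⟩ := isAssociatedPrime_iff.1 hass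
  have hpx : ∀ a ∈ p, a * x = 0 := fun a ha => by
    rw [hx, Submodule.mem_colon_singleton, Submodule.mem_bot] at ha
    exact ha
  have hx0 : x ≠ 0 := fun h => hp.1.1.ne_top ((Ideal.eq_top_iff_one _).2 (by
    rw [hx, Submodule.mem_colon_singleton, Submodule.mem_bot, h, smul_zero]))
  refine hx0 ((Submodule.mem_bot R).1 ?_)
  rw [← Ideal.iInf_pow_eq_bot_of_isLocalRing (maximalIdeal R) (maximalIdeal.isMaximal R).ne_top, Ideal.mem_iInf]
  intro k
  obtain ⟨N, hN⟩ := exists_sat_le hω hn I (IsLocalRing.le_maximalIdeal hI) h0 k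
  rw [hmax, ← Ideal.map_pow]
  refine Ideal.map_mono hN ?_
  let T := sat (I ^ N)
  obtain ⟨s, hs, hreg⟩ := exists_regular_sat (I ^ N)
  have hN' : J ^ N ≤ (I ^ N).map (algebraMap A R) ⊔ p := by
    rw [Ideal.map_pow]
    exact sup_pow_le _ _ N
  have hsx : algebraMap A R (s ^ (c * N)) * x ∈ T.map (algebraMap A R) := by
    have h1 : algebraMap A R (s ^ (c * N)) ∈ (I ^ N).map (algebraMap A R) ⊔ p := hN' (by
      rw [map_pow, pow_mul]
      exact Ideal.pow_mem_pow (hc (Ideal.pow_mem_pow (hmax ▸ Ideal.mem_map_of_mem _ hs) c)) N)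
    obtain ⟨u, hu, v, hv, huv⟩ := Submodule.mem_sup.1 h1
    rw [← huv, add_mul, hpx v hv, add_zero]
    exact Ideal.map_mono (le_sat _) (Ideal.mul_mem_right _ _ hu)
  have hinj : Function.Injective (LinearMap.lTensor R (LinearMap.lsmul A (A ⧸ T) (s ^ (c * N)))) :=
    Module.Flat.lTensor_preserves_injective_linearMap _ (hreg.pow _)
  let qe := Algebra.TensorProduct.quotIdealMapEquivTensorQuot R T
  have hl : ∀ z : R ⊗[A] (A ⧸ T), LinearMap.lTensor R (LinearMap.lsmul A (A ⧸ T) (s ^ (c * N))) z = s ^ (c * N) • z := by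
    intro z
    induction z using TensorProduct.induction_on with
    | zero => simp
    | tmul a b => simp [TensorProduct.tmul_smul]
    | add a b ha hb => rw [map_add, ha, hb, smul_add]
  refine Ideal.Quotient.eq_zero_iff_mem.1 (qe.injective ?_)
  rw [map_zero]
  refine hinj ?_
  rw [map_zero, hl, ← algebraMap_smul R, ← map_smul, ← map_zero qe]
  congr 1
  exact Ideal.Quotient.eq_zero_iff_mem.2 hsx

end Groth.Agent.RGammaI.CdTop
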