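import Groth.Agent.RGammaI.Main
import Groth.Agent.H9Misc.DRingComplAmp
import Groth.Agent.H9Misc.DRingAdic
import Groth.Agent.H9Misc.ExtCechTors

/-! `RΓ_I` and derived completeness (Greenlees–May duality over a Noetherian ring). -/

set_option linter.style.haveILetI false
set_option maxHeartbeats 1000000

universe u

open CategoryTheory CategoryTheory.Category CategoryTheory.Limits CategoryTheory.Pretriangulated
open Groth.Agent.H9Misc.DRingCompl (Cg)

attribute [local instance] HasDerivedCategory.standard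

namespace Groth.Agent.RGammaI

variable {A : Type u} [CommRing A]

lemma shift_smul_id (f : A) (X : Dual.D A) (a : ℤ) :
    (shiftFunctor (Dual.D A) a).map (f • 𝟙 X) = f • 𝟙 (X⟦a⟧) := by
  rw [Functor.map_smul, CategoryTheory.Functor.map_id]

lemma cg_shift {g : A} {Z : Dual.D A} (h : Cg g Z) (a : ℤ) : Cg g (Z⟦a⟧) := fun n => by
  have := h (a + n)
  exact ⟨fun p q => (cancel_mono ((shiftFunctorAdd (Dual.D A) a n).app Z).inv).1 (this.elim _ _)⟩

lemma bij_congr {α β : Sort*} {f g : α → β} (h : Function.Bijective f) (e : ∀ x, f x = g x) :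
    Function.Bijective g :=
  funext e ▸ h

section Cone

variable {f : A} {W W' : Dual.D A} {j : W ⟶ W'} {δ : W' ⟶ W⟦(1 : ℤ)⟧}
  (hT : Triangle.mk (f • 𝟙 W) j δ ∈ distTriang (Dual.D A))

include hT

/-- No non-zero map from an object on which `f` is invertible to the cone of `f`. -/
lemma eq_zero_of_loc_cone {T : Dual.D A} (hL : Groth.Agent.H9Misc.RlimSmul.Loc f T) (x : T ⟶ W') : x = 0 := by
  have h31 : δ ≫ (f • 𝟙 (W⟦(1 : ℤ)⟧)) = 0 := by
    rw [← shift_smul_id]
    exact comp_distTriang_mor_zero₃₁ _ hT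
  have hy : x ≫ δ = 0 := by
    refine Groth.Agent.H9Misc.RlimSmul.smul_injective f hL ?_
    rw [smul_zero]
    calc f • (x ≫ δ) = (x ≫ δ) ≫ (f • 𝟙 _) := by rw [Linear.comp_smul, comp_id]
      _ = 0 := by rw [assoc, h31, comp_zero]
  obtain ⟨z, hz⟩ := Triangle.coyoneda_exact₃ _ hT x hy
  have hj : (f • 𝟙 W) ≫ j = 0 := comp_distTriang_mor_zero₁₂ _ hT
  obtain ⟨z', hz'⟩ : ∃ z' : T ⟶ W, z' ≫ (f • 𝟙 W) = z :=
    ⟨Groth.Agent.H9Misc.RlimSmul.inv' f hL ≫ z, by
      rw [Linear.comp_smul, comp_id, Groth.Agent.H9Misc.RlimSmul.smul_inv']⟩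
  rw [hz, ← hz']
  exact (assoc _ _ _).trans ((congrArg (z' ≫ ·) hj).trans comp_zero)

lemma cg_cone : Cg f W' := by
  unfold Cg
  rw [Groth.Agent.H9Misc.DRingCompl.subsingleton_shift_iff]
  exact fun n => subsingleton_of_forall_eq 0
    (eq_zero_of_loc_cone hT ((Groth.Agent.H9Misc.DRingCompl.isIso_smul_inD_away f).shift f n))

lemma cg_cone' {g : A} (hg : Cg g W) : Cg g W' :=
  Groth.Agent.H9Misc.DRingCompl.subsingleton_third hT hg hg

/-- If nothing maps to the cone of `f`, then `f` is bijective on maps to `W`. -/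
lemma bijective_smul_of_cone {T : Dual.D A} (h : ∀ x : T ⟶ W', x = 0) (h' : ∀ x : T ⟶ W'⟦(-1 : ℤ)⟧, x = 0) :
    Function.Bijective fun y : T ⟶ W => f • y := by
  constructor
  · intro y y' hyy
    refine sub_eq_zero.1 ?_
    obtain ⟨z, hz⟩ := Triangle.coyoneda_exact₂ _ (inv_rot_of_distTriang _ hT) (y - y') (by
      show (y - y') ≫ (f • 𝟙 W) = 0
      rw [Linear.comp_smul, comp_id, smul_sub]
      exact sub_eq_zero.2 hyy)
    rw [hz, h' z]
    exact zero_comp
  · intro y
    obtain ⟨z, hz⟩ := Triangle.coyoneda_exact₂ _ hT y (h _)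
    refine ⟨z, ?_⟩
    rw [hz]
    exact ((Linear.comp_smul _ _ _ _ _ _).trans (congrArg (f • ·) (comp_id (z : T ⟶ W)))).symm

end Cone

open Groth.Agent.H9Misc.ExtCechTors (Tors)

/-- An object with torsion cohomology and without maps to objects complete along the list is zero. -/
theorem isZero_of_tors : ∀ (l : List A) (T : Dual.D A), (∀ f ∈ l, ∀ n : ℤ, Tors f ((DerivedCategory.homologyFunctor (ModuleCat.{u} A) n).obj T)) →
    (∀ W : Dual.D A, (∀ f ∈ l, Cg f W) → ∀ (a : ℤ) (x : T⟦a⟧ ⟶ W), x = 0) → IsZero T := by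
  intro l
  induction l with
  | nil =>
    intro T _ h
    refine (IsZero.iff_id_eq_zero T).2 ?_
    have := h T (fun f hf => absurd hf List.not_mem_nil) 0 ((shiftFunctorZero (Dual.D A) ℤ).hom.app T)
    exact (cancel_epi ((shiftFunctorZero (Dual.D A) ℤ).hom.app T)).1
      (((comp_id _).trans this).trans comp_zero.symm)
  | cons f l ih =>
    intro T ht h
    obtain ⟨S, p, δ, hS⟩ := distinguished_cocone_triangle (f • 𝟙 T)
    let H := DerivedCategory.homologyFunctor (ModuleCat.{u} A)
    have htS : ∀ g ∈ l, ∀ n : ℤ, Tors g ((H n).obj S) := by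
      intro g hg n x
      have e3 := DerivedCategory.HomologySequence.exact₃ _ hS n (n + 1) rfl
      rw [ShortComplex.moduleCat_exact_iff] at e3
      obtain ⟨i, hi⟩ := ht g (List.mem_cons_of_mem _ hg) (n + 1)
        (DerivedCategory.HomologySequence.δ (Triangle.mk (f • 𝟙 T) p δ) n (n + 1) rfl x)
      obtain ⟨y, hy⟩ := e3 (g ^ i • x) ((map_smul _ _ _).trans hi)
      obtain ⟨k, hk⟩ := ht g (List.mem_cons_of_mem _ hg) n y
      refine ⟨k + i, ?_⟩
      rw [pow_add, mul_smul, ← hy]
      refine (map_smul ((H n).map p).hom _ _).symm.trans ?_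
      exact (congrArg _ hk).trans (map_zero _)
    have hS0 : IsZero S := ih S htS fun W hW a x => by
      have hbij : ∀ (W₀ : Dual.D A), (∀ g ∈ l, Cg g W₀) → ∀ a : ℤ,
          Function.Bijective fun y : T⟦a⟧ ⟶ W₀ => f • y := by
        intro W₀ hW₀ a
        obtain ⟨W', j, d, hW'⟩ := distinguished_cocone_triangle (f • 𝟙 W₀)
        have hc : ∀ g ∈ f :: l, Cg g W' := fun g hg => by
          rcases List.mem_cons.1 hg with rfl | hg
          · exact cg_cone hW'
          · exact cg_cone' hW' (hW₀ g hg)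
        exact bijective_smul_of_cone hW' (h W' hc a) (h _ (fun g hg => cg_shift (hc g hg) _) a)
      -- move the shift to the target
      suffices key : ∀ (W₀ : Dual.D A), (∀ g ∈ l, Cg g W₀) → ∀ y : S ⟶ W₀, y = 0 by
        apply (shiftFunctor (Dual.D A) (-a)).map_injective
        rw [← cancel_epi ((shiftFunctorCompIsoId (Dual.D A) a (-a) (by omega)).inv.app S), Functor.map_zero, comp_zero]
        exact key _ (fun g hg => cg_shift (hW g hg) _) _
      intro W₀ hW₀ y
      have hpy : p ≫ y = 0 := by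
        refine (cancel_epi ((shiftFunctorZero (Dual.D A) ℤ).hom.app T)).1 (((hbij W₀ hW₀ 0).1 ?_).trans comp_zero.symm)
        dsimp only
        rw [smul_zero, ← Linear.comp_smul, ← Linear.smul_comp,
          show f • p = (f • 𝟙 T) ≫ p by rw [Linear.smul_comp, id_comp],
          show (f • 𝟙 T) ≫ p = 0 from comp_distTriang_mor_zero₁₂ _ hS, zero_comp, comp_zero]
      obtain ⟨z, hz⟩ := Triangle.yoneda_exact₃ _ hS y hpy
      obtain ⟨z', hz'⟩ := (hbij W₀ hW₀ 1).2 z
      rw [hz, ← hz']
      show δ ≫ (f • z') = 0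
      rw [show f • z' = (shiftFunctor (Dual.D A) (1 : ℤ)).map (f • 𝟙 T) ≫ z' by
        rw [shift_smul_id, Linear.smul_comp, id_comp], ← assoc]
      exact (congrArg (· ≫ z') (comp_distTriang_mor_zero₃₁ _ hS)).trans zero_comp
    haveI hiso : IsIso (f • 𝟙 T) := (Triangle.isZero₃_iff_isIso₁ _ hS).1 hS0
    haveI hI : ∀ n : ℤ, IsZero ((H n).obj T) := fun n => by
      haveI : Subsingleton ((H n).obj T) := by
        refine subsingleton_of_forall_eq 0 fun x => ?_
        obtain ⟨i, hi⟩ := ht f List.mem_cons_self n x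
        have hinj : Function.Injective fun z : (H n).obj T => f • z := by
          have he : (H n).map (f • 𝟙 T) = f • 𝟙 ((H n).obj T) := by
            rw [Functor.map_smul, CategoryTheory.Functor.map_id]
          have := ((ConcreteCategory.isIso_iff_bijective ((H n).map (f • 𝟙 T))).1 inferInstance).1
          rw [he] at this
          exact this
        have hpow : ∀ k, Function.Injective fun z : (H n).obj T => f ^ k • z := fun k => by
          induction k with
          | zero => intro a b hab; simpa using hab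
          | succ k hk =>
            intro a b hab
            simp only [pow_succ, mul_smul] at hab
            exact hinj (hk hab)
        exact hpow i (hi.trans (smul_zero _).symm)
      exact ModuleCat.isZero_of_subsingleton _
    obtain ⟨K, ⟨e⟩⟩ : ∃ K, Nonempty (DerivedCategory.Q.obj K ≅ T) := ⟨_, ⟨DerivedCategory.Q.objObjPreimageIso T⟩⟩
    exact (isZero_Q_of_acyclic K fun n => (hI n).of_iso
      (((DerivedCategory.homologyFunctorFactors (ModuleCat.{u} A) n).app K).symm ≪≫ (H n).mapIso e)).of_iso e.symm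

variable [IsNoetherianRing A] (I : Ideal A)

/-- Precomposition with `Γ_f X ⟶ X` is bijective on maps to an `f`-complete object. -/
lemma bijective_precomp_singleton (b : A) {X : DRing.Cx A} (hX : DivTerms X) {Z : Dual.D A} (hZ : Cg b Z) :
    Function.Bijective fun g : DerivedCategory.Q.obj X ⟶ Z => DerivedCategory.Q.map (ιc (Ideal.span {b}) X) ≫ g := by
  let L := ((LC.locF b).mapHomologicalComplex (ComplexShape.up ℤ)).obj X
  have hL : Groth.Agent.H9Misc.RlimSmul.Loc b (DerivedCategory.Q.obj L) := by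
    have : IsIso (b • 𝟙 L) := by
      haveI : ∀ n, IsIso ((b • 𝟙 L : L ⟶ L).f n) := fun n => by
        rw [ConcreteCategory.isIso_iff_bijective]
        exact (Module.End.isUnit_iff _).1 (IsLocalizedModule.map_units
          (LocalizedModule.mkLinearMap (Submonoid.powers b) (X.X n)) ⟨b, Submonoid.mem_powers b⟩)
      exact HomologicalComplex.Hom.isIso_of_components _
    show IsIso (b • 𝟙 (DerivedCategory.Q.obj L))
    rw [← CategoryTheory.Functor.map_id, ← Functor.map_smul]
    infer_instance
  have hT := DerivedCategory.triangleOfSES_distinguished (shortExact_locSeq b hX)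
  constructor
  · intro g g' hg
    refine sub_eq_zero.1 ?_
    obtain ⟨h, hh⟩ := Triangle.yoneda_exact₂ _ hT (g - g') (by
      show DerivedCategory.Q.map (ιc (Ideal.span {b}) X) ≫ (g - g') = 0
      rw [Preadditive.comp_sub]
      exact sub_eq_zero.2 hg)
    rw [hh, Groth.Agent.H9Misc.DRingCompl.hom_eq_zero_of_loc hL hZ h]
    exact comp_zero
  · intro y
    obtain ⟨g, hg⟩ := Triangle.yoneda_exact₂ _ (inv_rot_of_distTriang _ hT) y
      (Groth.Agent.H9Misc.DRingCompl.hom_eq_zero_of_loc (hL.shift b (-1)) hZ _)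
    exact ⟨g, hg.symm⟩

/-- Precomposition with `Γ_a X ⟶ X` is bijective on maps to a complete object. -/
lemma bijective_precomp_gamma (a : Ideal A) (ha : a ≤ I) : ∀ {X : DRing.Cx A}, DivTerms X →
    ∀ {Z : Dual.D A}, DRing.IsDerivedComplete I Z →
      Function.Bijective fun g : DerivedCategory.Q.obj X ⟶ Z => DerivedCategory.Q.map (ιc a X) ≫ g := by
  obtain ⟨s, hs⟩ := IsNoetherian.noetherian a
  subst hs
  classical
  induction s using Finset.induction with
  | empty =>
    intro X _ Z _
    rw [Finset.coe_empty, Submodule.span_empty]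
    haveI := isIso_ι_bot X
    exact ((asIso (DerivedCategory.Q.map (ιc (⊥ : Ideal A) X))).symm.homFromEquiv (Z := Z)).bijective
  | insert b s hb ih =>
    intro X hX Z hZ
    have hsup : Submodule.span A (↑(insert b s) : Set A) = Submodule.span A (s : Set A) ⊔ Ideal.span {b} := by
      rw [Finset.coe_insert, Submodule.span_insert, sup_comm]
    have hbI : b ∈ I := ha (Submodule.subset_span (by simp))
    have has : Submodule.span A (s : Set A) ≤ I := le_trans (Submodule.span_mono (by simp)) ha
    rw [hsup]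
    set a : Ideal A := Submodule.span A (s : Set A)
    have e : ιc (a ⊔ Ideal.span {b}) X = (ΓcSupIso a (Ideal.span {b})).inv.app X ≫
        ιc (Ideal.span {b}) ((Γc a).obj X) ≫ ιc a X := by
      rw [← ΓcSupIso_ι, Iso.inv_hom_id_app_assoc]
    have h3 := ((bijective_precomp_singleton b (divTerms_gamma a hX) (hZ b hbI)).comp (ih has hX hZ))
    have h4 := ((DerivedCategory.Q.mapIso ((ΓcSupIso a (Ideal.span {b})).app X)).homFromEquiv (Z := Z)).bijective.comp h3
    refine (bij_congr h4 fun g => ?_)
    rw [e, Functor.map_comp, Functor.map_comp, assoc, assoc]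
    rfl

variable [DRing.HasRgammaI I]

/-- Maps to complete objects do not see the passage to `RΓ_I`. -/
theorem bijective_precomp_ε (K : Dual.D A) {Z : Dual.D A} (hZ : DRing.IsDerivedComplete I Z) :
    Function.Bijective fun g : K ⟶ Z => (DRing.RgammaIε I).app K ≫ g := by
  obtain ⟨J, hJ, hinj, ⟨e⟩⟩ := exists_injRep K
  haveI := isIso_unit_of_injTerms I hinj
  let n := (DerivedCategory.quotientCompQhIso (ModuleCat.{u} A))
  let e' : DerivedCategory.Qh.obj (hq.obj J) ≅ K := n.app J ≪≫ e
  let u : DerivedCategory.Q.obj ((Γc I).obj J) ⟶ (DRing.RgammaI I).obj K :=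
    (isoOfInjTerms I hinj ≪≫ (DRing.RgammaI I).mapIso e).hom
  have key : u ≫ (DRing.RgammaIε I).app K = DerivedCategory.Q.map (ιc I J) ≫ e.hom := by
    have hn : (DRing.RgammaI I).map e'.hom ≫ (DRing.RgammaIε I).app K =
        (DRing.RgammaIε I).app (DerivedCategory.Qh.obj (hq.obj J)) ≫ e'.hom := (DRing.RgammaIε I).naturality e'.hom
    have hu : u = n.inv.app ((Γc I).obj J) ≫ DerivedCategory.Qh.map
        (((DRing.gammaI I).mapHomotopyCategoryFactors (ComplexShape.up ℤ)).inv.app J) ≫
          (η I).app (hq.obj J) ≫ (DRing.RgammaI I).map e'.hom := by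
      simp only [u, e', n, isoOfInjTerms, Iso.trans_hom, Functor.mapIso_hom, Iso.symm_hom, Iso.app_inv,
        asIso_hom, Functor.map_comp, assoc, Iso.app_hom]
    rw [hu, assoc, assoc, assoc, hn, ← assoc ((η I).app _), η_ε, assoc]
    rw [← assoc (DerivedCategory.Qh.map _) (DerivedCategory.Qh.map _), ← Functor.map_comp, Iso.inv_hom_id_app]
    refine (congrArg (n.inv.app ((Γc I).obj J) ≫ ·)
      ((congrArg (· ≫ _) (DerivedCategory.Qh.map_id _)).trans (id_comp _))).trans ?_
    have hnat := n.inv.naturality (ιc I J)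
    simp only [Functor.comp_map] at hnat
    rw [← assoc, ← hnat]
    simp only [e', Iso.trans_hom, Iso.app_hom, assoc, Iso.inv_hom_id_app_assoc]
  have h1 : Function.Bijective fun g : K ⟶ Z => DerivedCategory.Q.map (ιc I J) ≫ e.hom ≫ g :=
    (bijective_precomp_gamma I I le_rfl hinj.div hZ).comp (e.symm.homFromEquiv (Z := Z)).bijective
  refine (Function.Bijective.of_comp_iff' ((isoOfInjTerms I hinj ≪≫ (DRing.RgammaI I).mapIso e).symm.homFromEquiv
    (Z := Z)).bijective _).1 (bij_congr h1 fun g => ?_)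
  show DerivedCategory.Q.map (ιc I J) ≫ e.hom ≫ g = u ≫ (DRing.RgammaIε I).app K ≫ g
  rw [← assoc, ← key, assoc]

variable [DRing.HasDerivedCompletion I]

/-- Completion inverts the counit. -/
theorem isIso_completion_map_ε (K : Dual.D A) :
    IsIso ((DRing.derivedCompletion I).map ((DRing.RgammaIε I).app K)) := by
  have hb : ∀ Z : DRing.DComp I, Function.Bijective fun g : (DRing.derivedCompletion I).obj K ⟶ Z =>
      (DRing.derivedCompletion I).map ((DRing.RgammaIε I).app K) ≫ g := fun Z => by
    have h := ((DRing.derivedCompletionAdj I).homEquiv ((DRing.RgammaI I).obj K) Z).symm.bijective.comp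
      ((bijective_precomp_ε I K Z.2).comp ((DRing.derivedCompletionAdj I).homEquiv K Z).bijective)
    refine bij_congr h fun g => ?_
    simp only [Function.comp_apply]
    exact ((DRing.derivedCompletionAdj I).homEquiv_naturality_left_symm _ _).trans
      (congrArg (_ ≫ ·) (((DRing.derivedCompletionAdj I).homEquiv K Z).symm_apply_apply g))
  exact isIso_iff_coyoneda_map_bijective _ |>.2 hb

/-- `RΓ_I` inverts the completion map. -/
theorem isIso_map_toDerivedCompletion (K : Dual.D A) :
    IsIso ((DRing.RgammaI I).map (DRing.toDerivedCompletion I K)) := by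
  let u := (DRing.RgammaI I).map (DRing.toDerivedCompletion I K)
  have hb : ∀ Z : Dual.D A, DRing.IsDerivedComplete I Z → Function.Bijective fun g => u ≫ (g : _ ⟶ Z) := by
    intro Z hZ
    have h1 := bijective_precomp_ε I ((DRing.derivedCompletion I).obj K).obj hZ
    have h2 : Function.Bijective fun g : ((DRing.derivedCompletion I).obj K).obj ⟶ Z =>
        DRing.toDerivedCompletion I K ≫ g := by
      have := ((DRing.derivedCompletionAdj I).homEquiv K ⟨Z, hZ⟩).bijective.comp
        (ObjectProperty.fullyFaithfulι (DRing.IsDerivedComplete I)).homEquiv.symm.bijective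
      refine bij_congr this fun g => ?_
      simp only [Function.comp_apply, Adjunction.homEquiv_unit]
      rfl
    have h3 := (bijective_precomp_ε I K hZ).comp h2
    refine (Function.Bijective.of_comp_iff _ h1).1 (bij_congr h3 fun g => ?_)
    simp only [Function.comp_apply]
    rw [← assoc u, show u ≫ (DRing.RgammaIε I).app _ = (DRing.RgammaIε I).app K ≫ DRing.toDerivedCompletion I K from
      (DRing.RgammaIε I).naturality _, assoc]
  obtain ⟨S, p, δ, hS⟩ := distinguished_cocone_triangle u
  refine (Triangle.isZero₃_iff_isIso₁ _ hS).1 ?_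
  obtain ⟨s, hs⟩ := IsNoetherian.noetherian I
  have hgen : ∀ f ∈ s.toList, f ∈ I := fun f hf => hs ▸ Ideal.subset_span (Finset.mem_toList.1 hf)
  refine isZero_of_tors s.toList S (fun f hf n x => ?_) fun W hW a x => ?_
  · let H := DerivedCategory.homologyFunctor (ModuleCat.{u} A)
    have e3 := DerivedCategory.HomologySequence.exact₃ _ hS n (n + 1) rfl
    rw [ShortComplex.moduleCat_exact_iff] at e3
    obtain ⟨i, hi⟩ := isPowerTorsion_HD I K (n + 1)
      (DerivedCategory.HomologySequence.δ (Triangle.mk u p δ) n (n + 1) rfl x)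
    obtain ⟨y, hy⟩ := e3 (f ^ i • x) ((map_smul _ _ _).trans (hi _ (Ideal.pow_mem_pow (hgen f hf) i)))
    obtain ⟨k, hk⟩ := isPowerTorsion_HD I _ n y
    refine ⟨k + i, ?_⟩
    rw [pow_add, mul_smul, ← hy]
    refine (map_smul ((H n).map p).hom _ _).symm.trans ?_
    exact (congrArg _ (hk _ (Ideal.pow_mem_pow (hgen f hf) k))).trans (map_zero _)
  · have hWc : DRing.IsDerivedComplete I W :=
      (Groth.Agent.H9Misc.DRingCompl.isDerivedComplete_iff_gens s hs W).2 hW
    suffices key : ∀ (Z : Dual.D A), DRing.IsDerivedComplete I Z → ∀ y : S ⟶ Z, y = 0 by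
      apply (shiftFunctor (Dual.D A) (-a)).map_injective
      rw [← cancel_epi ((shiftFunctorCompIsoId (Dual.D A) a (-a) (by omega)).inv.app S), Functor.map_zero, comp_zero]
      exact key _ (Groth.Agent.H9Misc.DRingAdic.isDerivedComplete_shift hWc _) _
    intro Z hZ y
    have hpy : p ≫ y = 0 := (hb Z hZ).1 (by
      dsimp only
      rw [comp_zero, ← assoc, show u ≫ p = 0 from comp_distTriang_mor_zero₁₂ _ hS, zero_comp])
    obtain ⟨z, hz⟩ := Triangle.yoneda_exact₃ _ hS y hpy
    obtain ⟨z', hz'⟩ : ∃ z', (shiftFunctor (Dual.D A) (1 : ℤ)).map u ≫ z' = z := by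
      let c := (shiftFunctorCompIsoId (Dual.D A) (1 : ℤ) (-1) (by omega))
      obtain ⟨w, hw⟩ := (hb _ (Groth.Agent.H9Misc.DRingAdic.isDerivedComplete_shift hZ (-1))).2
        (c.inv.app _ ≫ (shiftFunctor (Dual.D A) (-1 : ℤ)).map z)
      obtain ⟨z', hz'⟩ := (shiftFunctor (Dual.D A) (-1 : ℤ)).map_surjective (c.hom.app _ ≫ w)
      refine ⟨z', (shiftFunctor (Dual.D A) (-1 : ℤ)).map_injective ?_⟩
      rw [Functor.map_comp, hz', ← assoc]
      have hc := c.hom.naturality u
      simp only [Functor.comp_map, Functor.id_map] at hc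
      dsimp only at hw
      rw [hc, assoc, hw]
      exact Iso.hom_inv_id_app_assoc c _ _
    rw [hz, ← hz']
    refine (assoc _ _ _).symm.trans ?_
    exact (congrArg (· ≫ z') (comp_distTriang_mor_zero₃₁ _ hS)).trans zero_comp

end Groth.Agent.RGammaI
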