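import Groth.Agent.RGammaI.DualRows
import Groth.Agent.RGammaI.Complete
import Groth.Agent.H9Misc.DRingRHomCompl

/-! Local duality after derived completion. -/

set_option linter.style.haveILetI false
set_option maxHeartbeats 1000000

universe u

open CategoryTheory CategoryTheory.Category CategoryTheory.Limits CategoryTheory.Pretriangulated IsLocalRing

attribute [local instance] HasDerivedCategory.standard

namespace Groth.Agent.RGammaI

open Groth.Agent.H9Misc.DRingHomCx

variable {A : Type u} [CommRing A]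

/-- Derived completeness is invariant under isomorphisms. -/
lemma isDerivedComplete_of_iso {I : Ideal A} {Z Z' : Dual.D A} (e : Z ≅ Z') (h : DRing.IsDerivedComplete I Z) :
    DRing.IsDerivedComplete I Z' := fun f hf n =>
  haveI := h f hf n
  (((shiftFunctor (Dual.D A) n).mapIso e).homToEquiv (Z := Dual.inD A (Localization.Away f))).symm.subsingleton

lemma isDerivedComplete_shift {I : Ideal A} {Z : Dual.D A} (h : DRing.IsDerivedComplete I Z) (m : ℤ) :
    DRing.IsDerivedComplete I (Z⟦m⟧) := fun f hf => cg_shift (h f hf) m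

/-- An object with the universal property of the completion is the completion. -/
theorem nonempty_iso_completion {I : Ideal A} [DRing.HasDerivedCompletion I] {X Y : Dual.D A} (u : X ⟶ Y)
    (hY : DRing.IsDerivedComplete I Y)
    (hu : ∀ Z, DRing.IsDerivedComplete I Z → Function.Bijective fun φ : Y ⟶ Z => u ≫ φ) :
    Nonempty (((DRing.derivedCompletion I).obj X).obj ≅ Y) := by
  let adj := DRing.derivedCompletionAdj I
  let Y' : DRing.DComp I := ⟨Y, hY⟩
  let v : (DRing.derivedCompletion I).obj X ⟶ Y' := (adj.homEquiv X Y').symm u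
  have hv : IsIso v := isIso_iff_coyoneda_map_bijective _ |>.2 fun Z => by
    have h := (adj.homEquiv X Z).symm.bijective.comp
      ((hu Z.obj Z.2).comp ((ObjectProperty.fullyFaithfulι (DRing.IsDerivedComplete I)).homEquiv (X := Y') (Y := Z)).bijective)
    refine bij_congr h fun g => ?_
    simp only [Function.comp_apply]
    exact adj.homEquiv_naturality_right_symm u g
  exact ⟨(ObjectProperty.ι _).mapIso (asIso v)⟩

section Qh

variable {P P' L : DRing.Cx A} [L.IsKInjective]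

/-- Precomposition bijectivity, transported from the derived category. -/
lemma quasiIso_homCxPre_of_bijective (g : P' ⟶ P)
    (h : ∀ n : ℤ, Function.Bijective fun φ : DerivedCategory.Q.obj P ⟶ (DerivedCategory.Q.obj L)⟦n⟧ =>
      DerivedCategory.Q.map g ≫ φ) : QuasiIso (homCxPre g L) := by
  refine quasiIso_homCxPre g L fun n => ?_
  let c := DerivedCategory.quotientCompQhIso (ModuleCat.{u} A)
  let cL : DerivedCategory.Qh.obj ((qH A).obj (L⟦n⟧)) ≅ (DerivedCategory.Q.obj L)⟦n⟧ :=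
    c.app _ ≪≫ ((DerivedCategory.Q (C := ModuleCat.{u} A)).commShiftIso n).app L
  let E : ∀ (M : DRing.Cx A), ((qH A).obj M ⟶ (qH A).obj (L⟦n⟧)) → (DerivedCategory.Q.obj M ⟶ (DerivedCategory.Q.obj L)⟦n⟧) :=
    fun M φ => c.inv.app M ≫ DerivedCategory.Qh.map φ ≫ cL.hom
  have hE : ∀ M, Function.Bijective (E M) := fun M =>
    (Iso.homCongr (c.app M) cL).bijective.comp (CochainComplex.IsKInjective.Qh_map_bijective _ _)
  refine (Function.Bijective.of_comp_iff' (hE P') _).1 ?_
  refine bij_congr ((h n).comp (hE P)) fun φ => ?_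
  simp only [Function.comp_apply, E, Functor.map_comp]
  have hn := c.inv.naturality g
  simp only [Functor.comp_map] at hn
  rw [← assoc, hn]
  simp only [assoc]

/-- Postcomposition bijectivity, transported from the derived category. -/
lemma quasiIso_homCxMap_of_bijective {L' : DRing.Cx A} [L'.IsKInjective] (f : L ⟶ L')
    (h : ∀ n : ℤ, Function.Bijective fun φ : DerivedCategory.Q.obj P ⟶ (DerivedCategory.Q.obj L)⟦n⟧ =>
      φ ≫ (DerivedCategory.Q.map f)⟦n⟧') : QuasiIso (DRing.homCxMap P f) := by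
  refine quasiIso_homCxMap f fun n => ?_
  let c := DerivedCategory.quotientCompQhIso (ModuleCat.{u} A)
  let cL : ∀ M : DRing.Cx A, DerivedCategory.Qh.obj ((qH A).obj (M⟦n⟧)) ≅ (DerivedCategory.Q.obj M)⟦n⟧ := fun M =>
    c.app _ ≪≫ ((DerivedCategory.Q (C := ModuleCat.{u} A)).commShiftIso n).app M
  let E : ∀ (M : DRing.Cx A), ((qH A).obj P ⟶ (qH A).obj (M⟦n⟧)) → (DerivedCategory.Q.obj P ⟶ (DerivedCategory.Q.obj M)⟦n⟧) :=
    fun M φ => c.inv.app P ≫ DerivedCategory.Qh.map φ ≫ (cL M).hom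
  have hE : ∀ (M : DRing.Cx A) [M.IsKInjective], Function.Bijective (E M) := fun M _ =>
    (Iso.homCongr (c.app P) (cL M)).bijective.comp (CochainComplex.IsKInjective.Qh_map_bijective _ _)
  refine (Function.Bijective.of_comp_iff' (hE L') _).1 ?_
  refine bij_congr ((h n).comp (hE L)) fun φ => ?_
  simp only [Function.comp_apply, E, Functor.map_comp, assoc]
  refine congrArg (fun z => c.inv.app P ≫ DerivedCategory.Qh.map φ ≫ z) ?_
  simp only [cL, Iso.trans_hom, Iso.app_hom, assoc]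
  have h1 := c.hom.naturality (f⟦n⟧')
  simp only [Functor.comp_map] at h1
  rw [reassoc_of% h1]
  exact congrArg (c.hom.app (L⟦n⟧) ≫ ·)
    (((DerivedCategory.Q (C := ModuleCat.{u} A)).commShiftIso n).hom.naturality f).symm

end Qh

variable [IsNoetherianRing A] (I : Ideal A) [DRing.HasRgammaI I]

omit [IsNoetherianRing A] [DRing.HasRgammaI I] in
lemma isPowerTorsion_HD_shift {L : Dual.D A} (hL : ∀ i : ℤ, LocCoh.IsPowerTorsion I (Dual.HD A L i)) (m i : ℤ) :
    LocCoh.IsPowerTorsion I (Dual.HD A (L⟦m⟧) i) :=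
  isPowerTorsion_of_equiv (HDshift L m i (m + i) rfl).symm (hL _)

/-- Postcomposition with a map inverted by `RΓ_I`. -/
theorem bijective_postcomp {X Y : Dual.D A} (φ : X ⟶ Y) (hφ : IsIso ((DRing.RgammaI I).map φ))
    {L : Dual.D A} (hL : ∀ i : ℤ, LocCoh.IsPowerTorsion I (Dual.HD A L i)) (n : ℤ) :
    Function.Bijective fun x : L ⟶ X⟦n⟧ => x ≫ φ⟦n⟧' := by
  have key : ∀ {M : Dual.D A}, (∀ i : ℤ, LocCoh.IsPowerTorsion I (Dual.HD A M i)) →
      Function.Bijective fun x : M ⟶ X => x ≫ φ := fun {M} hM => by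
    haveI := hφ
    refine (Function.Bijective.of_comp_iff _ (bijective_comp_ε I hM X)).1 ?_
    refine bij_congr ((bijective_comp_ε I hM Y).comp ((asIso ((DRing.RgammaI I).map φ)).homToEquiv (Z := M)).bijective)
      fun x => ?_
    change (x ≫ (DRing.RgammaI I).map φ) ≫ (DRing.RgammaIε I).app Y = (x ≫ (DRing.RgammaIε I).app X) ≫ φ
    rw [assoc, assoc]
    exact congrArg (x ≫ ·) ((DRing.RgammaIε I).naturality φ)
  let c := shiftFunctorCompIsoId (Dual.D A) n (-n) (by omega)
  let E : ∀ Z : Dual.D A, (L ⟶ Z⟦n⟧) → (L⟦-n⟧ ⟶ Z) := fun Z x => x⟦-n⟧' ≫ c.hom.app Z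
  have hE : ∀ Z, Function.Bijective (E Z) := fun Z =>
    ((c.app Z).homToEquiv (Z := L⟦-n⟧)).bijective.comp
      ⟨(shiftFunctor (Dual.D A) (-n)).map_injective, (shiftFunctor (Dual.D A) (-n)).map_surjective⟩
  refine (Function.Bijective.of_comp_iff' (hE Y) _).1 ?_
  refine bij_congr ((key (isPowerTorsion_HD_shift I hL (-n))).comp (hE X)) fun x => ?_
  simp only [Function.comp_apply, E, Functor.map_comp, assoc]
  refine congrArg (x⟦-n⟧' ≫ ·) ?_
  exact (c.hom.naturality φ).symm

variable [IsLocalRing A]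

/-- Local duality: the completion of `RHom(K, ω)` is the dual of `RΓ_m K`. -/
theorem nonempty_completion_rhom_iso {ω : Dual.D A} (hω : Dual.IsDualizing A ω) (hn : Dual.IsNormalized A ω)
    {E : Type u} [AddCommGroup E] [Module A E] {f : ResidueField A →ₗ[A] E} (hf : InjHull.IsInjectiveHull f)
    [DRing.HasRgammaI (maximalIdeal A)] [DRing.HasDerivedCompletion (maximalIdeal A)]
    (K : DRing.Cx A) [DRing.HasRHomCx K] (G : DRing.Cx A) [DRing.HasRHomCx G]
    (eG : DRing.toD G ≅ (DRing.RgammaI (maximalIdeal A)).obj (DRing.toD K)) :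
    Nonempty (((DRing.derivedCompletion (maximalIdeal A)).obj ((DRing.RHomCx K).obj ω)).obj ≅
      (DRing.RHomCx G).obj (Dual.inD A E)) := by
  let m := maximalIdeal A
  let ω' := ((DRing.derivedCompletion m).obj ω).obj
  let Γω := (DRing.RgammaI m).obj ω
  -- the completion
  obtain ⟨hc, hbij⟩ := Groth.Agent.H9Misc.DRingRHomCompl.derivedCompletion_rhom m
    (IsNoetherian.noetherian m) K ω
  obtain ⟨e₀⟩ := nonempty_iso_completion ((DRing.RHomCx K).map (DRing.toDerivedCompletion m ω)) hc hbij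
  -- models
  obtain ⟨J, hJ, -, ⟨eJ⟩⟩ := Groth.Agent.H9Misc.DRingRHomCompl.exists_resolution ω'
  obtain ⟨J₁, hJ₁, -, ⟨eJ₁⟩⟩ := Groth.Agent.H9Misc.DRingRHomCompl.exists_resolution Γω
  haveI := hJ
  haveI := hJ₁
  -- change of the source
  obtain ⟨G', s, hs, g, hg⟩ := DerivedCategory.right_fac (eG.hom ≫ (DRing.RgammaIε m).app (DRing.toD K))
  haveI : QuasiIso s := (DerivedCategory.isIso_Q_map_iff_quasiIso _ _).1 hs
  haveI := quasiIso_homCxPre_of_isKInjective s J
  have hcompl : ∀ n : ℤ, DRing.IsDerivedComplete m ((DerivedCategory.Q.obj J)⟦n⟧) := fun n =>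
    isDerivedComplete_shift (isDerivedComplete_of_iso eJ ((DRing.derivedCompletion m).obj ω).2) n
  haveI : QuasiIso (homCxPre g J) := quasiIso_homCxPre_of_bijective g fun n => by
    have h1 := ((asIso (DerivedCategory.Q.map s) ≪≫ eG).symm.homFromEquiv
      (Z := (DerivedCategory.Q.obj J)⟦n⟧)).bijective.comp (bijective_precomp_ε m (DRing.toD K) (hcompl n))
    refine bij_congr h1 fun φ => ?_
    change ((asIso (DerivedCategory.Q.map s) ≪≫ eG).hom) ≫ (DRing.RgammaIε m).app (DRing.toD K) ≫ φ = _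
    rw [Iso.trans_hom, asIso_hom, assoc, ← assoc eG.hom, hg, assoc, IsIso.hom_inv_id_assoc]
  let e₁ : (DRing.RHomCx K).obj ω' ≅ (DRing.RHomCx G).obj ω' :=
    (DRing.RHomCx K).mapIso eJ ≪≫ (Groth.Agent.H9Misc.DRingHomCx.isoOfKInjective K J).symm ≪≫
      asIso (DerivedCategory.Q.map (homCxPre g J)) ≪≫ (asIso (DerivedCategory.Q.map (homCxPre s J))).symm ≪≫
        Groth.Agent.H9Misc.DRingHomCx.isoOfKInjective G J ≪≫ (DRing.RHomCx G).mapIso eJ.symm
  -- change of the target
  let φ : Γω ⟶ ω' := (DRing.RgammaIε m).app ω ≫ DRing.toDerivedCompletion m ω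
  have hφ : IsIso ((DRing.RgammaI m).map φ) := by
    haveI := isIso_map_ε m ω
    haveI := isIso_map_toDerivedCompletion m ω
    rw [Functor.map_comp]
    infer_instance
  obtain ⟨ψ, hψ⟩ := Groth.Agent.H9Misc.BddInjective.lift_to_injective (eJ₁.inv ≫ φ ≫ eJ.hom)
  have hGt : ∀ i : ℤ, LocCoh.IsPowerTorsion m (Dual.HD A (DerivedCategory.Q.obj G) i) := fun i =>
    isPowerTorsion_of_equiv
      ((DerivedCategory.homologyFunctor (ModuleCat.{u} A) i).mapIso eG).toLinearEquiv.symm
      (isPowerTorsion_HD m (DRing.toD K) i)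
  haveI : QuasiIso (DRing.homCxMap G ψ) := quasiIso_homCxMap_of_bijective ψ fun n => by
    refine bij_congr (((shiftFunctor (Dual.D A) n).mapIso eJ).homToEquiv.bijective.comp
      ((bijective_postcomp m φ hφ hGt n).comp
        (((shiftFunctor (Dual.D A) n).mapIso eJ₁).symm.homToEquiv (Z := DerivedCategory.Q.obj G)).bijective)) fun x => ?_
    change ((x ≫ eJ₁.inv⟦n⟧') ≫ φ⟦n⟧') ≫ eJ.hom⟦n⟧' = x ≫ (DerivedCategory.Q.map ψ)⟦n⟧'
    rw [hψ, Functor.map_comp, Functor.map_comp, Functor.map_comp]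
    simp only [φ, Functor.map_comp, assoc]
  let e₂ : (DRing.RHomCx G).obj Γω ≅ (DRing.RHomCx G).obj ω' :=
    (DRing.RHomCx G).mapIso eJ₁ ≪≫ (Groth.Agent.H9Misc.DRingHomCx.isoOfKInjective G J₁).symm ≪≫
      asIso (DerivedCategory.Q.map (DRing.homCxMap G ψ)) ≪≫ Groth.Agent.H9Misc.DRingHomCx.isoOfKInjective G J ≪≫ (DRing.RHomCx G).mapIso eJ.symm
  -- the hull
  have hz : ∀ i : ℤ, i ≠ 0 → IsZero ((DerivedCategory.homologyFunctor (ModuleCat.{u} A) i).obj Γω) := fun i hi => by
    obtain ⟨e⟩ := nonempty_HDI_equiv_HD m ω i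
    haveI := subsingleton_HDI_ne hω hn i hi
    haveI : Subsingleton (Dual.HD A Γω i) := e.toEquiv.symm.subsingleton
    exact ModuleCat.isZero_of_subsingleton _
  haveI : Γω.IsLE 0 := (DerivedCategory.isLE_iff _ _).2 fun i hi => hz i (by omega)
  haveI : Γω.IsGE 0 := (DerivedCategory.isGE_iff _ _).2 fun i hi => hz i (by omega)
  obtain ⟨u⟩ := Groth.Agent.H9Misc.nonempty_iso_single_homology 0 Γω
  obtain ⟨v⟩ := nonempty_HD_equiv_hull hω hn hf
  let e₃ : Γω ≅ Dual.inD A E := u ≪≫ (DerivedCategory.singleFunctor (ModuleCat.{u} A) 0).mapIso v.toModuleIso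
  exact ⟨e₀ ≪≫ e₁ ≪≫ e₂.symm ≪≫ (DRing.RHomCx G).mapIso e₃⟩

end Groth.Agent.RGammaI
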