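import Groth.Agent.RGammaI.Pairing
import Groth.Agent.KFlatLib.Ring.RHomFinite

/-! Local duality for a normalized dualizing complex. -/

set_option linter.style.haveILetI false
set_option maxHeartbeats 1000000

universe u

open CategoryTheory CategoryTheory.Category CategoryTheory.Limits CategoryTheory.Pretriangulated IsLocalRing

attribute [local instance] HasDerivedCategory.standard
attribute [local instance] Groth.Agent.H9Misc.DRingHomCx.qh_isLeftAdjoint

namespace Groth.Agent.RGammaI

variable {A : Type u} [CommRing A]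

/-- The cohomology of a single module is finite when the module is. -/
lemma finite_HD_inD (M : Type u) [AddCommGroup M] [Module A M] [Module.Finite A M] (i : ℤ) :
    Module.Finite A (Dual.HD A (Dual.inD A M) i) := by
  by_cases hi : i = 0
  · subst hi
    haveI : Module.Finite A ↑((𝟭 (ModuleCat.{u} A)).obj (ModuleCat.of A M)) := inferInstanceAs (Module.Finite A M)
    exact Module.Finite.equiv
      ((DerivedCategory.singleFunctorCompHomologyFunctorIso (ModuleCat.{u} A) 0).app (ModuleCat.of A M)).toLinearEquiv.symm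
  · haveI := Groth.Agent.H9Misc.DRingTel.subsingleton_homology_inD (A := A) M hi
    exact Module.Finite.of_finite

/-- Cohomology of a shift. -/
noncomputable def HDshift (K : Dual.D A) (n i j : ℤ) (h : n + i = j) :
    Dual.HD A (K⟦n⟧) i ≃ₗ[A] Dual.HD A K j :=
  (((DerivedCategory.homologyFunctor (ModuleCat.{u} A) 0).shiftIso n i j h).app K).toLinearEquiv

lemma finite_HD_shift {K : Dual.D A} (hK : ∀ i : ℤ, Module.Finite A (Dual.HD A K i)) (n i : ℤ) :
    Module.Finite A (Dual.HD A (K⟦n⟧) i) :=
  haveI := hK (n + i)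
  Module.Finite.equiv (HDshift K n i (n + i) rfl).symm

/-- A map between objects concentrated in degree zero is detected on `H^0`. -/
lemma eq_zero_of_heart {X Y : Dual.D A} [X.IsLE 0] [X.IsGE 0] [Y.IsLE 0] [Y.IsGE 0] (u : X ⟶ Y)
    (hu : (DerivedCategory.homologyFunctor (ModuleCat.{u} A) 0).map u = 0) : u = 0 := by
  obtain ⟨a⟩ := Groth.Agent.H9Misc.nonempty_iso_single_homology 0 X
  obtain ⟨b⟩ := Groth.Agent.H9Misc.nonempty_iso_single_homology 0 Y
  let S := DerivedCategory.singleFunctor (ModuleCat.{u} A) 0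
  let H := DerivedCategory.homologyFunctor (ModuleCat.{u} A) 0
  obtain ⟨g, hg⟩ := S.map_surjective (a.inv ≫ u ≫ b.hom)
  have h0 : H.map (S.map g) = 0 := by
    rw [hg, Functor.map_comp, Functor.map_comp]
    change H.map a.inv ≫ H.map u ≫ H.map b.hom = 0
    rw [show H.map u = 0 from hu, zero_comp, comp_zero]
  have hg0 : g = 0 := by
    have hn := (DerivedCategory.singleFunctorCompHomologyFunctorIso (ModuleCat.{u} A) 0).hom.naturality g
    rw [Functor.comp_map, h0, zero_comp] at hn
    exact (cancel_epi ((DerivedCategory.singleFunctorCompHomologyFunctorIso (ModuleCat.{u} A) 0).hom.app _)).1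
      (hn.symm.trans comp_zero.symm)
  rw [hg0, Functor.map_zero] at hg
  rw [← cancel_epi a.inv, ← cancel_mono b.hom, comp_zero, zero_comp, assoc]
  exact hg.symm

variable [IsNoetherianRing A]

/-- Truncations preserve finiteness. -/
lemma exists_trunc_finite {K : Dual.D A} (hK : ∀ i : ℤ, Module.Finite A (Dual.HD A K i)) (N : ℤ) :
    ∃ T : Triangle (Dual.D A), T ∈ distTriang _ ∧ T.obj₂ = K ∧ T.obj₁.IsLE N ∧ T.obj₃.IsGE (N + 1) ∧
      (∀ i, Module.Finite A (Dual.HD A T.obj₁ i)) ∧ (∀ i, Module.Finite A (Dual.HD A T.obj₃ i)) ∧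
      (∀ a : ℤ, K.IsGE a → T.obj₁.IsGE a) ∧ (∀ b : ℤ, K.IsLE b → T.obj₃.IsLE b) := by
  obtain ⟨X, Y, hX, hY, f, g, δ, hT⟩ := DerivedCategory.TStructure.t.exists_triangle K N (N + 1) rfl
  haveI : X.IsLE N := ⟨hX⟩
  haveI : Y.IsGE (N + 1) := ⟨hY⟩
  let H := fun i => DerivedCategory.homologyFunctor (ModuleCat.{u} A) i
  have hmono : ∀ i ≤ N + 1, Mono ((H i).map f) := fun i hi =>
    (DerivedCategory.HomologySequence.mono_homologyMap_mor₁_iff _ hT (i - 1) i (by omega)).2
      ((DerivedCategory.isZero_of_isGE Y (N + 1) (i - 1) (by omega)).eq_of_src _ _)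
  have hepi : ∀ i ≥ N, Epi ((H i).map g) := fun i hi =>
    (DerivedCategory.HomologySequence.epi_homologyMap_mor₂_iff _ hT i (i + 1) rfl).2
      ((DerivedCategory.isZero_of_isLE X N (i + 1) (by omega)).eq_of_tgt _ _)
  refine ⟨_, hT, rfl, ⟨hX⟩, ⟨hY⟩, fun i => ?_, fun i => ?_, fun a ha => ?_, fun b hb => ?_⟩
  · change Module.Finite A (Dual.HD A X i)
    by_cases hi : i ≤ N
    · haveI := hK i
      haveI := hmono i (by omega)
      exact Module.Finite.of_injective ((H i).map f).hom ((ModuleCat.mono_iff_injective _).1 inferInstance)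
    · haveI : Subsingleton (Dual.HD A X i) :=
        ModuleCat.subsingleton_of_isZero (DerivedCategory.isZero_of_isLE X N i (by omega))
      exact Module.Finite.of_finite
  · change Module.Finite A (Dual.HD A Y i)
    by_cases hi : N < i
    · haveI := hK i
      haveI := hepi i hi.le
      exact Module.Finite.of_surjective ((H i).map g).hom ((ModuleCat.epi_iff_surjective _).1 inferInstance)
    · haveI : Subsingleton (Dual.HD A Y i) :=
        ModuleCat.subsingleton_of_isZero (DerivedCategory.isZero_of_isGE Y (N + 1) i (by omega))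
      exact Module.Finite.of_finite
  · refine (DerivedCategory.isGE_iff _ _).2 fun i hi => ?_
    change IsZero ((H i).obj X)
    by_cases hi' : i ≤ N + 1
    · haveI := hmono i hi'
      exact IsZero.of_mono ((H i).map f) (DerivedCategory.isZero_of_isGE K a i hi)
    · exact DerivedCategory.isZero_of_isLE X N i (by omega)
  · refine (DerivedCategory.isLE_iff _ _).2 fun i hi => ?_
    change IsZero ((H i).obj Y)
    by_cases hi' : N ≤ i
    · haveI := hepi i hi'
      exact IsZero.of_epi ((H i).map g) (DerivedCategory.isZero_of_isLE K b i hi)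
    · exact DerivedCategory.isZero_of_isGE Y (N + 1) i (by omega)

variable [IsLocalRing A] {ω : Dual.D A} {E : Type u} [AddCommGroup E] [Module A E]

section

variable (hω : Dual.IsDualizing A ω) (hn : Dual.IsNormalized A ω) {f : ResidueField A →ₗ[A] E}
  (hf : InjHull.IsInjectiveHull f) (e : ↑((F (maximalIdeal A)).obj ω) ≃ₗ[A] E)

include hω

lemma finite_hom_shift {K : Dual.D A} (hK : ∀ i : ℤ, Module.Finite A (Dual.HD A K i)) (n : ℤ) :
    Module.Finite A (K⟦n⟧ ⟶ ω) :=
  haveI := Groth.Agent.KFlatLib.finite_hom_of_finite_hd hK hω.finite_cohomology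
    (Groth.Agent.KFlatLib.finiteInjDim_of_isDualizing hω) (-n)
  Module.Finite.equiv (shiftHomEquiv K ω n (-n) (by omega)).symm

/-- Objects far below satisfy duality. -/
lemma exists_dualizes_low : ∃ L : ℤ, ∀ C : Dual.D A, C.IsLE L →
    Dualizes (maximalIdeal A) e.toLinearMap C := by
  obtain ⟨m, hm⟩ := exists_F_low (maximalIdeal A)
  obtain ⟨a, b, hab⟩ := Groth.Agent.KFlatLib.finiteInjDim_of_isDualizing hω
  haveI := Groth.Agent.KFlatLib.isGE_of_injAmplitude hab
  refine ⟨min m (a - 1), fun C hC => dualizes_of_zero ?_ ?_⟩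
  · exact hm C (DerivedCategory.TStructure.t.isLE_of_le C (min m (a - 1)) m (min_le_left _ _))
  · haveI : C.IsLE (a - 1) :=
      DerivedCategory.TStructure.t.isLE_of_le C (min m (a - 1)) (a - 1) (min_le_right _ _)
    exact subsingleton_of_forall_eq 0 fun φ => DerivedCategory.TStructure.t.zero φ (a - 1) a (by omega)

/-- Objects far above satisfy duality. -/
lemma exists_dualizes_high : ∃ N : ℤ, ∀ C : Dual.D A, C.IsGE N →
    Dualizes (maximalIdeal A) e.toLinearMap C := by
  obtain ⟨a, b, hab⟩ := Groth.Agent.KFlatLib.finiteInjDim_of_isDualizing hω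
  refine ⟨max 1 (b + 1), fun C hC => dualizes_of_zero ?_ ?_⟩
  · exact isZero_F_high _ C (DerivedCategory.TStructure.t.isGE_of_ge C 1 (max 1 (b + 1)) (le_max_left _ _))
  · haveI : C.IsGE (b + 1) :=
      DerivedCategory.TStructure.t.isGE_of_ge C (b + 1) (max 1 (b + 1)) (le_max_right _ _)
    exact subsingleton_of_forall_eq 0 fun φ =>
      Groth.Agent.KFlatLib.eq_zero_of_injAmplitude (b + 1) a b (by omega) hab φ

include hn hf

/-- The residue field satisfies duality. -/
theorem good_residueField : Good (maximalIdeal A) e.toLinearMap (Dual.inD A (A ⧸ maximalIdeal A)) := by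
  let I := maximalIdeal A
  haveI := hasRgammaI I
  haveI := Groth.Agent.KFlatLib.hasLTen A
  haveI := Groth.Agent.KFlatLib.hasRHom (A := A)
  let K := Dual.inD A (A ⧸ I)
  have hk : LocCoh.IsPowerTorsion I (A ⧸ I) :=
    (Groth.Agent.LC.isPowerTorsion_residueField : LocCoh.IsPowerTorsion I (ResidueField A))
  have hk' : ∀ j : ℤ, LocCoh.IsPowerTorsion I (Dual.HD A K j) := fun j => by
    by_cases hj : j = 0
    · subst hj
      exact isPowerTorsion_of_equiv
        ((DerivedCategory.singleFunctorCompHomologyFunctorIso (ModuleCat.{u} A) 0).app (ModuleCat.of A (A ⧸ I))).toLinearEquiv.symm hk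
    · haveI := Groth.Agent.H9Misc.DRingTel.subsingleton_homology_inD (A := A) (A ⧸ I) hj
      exact fun x => ⟨0, fun a _ => Subsingleton.elim _ _⟩
  haveI := isIso_ε_of_torsion I K hk'
  let εi := asIso ((DRing.RgammaIε I).app K)
  intro n
  by_cases hn0 : n = 0
  · subst hn0
    refine Dualizes.of_iso ((shiftFunctorZero (Dual.D A) ℤ).app K).symm ?_
    change Dualizes I e.toLinearMap K
    let q₁ : ↑((F I).obj K) ≃ₗ[A] A ⧸ I :=
      (FIso I K ≪≫ (DerivedCategory.homologyFunctor (ModuleCat.{u} A) 0).mapIso εi).toLinearEquiv.trans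
        ((DerivedCategory.singleFunctorCompHomologyFunctorIso (ModuleCat.{u} A) 0).app (ModuleCat.of A (A ⧸ I))).toLinearEquiv
    obtain ⟨m, -, ⟨hm2⟩⟩ := Groth.Agent.KFlatLib.exists_unique_ext_point (maximalIdeal A) hω
    haveI hnt : Nontrivial (A ⧸ maximalIdeal A) :=
      Ideal.Quotient.nontrivial_iff.2 (maximalIdeal.isMaximal A).ne_top
    obtain rfl : m = 0 := by
      by_contra h
      haveI : Subsingleton (Dual.inD A (A ⧸ maximalIdeal A) ⟶ ω⟦m⟧) := hn m h
      exact not_subsingleton (A ⧸ maximalIdeal A) hm2.toEquiv.symm.subsingleton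
    let q : (K ⟶ ω) ≃ₗ[A] A ⧸ I :=
      (Linear.homCongr A (Iso.refl _) ((shiftFunctorZero (Dual.D A) ℤ).app ω)).symm.trans hm2
    obtain ⟨q₂⟩ : Nonempty (((K ⟶ ω) →ₗ[A] E) ≃ₗ[A] A ⧸ I) := by
      obtain ⟨d⟩ := Groth.Agent.KFlatLib.exists_endQuotientLEquiv (m := maximalIdeal A)
      let c : ((A ⧸ I) →ₗ[A] (A ⧸ I)) →ₗ[A] ((A ⧸ I) →ₗ[A] E) :=
        LinearMap.compRight A (M := A ⧸ I) (f : (A ⧸ I) →ₗ[A] E)
      have hc : Function.Bijective c := by
        refine ⟨fun x y hxy => LinearMap.ext fun z => hf.injective (LinearMap.congr_fun hxy z), fun φ => ?_⟩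
        have hmem : ∀ z, φ z ∈ LinearMap.range f := fun z => by
          rw [← Groth.Agent.LC.hull_socle hf, Submodule.mem_torsionBySet_iff]
          rintro ⟨a, ha⟩
          rw [← map_smul]
          convert map_zero φ
          obtain ⟨z, rfl⟩ := Ideal.Quotient.mk_surjective z
          rw [Algebra.smul_def, Ideal.Quotient.algebraMap_eq, ← map_mul]
          exact Ideal.Quotient.eq_zero_iff_mem.2 (I.mul_mem_right _ ha)
        exact ⟨(LinearEquiv.ofInjective f hf.injective).symm.toLinearMap ∘ₗ φ.codRestrict _ hmem,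
          LinearMap.ext fun z => congrArg Subtype.val
            ((LinearEquiv.ofInjective f hf.injective).apply_symm_apply ⟨φ z, hmem z⟩)⟩
      exact ⟨(q.arrowCongr (LinearEquiv.refl A E)).trans ((LinearEquiv.ofBijective c hc).symm.trans d)⟩
    -- a nonzero value of the pairing
    have hne : pair I e.toLinearMap K ≠ 0 := by
      intro h0
      obtain ⟨φ, hφ⟩ : ∃ φ : K ⟶ ω, φ ≠ 0 := ⟨q.symm (Ideal.Quotient.mk I 1), fun h => by
        rw [LinearEquiv.map_eq_zero_iff, Ideal.Quotient.eq_zero_iff_mem] at h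
        exact (maximalIdeal.isMaximal A).ne_top ((Ideal.eq_top_iff_one _).2 h)⟩
      refine hφ ?_
      have hF : (F I).map φ = 0 := ModuleCat.hom_ext (LinearMap.ext fun x =>
        e.injective (((LinearMap.congr_fun (LinearMap.congr_fun h0 x) φ)).trans e.map_zero.symm))
      have hH : (DerivedCategory.homologyFunctor (ModuleCat.{u} A) 0).map ((DRing.RgammaI I).map φ) = 0 := by
        rw [← cancel_epi (FIso I K).hom, ← FIso_natural, hF, zero_comp, comp_zero]
      have hG : ∀ i : ℤ, i ≠ 0 →
          IsZero ((DerivedCategory.homologyFunctor (ModuleCat.{u} A) i).obj ((DRing.RgammaI I).obj ω)) :=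
        fun i hi => by
          obtain ⟨e'⟩ := nonempty_HDI_equiv_HD I ω i
          haveI := subsingleton_HDI_ne hω hn i hi
          haveI : Subsingleton (Dual.HD A ((DRing.RgammaI I).obj ω) i) := e'.toEquiv.symm.subsingleton
          exact ModuleCat.isZero_of_subsingleton _
      haveI : ((DRing.RgammaI I).obj ω).IsLE 0 := (DerivedCategory.isLE_iff _ _).2 fun i hi => hG i (by omega)
      haveI : ((DRing.RgammaI I).obj ω).IsGE 0 := (DerivedCategory.isGE_iff _ _).2 fun i hi => hG i (by omega)
      haveI : K.IsLE 0 := inferInstance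
      haveI : K.IsGE 0 := inferInstance
      haveI : ((DRing.RgammaI I).obj K).IsLE 0 := DerivedCategory.TStructure.t.isLE_of_iso (show K ≅ (DRing.RgammaI I).obj K from εi.symm) 0
      haveI : ((DRing.RgammaI I).obj K).IsGE 0 := DerivedCategory.TStructure.t.isGE_of_iso (show K ≅ (DRing.RgammaI I).obj K from εi.symm) 0
      have hu := eq_zero_of_heart ((DRing.RgammaI I).map φ) hH
      rw [← cancel_epi ((DRing.RgammaIε I).app K), comp_zero]
      have hnat := (DRing.RgammaIε I).naturality φ
      rw [hu, zero_comp] at hnat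
      exact hnat.symm
    haveI : IsSimpleModule A (A ⧸ I) :=
      isSimpleModule_iff_isCoatom.2 (Ideal.isMaximal_def.1 (maximalIdeal.isMaximal A))
    haveI : IsSimpleModule A ↑((F I).obj K) := IsSimpleModule.congr q₁
    haveI : IsSimpleModule A ((K ⟶ ω) →ₗ[A] E) := IsSimpleModule.congr q₂
    exact LinearMap.bijective_of_ne_zero hne
  · refine dualizes_of_zero ?_ ?_
    · haveI := Groth.Agent.H9Misc.DRingTel.subsingleton_homology_inD (A := A) (A ⧸ I) hn0
      exact IsZero.of_iso (ModuleCat.isZero_of_subsingleton ((DerivedCategory.homologyFunctor (ModuleCat.{u} A) n).obj K))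
        (FShiftIso I K n ≪≫ (DerivedCategory.homologyFunctor (ModuleCat.{u} A) n).mapIso εi)
    · haveI : Subsingleton (K ⟶ ω⟦-n⟧) := hn (-n) (by omega)
      exact (shiftHomEquiv K ω n (-n) (by omega)).toEquiv.subsingleton

/-- Duality for modules killed by an ideal follows from duality for its primes. -/
theorem good_of_primes (J : Ideal A)
    (hJ : ∀ p : PrimeSpectrum A, J ≤ p.asIdeal → Good (maximalIdeal A) e.toLinearMap (Dual.inD A (A ⧸ p.asIdeal)))
    (M : Type u) [AddCommGroup M] [Module A M] [hM : Module.Finite A M] (hJM : J ≤ Module.annihilator A M) :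
    Good (maximalIdeal A) e.toLinearMap (Dual.inD A M) := by
  revert hJM
  refine IsNoetherianRing.induction_on_isQuotientEquivQuotientPrime A hM
    (motive := fun N _ _ _ => J ≤ Module.annihilator A N → Good (maximalIdeal A) e.toLinearMap (Dual.inD A N))
    ?_ ?_ ?_
  · intro N _ _ _ _ _ n
    have hz : IsZero ((Dual.inD A N)⟦n⟧) :=
      (shiftFunctor (Dual.D A) n).map_isZero ((DerivedCategory.singleFunctor (ModuleCat.{u} A) 0).map_isZero
        (ModuleCat.isZero_of_subsingleton _))
    exact dualizes_of_zero ((F _).map_isZero hz) (subsingleton_of_forall_eq 0 fun φ => hz.eq_of_src _ _)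
  · intro N _ _ _ p u hN
    refine (hJ p (hN.trans ?_)).of_iso
      ((DerivedCategory.singleFunctor (ModuleCat.{u} A) 0).mapIso u.toModuleIso.symm)
    exact le_of_eq (u.annihilator_eq.trans (Ideal.annihilator_quotient))
  · intro N₁ _ _ _ N₂ _ _ _ N₃ _ _ _ i g hi hg hex h₁ h₃ hN₂
    haveI := hf.isInjective
    let S : ShortComplex (ModuleCat.{u} A) :=
      ShortComplex.mk (ModuleCat.ofHom i) (ModuleCat.ofHom g) (ModuleCat.hom_ext hex.linearMap_comp_eq_zero)
    have hS : S.ShortExact :=
      { exact := (ShortComplex.moduleCat_exact_iff _).2 fun x hx => (hex x).1 hx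
        mono_f := (ModuleCat.mono_iff_injective _).2 hi
        epi_g := (ModuleCat.epi_iff_surjective _).2 hg }
    have hBaer : Module.Baer A E := Module.Baer.iff_injective.2 hf.isInjective
    have g₁ : Good (maximalIdeal A) e.toLinearMap hS.singleTriangle.obj₁ :=
      h₁ (hN₂.trans (i.annihilator_le_of_injective hi))
    have g₃ : Good (maximalIdeal A) e.toLinearMap hS.singleTriangle.obj₃ :=
      h₃ (hN₂.trans (g.annihilator_le_of_surjective hg))
    exact Good.middle (T := hS.singleTriangle) hBaer hS.singleTriangle_distinguished g₁ g₃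

/-- Duality for quotients by primes. -/
theorem good_quot_prime (p : Ideal A) [hp : p.IsPrime] :
    Good (maximalIdeal A) e.toLinearMap (Dual.inD A (A ⧸ p)) := by
  suffices H : ∀ q : Ideal A, q.IsPrime → Good (maximalIdeal A) e.toLinearMap (Dual.inD A (A ⧸ q)) from H p hp
  clear hp p
  intro q
  refine (wellFounded_gt (α := Ideal A)).induction (C := fun p => p.IsPrime →
    Good (maximalIdeal A) e.toLinearMap (Dual.inD A (A ⧸ p))) q fun p ih hp => ?_
  by_cases hpm : p = maximalIdeal A
  · subst hpm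
    exact good_residueField hω hn hf e
  obtain ⟨r, hr, hrp⟩ : ∃ r ∈ maximalIdeal A, r ∉ p :=
    Set.not_subset.1 fun h => hpm (le_antisymm (le_maximalIdeal hp.ne_top) h)
  let J := p ⊔ Ideal.span {r}
  have hlt : ∀ q : PrimeSpectrum A, J ≤ q.asIdeal → p < q.asIdeal := fun q hq =>
    lt_of_le_of_ne (le_sup_left.trans hq) fun h =>
      hrp (h ▸ hq (le_sup_right (a := p) (Ideal.mem_span_singleton_self r)))
  let N := A ⧸ p
  let i : N →ₗ[A] N := r • LinearMap.id
  have hi : Function.Injective i := by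
    rw [injective_iff_map_eq_zero]
    intro x hx
    obtain ⟨a, rfl⟩ := Ideal.Quotient.mk_surjective x
    change r • Ideal.Quotient.mk p a = 0 at hx
    rw [Algebra.smul_def, Ideal.Quotient.algebraMap_eq, ← map_mul, Ideal.Quotient.eq_zero_iff_mem] at hx
    exact Ideal.Quotient.eq_zero_iff_mem.2 ((hp.mem_or_mem hx).resolve_left hrp)
  let N₃ := N ⧸ LinearMap.range i
  have hann : J ≤ Module.annihilator A N₃ := by
    refine sup_le (le_trans (le_of_eq Ideal.annihilator_quotient.symm)
      ((LinearMap.range i).mkQ.annihilator_le_of_surjective (Submodule.mkQ_surjective _))) ?_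
    rw [Ideal.span_le, Set.singleton_subset_iff, SetLike.mem_coe, Module.mem_annihilator]
    intro z
    obtain ⟨x, rfl⟩ := Submodule.mkQ_surjective _ z
    rw [← map_smul, Submodule.mkQ_apply, Submodule.Quotient.mk_eq_zero]
    exact ⟨x, rfl⟩
  have hQ : Good (maximalIdeal A) e.toLinearMap (Dual.inD A N₃) :=
    good_of_primes hω hn hf e J (fun q hq => ih q.asIdeal (hlt q hq) q.isPrime) N₃ hann
  let S : ShortComplex (ModuleCat.{u} A) :=
    ShortComplex.mk (ModuleCat.ofHom i) (ModuleCat.ofHom (LinearMap.range i).mkQ)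
      (ModuleCat.hom_ext (LinearMap.range_mkQ_comp i))
  have hS : S.ShortExact :=
    { exact := (ShortComplex.moduleCat_exact_iff _).2 fun x hx => (Submodule.Quotient.mk_eq_zero _).1 hx
      mono_f := (ModuleCat.mono_iff_injective _).2 hi
      epi_g := (ModuleCat.epi_iff_surjective _).2 (Submodule.mkQ_surjective _) }
  let K := Dual.inD A N
  have hf₁ : (DerivedCategory.singleFunctor (ModuleCat.{u} A) 0).map S.f = r • 𝟙 K := by
    change (DerivedCategory.singleFunctor (ModuleCat.{u} A) 0).map (ModuleCat.ofHom i) = _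
    rw [show ModuleCat.ofHom i = r • 𝟙 (ModuleCat.of A N) from rfl, Functor.map_smul,
      CategoryTheory.Functor.map_id]
  have hfin : ∀ j, Module.Finite A (Dual.HD A K j) := finite_HD_inD N
  obtain ⟨hi₀, hi₁⟩ : ∃ n₀ : ℤ, ∀ n ≤ n₀, Dualizes (maximalIdeal A) e.toLinearMap (K⟦n⟧) := by
    obtain ⟨M₀, hM₀⟩ := exists_dualizes_high hω e
    exact ⟨-M₀, fun n hn' => hM₀ _
      (haveI : K.IsGE 0 := inferInstance
       haveI : (K⟦n⟧).IsGE (-n) := DerivedCategory.TStructure.t.isGE_shift K 0 n (-n) (by omega)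
       DerivedCategory.TStructure.t.isGE_of_ge _ M₀ (-n) (by omega))⟩
  have key : ∀ n, hi₀ ≤ n → Dualizes (maximalIdeal A) e.toLinearMap (K⟦n⟧) := fun n hn' => by
    induction n, hn' using Int.leInduction with
    | base => exact hi₁ _ le_rfl
    | succ n hn' hK' =>
      let c : A := ((n + 1).negOnePow : ℤ) • r
      have hc : c ∈ maximalIdeal A := (maximalIdeal A).toAddSubgroup.zsmul_mem hr _
      let T := (Triangle.shiftFunctor (Dual.D A) (n + 1)).obj hS.singleTriangle
      have hT : T ∈ distTriang _ := Triangle.shift_distinguished _ hS.singleTriangle_distinguished (n + 1)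
      have hmor : T.mor₁ = c • 𝟙 (K⟦n + 1⟧) := by
        change (n + 1).negOnePow • ((DerivedCategory.singleFunctor (ModuleCat.{u} A) 0).map S.f)⟦n + 1⟧' = _
        rw [hf₁, Functor.map_smul, CategoryTheory.Functor.map_id, Units.smul_def]
        exact (smul_assoc _ _ _).symm
      haveI := finite_hom_shift hω hfin (n + 1)
      refine Dualizes.step (Module.Baer.iff_injective.2 hf.isInjective) (Groth.Agent.LC.hull_isPowerTorsion hf)
        hc (g := T.mor₂) (h := T.mor₃) ?_ (isPowerTorsion_F _ _) (hQ (n + 1)) (hQ.shift (n + 1) |>.shift (-1) |>.dualizes) ?_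
      · rw [← hmor]
        exact hT
      · exact hK'.of_iso ((shiftFunctorAdd' (Dual.D A) (n + 1) (-1) n (by omega)).app K)
  intro n
  rcases le_total n hi₀ with h | h
  · exact hi₁ n h
  · exact key n h

/-- Duality for finite modules. -/
theorem good_module (M : Type u) [AddCommGroup M] [Module A M] [Module.Finite A M] :
    Good (maximalIdeal A) e.toLinearMap (Dual.inD A M) :=
  good_of_primes hω hn hf e ⊥
    (fun q _ => haveI := q.isPrime; good_quot_prime hω hn hf e q.asIdeal) M bot_le

/-- Duality for bounded objects with finite cohomology. -/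
theorem good_bounded : ∀ (k : ℕ) (K : Dual.D A) (a : ℤ), K.IsGE a → K.IsLE (a + k) →
    (∀ i, Module.Finite A (Dual.HD A K i)) → Good (maximalIdeal A) e.toLinearMap K := by
  intro k
  induction k with
  | zero =>
    intro K a hge hle hfin
    rw [Nat.cast_zero, add_zero] at hle
    obtain ⟨u⟩ := Groth.Agent.H9Misc.nonempty_iso_single_homology a K
    haveI := hfin a
    let v := ((DerivedCategory.singleFunctors (ModuleCat.{u} A)).shiftIso (-a) a 0 (by omega)).app
      ((DerivedCategory.homologyFunctor (ModuleCat.{u} A) a).obj K)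
    exact ((good_module hω hn hf e (Dual.HD A K a)).shift (-a)).of_iso (v ≪≫ u.symm)
  | succ k ih =>
    intro K a hge hle hfin
    obtain ⟨T, hT, rfl, h₁, h₃, hf₁, hf₃, hg₁, hl₃⟩ := exists_trunc_finite hfin (a + k)
    refine Good.middle (Module.Baer.iff_injective.2 hf.isInjective) hT (ih _ a (hg₁ a hge) h₁ hf₁)
      (good_bounded_zero T.obj₃ ?_ hf₃)
    exact ⟨a + k + 1, h₃, by
      have := hl₃ _ hle
      rwa [show a + k + 1 = a + ((k + 1 : ℕ) : ℤ) by push_cast; ring]⟩
where
  good_bounded_zero (X : Dual.D A) (hX : ∃ c : ℤ, X.IsGE c ∧ X.IsLE c)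
      (hfin : ∀ i, Module.Finite A (Dual.HD A X i)) : Good (maximalIdeal A) e.toLinearMap X := by
    obtain ⟨c, hge, hle⟩ := hX
    obtain ⟨u⟩ := Groth.Agent.H9Misc.nonempty_iso_single_homology c X
    haveI := hfin c
    let v := ((DerivedCategory.singleFunctors (ModuleCat.{u} A)).shiftIso (-c) c 0 (by omega)).app
      ((DerivedCategory.homologyFunctor (ModuleCat.{u} A) c).obj X)
    exact ((good_module hω hn hf e (Dual.HD A X c)).shift (-c)).of_iso (v ≪≫ u.symm)

/-- Duality for objects with finite cohomology. -/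
theorem dualizes_of_finite (K : Dual.D A) (hK : ∀ i, Module.Finite A (Dual.HD A K i)) :
    Dualizes (maximalIdeal A) e.toLinearMap K := by
  have hB := Module.Baer.iff_injective.2 hf.isInjective
  obtain ⟨L, hL⟩ := exists_dualizes_low hω e
  obtain ⟨N, hN⟩ := exists_dualizes_high hω e
  have hlow : ∀ (C : Dual.D A) (j : ℤ), C.IsLE L → 0 ≤ j → Dualizes (maximalIdeal A) e.toLinearMap (C⟦j⟧) :=
    fun C j hC hj => hL _
      (haveI : (C⟦j⟧).IsLE (L - j) := DerivedCategory.TStructure.t.isLE_shift C L j (L - j) (by omega)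
       DerivedCategory.TStructure.t.isLE_of_le _ (L - j) L (by omega))
  have hhigh : ∀ (C : Dual.D A) (j : ℤ), C.IsGE (N + 1) → j ≤ 0 → Dualizes (maximalIdeal A) e.toLinearMap (C⟦j⟧) :=
    fun C j hC hj => hN _
      (haveI : (C⟦j⟧).IsGE (N + 1 - j) := DerivedCategory.TStructure.t.isGE_shift C (N + 1) j (N + 1 - j) (by omega)
       DerivedCategory.TStructure.t.isGE_of_ge _ N (N + 1 - j) (by omega))
  obtain ⟨T, hT, rfl, h₁, h₃, hf₁, -, -, -⟩ := exists_trunc_finite hK (max N L)
  obtain ⟨T', hT', hX, h₁', h₃', hf₁', hf₃', -, hl₃'⟩ := exists_trunc_finite hf₁ L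
  have hY : T.obj₃.IsGE (N + 1) :=
    DerivedCategory.TStructure.t.isGE_of_ge _ (N + 1) (max N L + 1) (by omega)
  have hmid : Good (maximalIdeal A) e.toLinearMap T'.obj₃ := by
    refine good_bounded hω hn hf e (max N L - (L + 1)).toNat T'.obj₃ (L + 1) h₃' ?_ hf₃'
    have h := hl₃' (max N L) h₁
    exact DerivedCategory.TStructure.t.isLE_of_le _ (max N L) _ (by omega)
  have hX₀ : ∀ j : ℤ, 0 ≤ j → Dualizes (maximalIdeal A) e.toLinearMap (T.obj₁⟦j⟧) := fun j hj => by
    rw [← hX]
    exact Dualizes.middle hB (Triangle.shift_distinguished T' hT' j) (hmid.shift j (-1)) (hlow _ j h₁' hj)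
      (hmid j) ((hlow _ (j + 1) h₁' (by omega)).of_iso ((shiftFunctorAdd' (Dual.D A) j 1 (j + 1) rfl).app _))
  exact Dualizes.middle hB hT (hhigh _ (-1) hY (by omega))
    ((hX₀ 0 le_rfl).of_iso ((shiftFunctorZero (Dual.D A) ℤ).app _))
    ((hhigh _ 0 hY le_rfl).of_iso ((shiftFunctorZero (Dual.D A) ℤ).app _)) (hX₀ 1 zero_le_one)

end

/-- Local duality. -/
theorem nonempty_HDI_equiv_dual (hω : Dual.IsDualizing A ω) (hn : Dual.IsNormalized A ω)
    {f : ResidueField A →ₗ[A] E} (hf : InjHull.IsInjectiveHull f) (K : Dual.D A)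
    (hK : ∀ i, Module.Finite A (Dual.HD A K i)) (i : ℤ) :
    Nonempty (↑(Dual2.HDI A (maximalIdeal A) K i) ≃ₗ[A] ((K ⟶ ω⟦-i⟧) →ₗ[A] E)) := by
  haveI := hasRgammaI (maximalIdeal A)
  obtain ⟨e₀⟩ := nonempty_HD_equiv_hull hω hn hf
  obtain ⟨e₁⟩ := nonempty_HDI_equiv_HD (maximalIdeal A) K i
  let e := (FIso (maximalIdeal A) ω).toLinearEquiv.trans e₀
  have hb := dualizes_of_finite hω hn hf e (K⟦i⟧) (finite_HD_shift hK i)
  exact ⟨e₁.trans ((FShiftIso (maximalIdeal A) K i).toLinearEquiv.symm.trans ((LinearEquiv.ofBijective _ hb).trans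
    ((shiftHomEquiv K ω i (-i) (by omega)).arrowCongr (LinearEquiv.refl A E))))⟩

end Groth.Agent.RGammaI
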