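import Groth.Agent.RGammaI.DepthSupport
import Groth.Agent.LC.ExtDim
import Groth.Agent.LC.DualCM

/-! The range of localised Ext into a dualizing complex, and Cohen–Macaulay loci. -/

set_option linter.style.haveILetI false
set_option maxHeartbeats 1000000

universe u

open CategoryTheory CategoryTheory.Limits

attribute [local instance] HasDerivedCategory.standard

namespace Groth.Agent.RGammaI

open Groth.Agent.KFlatLib

variable {A : Type u} [CommRing A] [IsNoetherianRing A] {ω : Dual.D A}

/-- The first nonvanishing localised Ext, from below. -/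
theorem localized_ext_of_dim (hω : Dual.IsDualizing A ω) {n : PrimeSpectrum A → ℤ} (hn : IsExtDegree ω n)
    (M : Type u) [AddCommGroup M] [Module A M] [Module.Finite A M] (q : PrimeSpectrum A) (d : ℕ)
    (hd : Module.supportDim (Localization.AtPrime q.asIdeal) (LocalizedModule q.asIdeal.primeCompl M) = d) :
    (∀ i : ℤ, i < n q - d → Subsingleton (LocalizedModule q.asIdeal.primeCompl (Dual.inD A M ⟶ ω⟦i⟧))) ∧
      Nontrivial (LocalizedModule q.asIdeal.primeCompl (Dual.inD A M ⟶ ω⟦n q - d⟧)) := by
  let B := Localization.AtPrime q.asIdeal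
  haveI := hasLBase (algebraMap A B)
  haveI : Module.Flat A B := IsLocalization.flat _ q.asIdeal.primeCompl
  obtain ⟨a, b, -, _, _⟩ := exists_bounds_of_isDualizing hω
  haveI := isGE_LBase_flat (B := B) ω a
  obtain ⟨hB, nB, hnB, hcov, hmono, hclosed⟩ := exists_local_degree hω hn a q
  let N := LocalizedModule q.asIdeal.primeCompl M
  refine ⟨fun i hi => ?_, ?_⟩
  · obtain ⟨e⟩ := nonempty_localExt (ω := ω) a q.asIdeal M i
    haveI : Subsingleton (Dual.inD B N ⟶ ((DTen.LBase (algebraMap A B)).obj ω)⟦i⟧) :=
      subsingleton_hom_module_of_lt hnB N i fun P hP => by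
        obtain ⟨e', he, he'⟩ := ringKrullDim_quotient_eq hcov hmono P
        have hed : e' ≤ d := by
          have h1 : ringKrullDim (B ⧸ P.asIdeal) ≤ Module.supportDim B N := by
            rw [ringKrullDim_quotient]
            exact Order.krullDim_le_of_strictMono (fun Q => ⟨Q.1, Module.mem_support_mono Q.2 hP⟩)
              fun x y h => h
          rw [he, hd] at h1
          exact_mod_cast h1
        omega
    exact e.symm.subsingleton
  · obtain ⟨P, hP, hmin, hPd⟩ := exists_mem_support_dim N d hd
    obtain ⟨e', he, he'⟩ := ringKrullDim_quotient_eq hcov hmono P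
    have hed : e' = d := by
      refine le_antisymm ?_ (by rw [he] at hPd; exact_mod_cast hPd)
      have h1 : ringKrullDim (B ⧸ P.asIdeal) ≤ Module.supportDim B N := by
        rw [ringKrullDim_quotient]
        exact Order.krullDim_le_of_strictMono (fun Q => ⟨Q.1, Module.mem_support_mono Q.2 hP⟩)
          fun x y h => h
      rw [he, hd] at h1
      exact_mod_cast h1
    rw [Module.support_eq_zeroLocus] at hP hmin
    obtain ⟨-, f, hf⟩ := (isAssociatedPrime_iff_exists_injective_linearMap _ _).1
      (Module.associatedPrimes.minimalPrimes_annihilator_subset_associatedPrimes B N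
        (show P.asIdeal ∈ (Module.annihilator B N).minimalPrimes from
          ⟨⟨P.isPrime, hP⟩, fun Q hQ hQP => (congrArg PrimeSpectrum.asIdeal (hmin ⟨Q, hQ.1⟩ hQ.2 hQP)).ge⟩))
    have h1 := nontrivial_localized_of_injective hnB a hB.finite_cohomology N P f hf
    rw [show nB P = n q - d by omega] at h1
    obtain ⟨e⟩ := nonempty_localExt (ω := ω) a q.asIdeal M (n q - d)
    by_contra hcon
    rw [not_nontrivial_iff_subsingleton] at hcon
    haveI := e.subsingleton
    exact not_subsingleton
      (LocalizedModule P.asIdeal.primeCompl (Dual.inD B N ⟶ ((DTen.LBase (algebraMap A B)).obj ω)⟦n q - d⟧))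
      (LocalizedModule.subsingleton_iff.2 fun φ => ⟨1, one_mem _, Subsingleton.elim _ _⟩)

/-- The invariants of a localised module. -/
theorem exists_depth_dim (M : Type u) [AddCommGroup M] [Module A M] [Module.Finite A M] (q : PrimeSpectrum A)
    (hq : q ∈ Module.support A M) :
    ∃ δ d : ℕ, LocCoh.depth (Localization.AtPrime q.asIdeal) (LocalizedModule q.asIdeal.primeCompl M) = δ ∧
      Module.supportDim (Localization.AtPrime q.asIdeal) (LocalizedModule q.asIdeal.primeCompl M) = d ∧ δ ≤ d := by
  haveI : Nontrivial (LocalizedModule q.asIdeal.primeCompl M) := Module.mem_support_iff.1 hq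
  obtain ⟨δ, hδ⟩ := exists_depth_eq (A := Localization.AtPrime q.asIdeal) (LocalizedModule q.asIdeal.primeCompl M)
  have hle := Groth.Agent.LC.depth_le_supportDim (R := Localization.AtPrime q.asIdeal)
    (M := LocalizedModule q.asIdeal.primeCompl M)
  rw [hδ] at hle
  have hfin : Module.supportDim (Localization.AtPrime q.asIdeal) (LocalizedModule q.asIdeal.primeCompl M) < ⊤ :=
    lt_of_le_of_lt (Module.supportDim_le_ringKrullDim _ _) ringKrullDim_lt_top
  have hne := Module.supportDim_ne_bot_of_nontrivial (Localization.AtPrime q.asIdeal)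
    (LocalizedModule q.asIdeal.primeCompl M)
  cases hsd : Module.supportDim (Localization.AtPrime q.asIdeal) (LocalizedModule q.asIdeal.primeCompl M) with
  | bot => exact absurd hsd hne
  | coe x =>
    rw [hsd] at hfin hle
    cases x with
    | top => exact absurd rfl hfin.ne
    | coe d => exact ⟨δ, d, hδ, rfl, by exact_mod_cast hle⟩

/-- Cohen–Macaulay at a point means a single localised Ext. -/
theorem isCohenMacaulayModule_iff (hω : Dual.IsDualizing A ω) (M : Type u) [AddCommGroup M] [Module A M]
    [Module.Finite A M] (q : PrimeSpectrum A) :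
    (Subsingleton (LocalizedModule q.asIdeal.primeCompl M) ∨
      LocCoh.IsCohenMacaulayModule (Localization.AtPrime q.asIdeal) (LocalizedModule q.asIdeal.primeCompl M)) ↔
    ∀ i j : ℤ, q ∈ Module.support A (Dual.inD A M ⟶ ω⟦i⟧) → q ∈ Module.support A (Dual.inD A M ⟶ ω⟦j⟧) →
      i = j := by
  by_cases hq : q ∈ Module.support A M
  swap
  · exact iff_of_true (Or.inl (Module.notMem_support_iff.1 hq))
      fun i j hi _ => absurd (support_hom_subset M _ hi) hq
  obtain ⟨n, hn, -⟩ := exists_extDegree hω
  obtain ⟨δ, d, hδ, hd, hle⟩ := exists_depth_dim M q hq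
  obtain ⟨hv₁, hnt₁⟩ := localized_ext_of_depth hω hn M q δ hδ hq
  obtain ⟨hv₂, hnt₂⟩ := localized_ext_of_dim hω hn M q d hd
  constructor
  · rintro (h | h) i j hi hj
    · exact absurd (Module.mem_support_iff.1 hq) (not_nontrivial_iff_subsingleton.2 h)
    · rw [LocCoh.IsCohenMacaulayModule, hd, hδ] at h
      have hdδ : d = δ := by exact_mod_cast h
      have key : ∀ k : ℤ, q ∈ Module.support A (Dual.inD A M ⟶ ω⟦k⟧) → k = n q - d := fun k hk => by
        rw [Module.mem_support_iff] at hk
        by_contra hne
        rcases lt_or_gt_of_ne hne with hlt | hgt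
        · exact absurd hk (not_nontrivial_iff_subsingleton.2 (hv₂ k hlt))
        · exact absurd hk (not_nontrivial_iff_subsingleton.2 (hv₁ k (by omega)))
      rw [key i hi, key j hj]
  · intro h
    refine Or.inr ?_
    have := h _ _ (Module.mem_support_iff.2 hnt₁) (Module.mem_support_iff.2 hnt₂)
    rw [LocCoh.IsCohenMacaulayModule, hd, hδ, show d = δ by omega]
    rfl

/-- The Cohen–Macaulay locus is open. -/
theorem isOpen_cm_locus (hω : Dual.IsDualizing A ω) (M : Type u) [AddCommGroup M] [Module A M]
    [Module.Finite A M] :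
    IsOpen {p : PrimeSpectrum A | Subsingleton (LocalizedModule p.asIdeal.primeCompl M) ∨
      LocCoh.IsCohenMacaulayModule (Localization.AtPrime p.asIdeal) (LocalizedModule p.asIdeal.primeCompl M)} := by
  obtain ⟨a, b, hab⟩ := hω.finite_injective_dimension
  obtain ⟨a', b', -, _, _⟩ := exists_bounds_of_isDualizing hω
  let Z : ℤ → Set (PrimeSpectrum A) := fun i => Module.support A (Dual.inD A M ⟶ ω⟦i⟧)
  have hZ : ∀ i, IsClosed (Z i) := fun i => by
    haveI := finite_hom_module ω a' hω.finite_cohomology M i
    simp only [Z, Module.support_eq_zeroLocus]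
    exact PrimeSpectrum.isClosed_zeroLocus _
  have hrange : ∀ (q : PrimeSpectrum A) i, q ∈ Z i → i ∈ Finset.Icc a b := fun q i hi => by
    by_contra hc
    haveI := hab M i (by rw [Finset.mem_Icc] at hc; omega)
    have hnt : Nontrivial (LocalizedModule q.asIdeal.primeCompl (Dual.inD A M ⟶ ω⟦i⟧)) := Module.mem_support_iff.1 hi
    exact absurd hnt (not_nontrivial_iff_subsingleton.2
      (LocalizedModule.subsingleton_iff.2 fun φ => ⟨1, one_mem _, Subsingleton.elim _ _⟩))
  have hset : {p : PrimeSpectrum A | Subsingleton (LocalizedModule p.asIdeal.primeCompl M) ∨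
      LocCoh.IsCohenMacaulayModule (Localization.AtPrime p.asIdeal) (LocalizedModule p.asIdeal.primeCompl M)} =
      (⋃ i ∈ Finset.Icc a b, ⋃ j ∈ (Finset.Icc a b).erase i, Z i ∩ Z j)ᶜ := by
    ext q
    rw [Set.mem_setOf_eq, isCohenMacaulayModule_iff hω M q]
    simp only [Set.mem_compl_iff, Set.mem_iUnion, Set.mem_inter_iff, not_exists, not_and, Finset.mem_erase]
    exact ⟨fun h i _ j hj hi hj' => hj.1 (h j i hj' hi),
      fun h i j hi hj => by_contra fun hne => h i (hrange q i hi) j ⟨Ne.symm hne, hrange q j hj⟩ hi hj⟩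
  rw [hset, isOpen_compl_iff]
  exact isClosed_biUnion_finset fun i _ => isClosed_biUnion_finset fun j _ => (hZ i).inter (hZ j)

omit [IsNoetherianRing A] in
/-- Minimal primes of the support are Cohen–Macaulay points. -/
theorem exists_cm_le [IsNoetherianRing A] (M : Type u) [AddCommGroup M] [Module A M] [Module.Finite A M]
    (q : PrimeSpectrum A) (hq : q ∈ Module.support A M) :
    ∃ P : PrimeSpectrum A, P ≤ q ∧ P ∈ Module.support A M ∧
      LocCoh.IsCohenMacaulayModule (Localization.AtPrime P.asIdeal) (LocalizedModule P.asIdeal.primeCompl M) := by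
  rw [Module.support_eq_zeroLocus] at hq
  obtain ⟨p₀, hp₀, hle⟩ := Ideal.exists_minimalPrimes_le (J := q.asIdeal) hq
  let P : PrimeSpectrum A := ⟨p₀, hp₀.1.1⟩
  have hP : P ∈ Module.support A M := by rw [Module.support_eq_zeroLocus]; exact hp₀.1.2
  haveI hPp : P.asIdeal.IsPrime := P.isPrime
  have hd := @Groth.Agent.LC.supportDim_localized_minimalPrimes A _ M _ _ _ _ P.asIdeal hPp hp₀
  obtain ⟨δ, d, hδ, hd', hle'⟩ := exists_depth_dim M P hP
  rw [hd] at hd'
  obtain rfl : d = 0 := by exact_mod_cast hd'.symm
  obtain rfl : δ = 0 := by omega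
  exact ⟨P, hle, hP, by rw [LocCoh.IsCohenMacaulayModule, hd, hδ]; rfl⟩

end Groth.Agent.RGammaI
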