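import Groth.Agent.RGammaI.Bidual
import Groth.Agent.RGammaI.Duality
import Groth.Agent.RGammaI.ShriekDual
import Groth.Agent.KFlatLib.Ring.RelDualizing
import Groth.Agent.LC.CodimPropagate
import Groth.Agent.LC.ExtSmallSupport

/-! Finiteness of local cohomology in a single degree over a regular ring. -/

set_option linter.style.haveILetI false
set_option maxHeartbeats 1000000
set_option backward.isDefEq.respectTransparency false

universe u

open CategoryTheory CategoryTheory.Limits Pretriangulated MonoidalCategory Opposite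

attribute [local instance] HasDerivedCategory.standard

namespace Groth.Agent.RGammaI.FiniteDegree

open Groth.Agent.KFlatLib

variable {S : Type u} [CommRing S]
variable [DTen.HasLTen S] [DTen.HasRHom S] [DTen.HasLTen₃ S] [DTen.IsSymMonoidal S]


/-- The linear dual in the derived category. -/
noncomputable abbrev du (K : Dual.D S) : Dual.D S := (DTen.RHomR S K).obj (DTen.unit S)

/-- Derived hom out of a shift. -/
lemma nonempty_RHomR_shift_source (K : Dual.D S) (k : ℤ) :
    Nonempty (DTen.RHomR S (K⟦k⟧) ≅ DTen.RHomR S K ⋙ shiftFunctor (Dual.D S) (-k)) := by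
  let U := (DTen.unit S)⟦k⟧
  obtain ⟨t⟩ := nonempty_tensorRight_shift (B := S) k (Iso.refl U)
  let α : DTen.tensorRightD S K ⋙ shiftFunctor (Dual.D S) k ≅ DTen.tensorRightD S (K⟦k⟧) :=
    Functor.isoWhiskerLeft _ t.symm ≪≫ RGammaI.ShriekDual.tensorRightComp K U ≪≫
      (DTen.LTen S).flip.mapIso (t.app K)
  obtain ⟨s⟩ := RGammaI.ShriekDual.nonempty_RHomR_shift K (-k)
  exact ⟨Adjunction.rightAdjointUniq (DTen.rhomAdj S (K⟦k⟧))
    (((DTen.rhomAdj S K).comp (shiftEquiv' (Dual.D S) k (-k) (by omega)).toAdjunction).ofNatIsoLeft α) ≪≫ s⟩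

lemma nonempty_du_shift (K : Dual.D S) (k : ℤ) : Nonempty (du (K⟦k⟧) ≅ (du K)⟦-k⟧) := by
  obtain ⟨e⟩ := nonempty_RHomR_shift_source K k
  exact ⟨e.app _⟩

omit [DTen.HasRHom S] in
lemma ten_smul_id_right (r : S) (X E : Dual.D S) :
    (DTen.LTen₂ S).map (Prod.mkHom (𝟙 X) (r • 𝟙 E)) = r • 𝟙 _ := by
  have h := (DTen.symm S).naturality (X := (X, E)) (Y := (X, E)) (Prod.mkHom (𝟙 X) (r • 𝟙 E))
  haveI : IsIso (DTen.symm S) := DTen.IsSymMonoidal.isIso_symm
  rw [← cancel_epi ((DTen.symm S).app (X, E))]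
  refine h.symm.trans ((congrArg (· ≫ _) (ten_smul_id r E X)).trans ?_)
  rw [Linear.comp_smul, Category.comp_id, Linear.smul_comp]
  exact congrArg (r • ·) (Category.id_comp _)

/-- A scalar on the source is a scalar on the derived hom. -/
lemma RHomMap_smul_id (r : S) (K L : Dual.D S) : DTen.RHomMap (r • 𝟙 K) L = r • 𝟙 _ := by
  apply (DTen.rhomHomEquiv _ _ _).symm.injective
  simp only [DTen.rhomHomEquiv]
  erw [Adjunction.homEquiv_counit, Adjunction.homEquiv_counit]
  refine (DTen.RHom_map_ev (r • 𝟙 K) L).trans (congrArg (· ≫ DTen.ev K L) ?_)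
  exact (ten_smul_id_right r _ K).trans (ten_smul_id r _ K).symm

/-- Biduality for perfect objects. -/
lemma nonempty_du_du {K : Dual.D S} (hK : DRing.IsPerfect S K) : Nonempty (du (du K) ≅ K) := by
  let u := DTen.unit S
  haveI := isIso_evalHom_of_isPerfect K u u hK
  obtain ⟨r⟩ := nonempty_RHomR_unit_iso (A := S) 0
  let a : (DTen.RHomR S u).obj u ≅ u :=
    (((DTen.RHom S).mapIso ((shiftFunctorZero (Dual.D S) ℤ).app u).op).app u) ≪≫
      r.app u ≪≫ (shiftFunctorZero' (Dual.D S) (-(0 : ℤ)) neg_zero).app u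
  haveI : IsIso (DTen.unitL S) := DTen.IsSymMonoidal.isIso_unitL
  exact ⟨(asIso (DTen.evalHom K u u)).symm ≪≫
      (DTen.LTen₂ S).mapIso (Iso.prod a (Iso.refl K)) ≪≫ (asIso (DTen.unitL S)).app K⟩

/-- The cohomology of the dual of a module is `Ext`. -/
lemma nonempty_hd_du (N : Type u) [AddCommGroup N] [Module S N] (n : ℕ) :
    Nonempty (Dual.HD S (du (Dual.inD S N)) n ≃ₗ[S]
      Abelian.Ext (ModuleCat.of S N) (ModuleCat.of S S) n) := by
  obtain ⟨e⟩ := exists_hdRHomShiftLEquiv (Dual.inD S N) (DTen.unit S) (n : ℤ)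
  exact ⟨e.trans ((Linear.homCongr S (Iso.refl _) ((shiftFunctor (Dual.D S) (n : ℤ)).mapIso
    ((DerivedCategory.singleFunctorIsoCompQ (ModuleCat.{u} S) 0).app (ModuleCat.of S S)).symm)).trans
    (Abelian.Ext.homLinearEquiv (R := S)).symm)⟩

lemma subsingleton_hd_du_neg (N : Type u) [AddCommGroup N] [Module S N] (n : ℤ) (hn : n < 0) :
    Subsingleton (Dual.HD S (du (Dual.inD S N)) n) := by
  obtain ⟨e⟩ := exists_hdRHomShiftLEquiv (Dual.inD S N) (DTen.unit S) n
  let t := DerivedCategory.TStructure.t (C := ModuleCat.{u} S)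
  haveI : DerivedCategory.IsLE (Dual.inD S N) 0 := inferInstance
  haveI : DerivedCategory.IsGE (DTen.unit S) 0 := t.isGE_of_iso
    ((DerivedCategory.singleFunctorIsoCompQ (ModuleCat.{u} S) 0).app (ModuleCat.of S S)) 0
  haveI : DerivedCategory.IsGE ((DTen.unit S)⟦n⟧) (-n) := t.isGE_shift _ 0 n (-n) (by omega)
  haveI : Subsingleton (Dual.inD S N ⟶ (DTen.unit S)⟦n⟧) :=
    subsingleton_of_forall_eq 0 fun φ => t.zero φ 0 (-n) (by omega)
  exact e.injective.subsingleton

/-- What kills a module kills the cohomology of its dual. -/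
lemma smul_hd_du (N : Type u) [AddCommGroup N] [Module S N] {r : S} (hr : ∀ z : N, r • z = 0) (n : ℤ)
    (x : Dual.HD S (du (Dual.inD S N)) n) : r • x = 0 := by
  obtain ⟨e⟩ := exists_hdRHomShiftLEquiv (Dual.inD S N) (DTen.unit S) n
  apply e.injective
  rw [map_smul, map_zero]
  have h0 : r • 𝟙 (Dual.inD S N) = 0 := by
    have h1 : r • 𝟙 (ModuleCat.of S N) = 0 := ModuleCat.hom_ext (LinearMap.ext hr)
    have h2 := congrArg (DerivedCategory.singleFunctor (ModuleCat.{u} S) 0).map h1
    rwa [Functor.map_smul, CategoryTheory.Functor.map_id, Functor.map_zero] at h2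
  rw [← Category.id_comp (e x), ← Linear.smul_comp, h0, zero_comp]

variable [IsRegularRing S]

lemma isPerfect_inD (N : Type u) [AddCommGroup N] [Module S N] [Module.Finite S N] :
    DRing.IsPerfect S (Dual.inD S N) :=
  H9Misc.DRingRegular.isPerfectModule_of_finite (fun _ => inferInstance) N

lemma finite_hd_du {K : Dual.D S} (hK : DRing.IsPerfect S K) (n : ℤ) : Module.Finite S (Dual.HD S (du K) n) :=
  (H9Misc.DRingRegular.finite_homology_of_isPerfect (isPerfect_dual hK)).2 n

variable (I : Ideal S)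

/-- `H^a_I` of the dual. -/
noncomputable abbrev G (K : Dual.D S) (a : ℤ) : ModuleCat.{u} S := (F I).obj ((du K)⟦a⟧)

lemma G_exact (T : Triangle (Dual.D S)) (hT : T ∈ distTriang _) (a : ℤ) :
    Function.Exact ((F I).map ((DTen.RHomMap T.mor₂ (DTen.unit S))⟦a⟧')).hom
      ((F I).map ((DTen.RHomMap T.mor₁ (DTen.unit S))⟦a⟧')).hom := by
  obtain ⟨c, hc⟩ := exists_triangle_RHomMap T hT (DTen.unit S)
  have h := (F I).map_distinguished_exact _ (Triangle.shift_distinguished _ hc a)
  rw [ShortComplex.ShortExact.moduleCat_exact_iff_function_exact] at h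
  have h' : Function.Exact
      ((F I).map (a.negOnePow • (DTen.RHomMap T.mor₂ (DTen.unit S))⟦a⟧')).hom
      ((F I).map (a.negOnePow • (DTen.RHomMap T.mor₁ (DTen.unit S))⟦a⟧')).hom := h
  rcases Int.units_eq_one_or a.negOnePow with h1 | h1
  · rw [h1, one_smul, one_smul] at h'
    exact h'
  · rw [h1, Units.neg_smul, one_smul, Units.neg_smul, one_smul, Functor.map_neg, Functor.map_neg] at h'
    intro x
    refine ⟨fun hx => ?_, ?_⟩
    · obtain ⟨y, hy⟩ := (h' x).1 (by rw [ModuleCat.hom_neg, LinearMap.neg_apply, hx, neg_zero])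
      exact ⟨-y, by rw [map_neg]; rwa [ModuleCat.hom_neg, LinearMap.neg_apply] at hy⟩
    · rintro ⟨y, rfl⟩
      have h2 := (h' _).2 ⟨-y, rfl⟩
      simpa only [ModuleCat.hom_neg, LinearMap.neg_apply, map_neg, neg_neg, neg_eq_zero] using h2

lemma finite_G₂ (T : Triangle (Dual.D S)) (hT : T ∈ distTriang _) (a : ℤ)
    (h₁ : Module.Finite S (G I T.obj₁ a)) (h₃ : Module.Finite S (G I T.obj₃ a)) :
    Module.Finite S (G I T.obj₂ a) :=
  haveI := h₁
  haveI := h₃
  haveI := isNoetherian_of_isNoetherianRing_of_finite S (G I T.obj₁ a)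
  LC.finite_of_exact _ _ (G_exact I T hT a) inferInstance

lemma subsingleton_G₂ (T : Triangle (Dual.D S)) (hT : T ∈ distTriang _) (a : ℤ)
    (h₁ : Subsingleton (G I T.obj₁ a)) (h₃ : Subsingleton (G I T.obj₃ a)) :
    Subsingleton (G I T.obj₂ a) :=
  subsingleton_of_forall_eq 0 fun x => by
    obtain ⟨y, rfl⟩ := (G_exact I T hT a x).1 (Subsingleton.elim _ _)
    rw [Subsingleton.elim y 0, map_zero]

/-- For quotients by primes containing `I`, `RΓ_I` does nothing. -/
lemma nonempty_G_torsion {q : Ideal S} (hq : I ≤ q) (a : ℤ) :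
    Nonempty (G I (Dual.inD S (S ⧸ q)) a ≃ₗ[S] Dual.HD S (du (Dual.inD S (S ⧸ q))) a) := by
  haveI := hasRgammaI I
  let D := du (Dual.inD S (S ⧸ q))
  have ht : ∀ n : ℤ, LocCoh.IsPowerTorsion I (Dual.HD S D n) := fun n x =>
    ⟨1, fun r hr => smul_hd_du (S ⧸ q) (fun z => by
      obtain ⟨z, rfl⟩ := Ideal.Quotient.mk_surjective z
      exact Ideal.Quotient.eq_zero_iff_mem.2 (Ideal.mul_mem_right z _ (hq (by simpa using hr)))) n x⟩
  haveI := isIso_ε_of_torsion I D ht
  exact ⟨(FShiftIso I D a ≪≫ (DerivedCategory.homologyFunctor (ModuleCat.{u} S) a).mapIso (asIso ((DRing.RgammaIε I).app D))).toLinearEquiv⟩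

omit [DTen.HasLTen S] [DTen.HasRHom S] [DTen.HasLTen₃ S] [DTen.IsSymMonoidal S] in
/-- `Ext^a(S/q, S)` vanishes if no prime over `q` has height `a`. -/
lemma subsingleton_ext_quot (q : PrimeSpectrum S) (a : ℕ)
    (h : ∀ Q : PrimeSpectrum S, q ≤ Q → Q.asIdeal.height ≠ a) :
    Subsingleton (Abelian.Ext (ModuleCat.of S (S ⧸ q.asIdeal)) (ModuleCat.of S S) a) := by
  rcases lt_or_gt_of_ne (h q le_rfl) with hlt | hgt
  · have hall : ∀ Q : PrimeSpectrum S, q ≤ Q → Q.asIdeal.height < a := fun Q => by
      induction Q using (InvImage.wf (fun Q : PrimeSpectrum S => Q.asIdeal.height)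
        (wellFounded_lt (α := ℕ∞))).induction with
      | h Q ih =>
        intro hqQ
        rcases eq_or_lt_of_le hqQ with rfl | hlt'
        · exact hlt
        obtain ⟨t, ⟨ht1, ht2⟩, htm⟩ := (InvImage.wf PrimeSpectrum.asIdeal (wellFounded_gt (α := Ideal S))).has_min
          {t : PrimeSpectrum S | q ≤ t ∧ t < Q} ⟨q, le_rfl, hlt'⟩
        have ht2' : t.asIdeal < Q.asIdeal := ht2
        have h1 : (Q.asIdeal.map (Ideal.Quotient.mk t.asIdeal)).height ≤ 1 := by
          by_contra hc
          obtain ⟨c, hcQ, hct⟩ := SetLike.not_le_iff_exists.1 (not_le_of_gt ht2')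
          obtain ⟨w, hw, htw, hwQ, -⟩ := LC.exists_prime_between t.asIdeal Q.asIdeal ht2' (not_le.1 hc) hcQ hct
          exact htm ⟨w, hw⟩ ⟨ht1.trans (show t.asIdeal ≤ w from htw.le), hwQ⟩ htw
        have h2 := LC.height_add_height_quotient_eq t.asIdeal Q.asIdeal ht2'.le
        have h3 := ih t (Ideal.height_strict_mono_of_isPrime ht2') ht1
        refine lt_of_le_of_ne ?_ (h Q hqQ)
        rw [← h2]
        exact (add_le_add_right h1 _).trans ((ENat.add_one_le_iff h3.ne_top).2 h3)
    refine (Module.support_eq_empty_iff (R := S)).1 (Set.eq_empty_of_forall_notMem fun Q hQ => ?_)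
    rw [Module.mem_support_iff] at hQ
    let A := Localization.AtPrime Q.asIdeal
    obtain ⟨e⟩ := LC.exists_extLoc (R := S) (N := S) Q.asIdeal.primeCompl a (S ⧸ q.asIdeal)
    haveI : Nontrivial (Abelian.Ext (ModuleCat.of A (LocalizedModule Q.asIdeal.primeCompl (S ⧸ q.asIdeal)))
      (ModuleCat.of A (LocalizedModule Q.asIdeal.primeCompl S)) a) := e.symm.toEquiv.nontrivial
    refine not_subsingleton (Abelian.Ext (ModuleCat.of A (LocalizedModule Q.asIdeal.primeCompl (S ⧸ q.asIdeal)))
      (ModuleCat.of A (LocalizedModule Q.asIdeal.primeCompl S)) a) ?_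
    by_cases hqQ : q ≤ Q
    · haveI := LC.gorenstein_of_isRegularLocalRing (R := A)
      haveI : Module.Finite A (LocalizedModule Q.asIdeal.primeCompl (S ⧸ q.asIdeal)) :=
        Module.Finite.of_isLocalizedModule Q.asIdeal.primeCompl (LocalizedModule.mkLinearMap _ _)
      obtain ⟨d, hd, -, hv⟩ := LC.gorenstein_basic (R := A)
      rw [IsLocalization.AtPrime.ringKrullDim_eq_height Q.asIdeal A] at hd
      have hd' : Q.asIdeal.height = (d : ℕ∞) := by exact_mod_cast hd
      have hda : d < a := by
        have := hall Q hqQ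
        rw [hd'] at this
        exact_mod_cast this
      have := hv (LocalizedModule Q.asIdeal.primeCompl (S ⧸ q.asIdeal)) a hda
      refine subsingleton_of_forall_eq 0 fun x => ?_
      have h0 : x.comp (Abelian.Ext.mk₀ (LC.selfLoc Q.asIdeal.primeCompl).toModuleIso.hom) (add_zero a) = 0 :=
        Subsingleton.elim _ _
      rw [← Abelian.Ext.comp_mk₀_id x, ← (LC.selfLoc Q.asIdeal.primeCompl).toModuleIso.hom_inv_id,
        ← Abelian.Ext.mk₀_comp_mk₀, ← Abelian.Ext.comp_assoc _ _ _ (add_zero a) (add_zero 0) (by omega),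
        h0, Abelian.Ext.zero_comp]
    · have hn : Q ∉ Module.support S (S ⧸ q.asIdeal) := by
        rw [Module.support_eq_zeroLocus, Ideal.annihilator_quotient]
        exact hqQ
      haveI := Module.notMem_support_iff.1 hn
      refine subsingleton_of_forall_eq 0 fun x => ?_
      rw [← Abelian.Ext.mk₀_id_comp x, show 𝟙 (ModuleCat.of A (LocalizedModule Q.asIdeal.primeCompl (S ⧸ q.asIdeal))) = 0
        from ModuleCat.hom_ext (LinearMap.ext fun z => Subsingleton.elim _ _), Abelian.Ext.mk₀_zero, Abelian.Ext.zero_comp]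
  · refine (LC.le_idealDepth_iff_ext q.asIdeal S (a + 1)).1 ?_ a (Nat.lt_succ_self a)
    rw [LC.idealDepth_regular_eq_iInf_height]
    refine le_iInf₂ fun Q hQ => ?_
    rw [Nat.cast_add, Nat.cast_one, ENat.add_one_le_iff (ENat.natCast_ne_top a)]
    exact hgt.trans_le (Ideal.height_mono hQ)

/-- Vanishing when no prime of the support inside `V(I)` has height `a`. -/
theorem subsingleton_G (N : Type u) [AddCommGroup N] [Module S N] [Module.Finite S N] (a : ℕ)
    (h : ∀ Q : PrimeSpectrum S, Q ∈ Module.support S N → I ≤ Q.asIdeal → Q.asIdeal.height ≠ a) :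
    Subsingleton (G I (Dual.inD S N) a) := by
  suffices key : ∀ (q : PrimeSpectrum S), (∀ Q : PrimeSpectrum S, q ≤ Q → I ≤ Q.asIdeal → Q.asIdeal.height ≠ a) →
      Subsingleton (G I (Dual.inD S (S ⧸ q.asIdeal)) a) from devissage N fun q hq =>
    key q fun Q hqQ => h Q (Module.mem_support_mono hqQ hq)
  intro q
  induction q using (InvImage.wf PrimeSpectrum.asIdeal (wellFounded_gt (α := Ideal S))).induction with
  | h q ih =>
    intro hq
    by_cases hIq : I ≤ q.asIdeal
    · obtain ⟨e⟩ := nonempty_G_torsion I hIq a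
      obtain ⟨e'⟩ := nonempty_hd_du (S := S) (S ⧸ q.asIdeal) a
      haveI := subsingleton_ext_quot q a fun Q hqQ => hq Q hqQ (hIq.trans hqQ)
      exact (e.trans e').injective.subsingleton
    · obtain ⟨x, hxI, hxq⟩ := SetLike.not_le_iff_exists.1 hIq
      let B := S ⧸ q.asIdeal
      let f : B →ₗ[S] B := x • LinearMap.id
      have hf : Function.Injective f := fun u v huv => by
        have : Ideal.Quotient.mk q.asIdeal x ≠ 0 := fun h => hxq (Ideal.Quotient.eq_zero_iff_mem.1 h)
        have huv' : x • u = x • v := huv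
        rw [Algebra.smul_def, Algebra.smul_def] at huv'
        exact mul_left_cancel₀ this huv'
      let C : ShortComplex (ModuleCat.{u} S) := ShortComplex.mk (X₁ := ModuleCat.of S B)
        (X₂ := ModuleCat.of S B) (X₃ := ModuleCat.of S (B ⧸ LinearMap.range f))
        (ModuleCat.ofHom f) (ModuleCat.ofHom (LinearMap.range f).mkQ)
        (ModuleCat.hom_ext (LinearMap.ext fun z => (Submodule.Quotient.mk_eq_zero _).2 ⟨z, rfl⟩))
      have hC : C.ShortExact :=
        { exact := (ShortComplex.ShortExact.moduleCat_exact_iff_function_exact _).2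
            (LinearMap.exact_map_mkQ_range f)
          mono_f := (ModuleCat.mono_iff_injective _).2 hf
          epi_g := (ModuleCat.epi_iff_surjective _).2 (Submodule.mkQ_surjective _) }
      have h3 : Subsingleton (G I (Dual.inD S (B ⧸ LinearMap.range f)) a) :=
        devissage (B ⧸ LinearMap.range f) fun p hp => by
          have hle : q.asIdeal ≤ p.asIdeal := by
            have := Module.support_subset_of_surjective (LinearMap.range f).mkQ (Submodule.mkQ_surjective _) hp
            rw [Module.support_eq_zeroLocus, Ideal.annihilator_quotient] at this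
            exact this
          have hxp : x ∈ p.asIdeal := by
            rw [Module.support_eq_zeroLocus] at hp
            refine hp (Module.mem_annihilator.2 fun z => ?_)
            obtain ⟨z, rfl⟩ := Submodule.Quotient.mk_surjective _ z
            exact (Submodule.Quotient.mk_eq_zero _).2 ⟨z, rfl⟩
          exact ih p (lt_of_le_of_ne hle fun h => hxq (h ▸ hxp)) fun Q hQ => hq Q ((show q ≤ p from hle).trans hQ)
      haveI := h3
      have hmor : hC.singleTriangle.mor₁ = x • 𝟙 (Dual.inD S B) := by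
        show (DerivedCategory.singleFunctor (ModuleCat.{u} S) 0).map (x • 𝟙 (ModuleCat.of S B)) = _
        rw [Functor.map_smul, CategoryTheory.Functor.map_id]
      have hm : DTen.RHomMap hC.singleTriangle.mor₁ (DTen.unit S) = x • 𝟙 _ :=
        (congrArg (fun t => DTen.RHomMap t (DTen.unit S)) hmor).trans (RHomMap_smul_id x _ _)
      have hinj : ∀ z : G I (Dual.inD S B) a, x • z = 0 → z = 0 := fun z hz => by
        obtain ⟨y, hy⟩ := (G_exact I hC.singleTriangle hC.singleTriangle_distinguished a z).1 (by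
          have : (F I).map ((DTen.RHomMap hC.singleTriangle.mor₁ (DTen.unit S))⟦(a : ℤ)⟧') = x • 𝟙 _ := by
            rw [hm, Functor.map_smul, Functor.map_smul, CategoryTheory.Functor.map_id,
              CategoryTheory.Functor.map_id]
          rw [this]
          exact hz)
        rw [← hy, @Subsingleton.elim _ h3 y 0, map_zero]
      refine subsingleton_of_forall_eq 0 fun z => ?_
      obtain ⟨n, hn⟩ := isPowerTorsion_F I ((du (Dual.inD S B))⟦(a : ℤ)⟧) z
      have hz : x ^ n • z = 0 := hn _ (Ideal.pow_mem_pow hxI n)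
      clear hn
      induction n with
      | zero => rwa [pow_zero, one_smul] at hz
      | succ n ihn => exact ihn (hinj _ (by rwa [smul_smul, ← pow_succ']))
where
  devissage (N : Type u) [AddCommGroup N] [Module S N] [Module.Finite S N]
      (h : ∀ q : PrimeSpectrum S, q ∈ Module.support S N → Subsingleton (G I (Dual.inD S (S ⧸ q.asIdeal)) a)) :
      Subsingleton (G I (Dual.inD S N) a) := by
    revert h
    refine IsNoetherianRing.induction_on_isQuotientEquivQuotientPrime (A := S) (M := N) ‹_›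
      (motive := fun N _ _ _ => (∀ q : PrimeSpectrum S, q ∈ Module.support S N →
        Subsingleton (G I (Dual.inD S (S ⧸ q.asIdeal)) a)) → Subsingleton (G I (Dual.inD S N) a)) ?_ ?_ ?_
    · intro N _ _ _ _ _
      have hz : IsZero (du (Dual.inD S N)) := by
        refine isZero_of_forall_hd _ fun n => ?_
        haveI : Subsingleton (Dual.HD S (du (Dual.inD S N)) n) := subsingleton_of_forall_eq 0 fun x => by
          rw [← one_smul S x]
          exact smul_hd_du N (fun z => Subsingleton.elim _ _) n x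
        exact ModuleCat.isZero_of_subsingleton _
      exact ModuleCat.subsingleton_of_isZero ((F I).map_isZero ((shiftFunctor (Dual.D S) (a : ℤ)).map_isZero hz))
    · intro N _ _ _ q e hN
      have hq : q ∈ Module.support S N := by
        rw [e.support_eq, Module.support_eq_zeroLocus, Ideal.annihilator_quotient]
        exact fun _ hx => hx
      let c : G I (Dual.inD S (S ⧸ q.asIdeal)) a ≃ₗ[S] G I (Dual.inD S N) a := ((F I).mapIso ((shiftFunctor (Dual.D S) (a : ℤ)).mapIso (((DTen.RHom S).mapIso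
        ((DerivedCategory.singleFunctor (ModuleCat.{u} S) 0).mapIso e.toModuleIso).op).app
          (DTen.unit S)))).toLinearEquiv
      haveI := hN q hq
      exact c.symm.injective.subsingleton
    · intro N₁ _ _ _ N₂ _ _ _ N₃ _ _ _ f g hf hg hfg h1 h3 hN
      let C : ShortComplex (ModuleCat.{u} S) :=
        ShortComplex.mk (ModuleCat.ofHom f) (ModuleCat.ofHom g) (ModuleCat.hom_ext hfg.linearMap_comp_eq_zero)
      have hC : C.ShortExact :=
        { exact := (ShortComplex.ShortExact.moduleCat_exact_iff_function_exact _).2 hfg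
          mono_f := (ModuleCat.mono_iff_injective _).2 hf
          epi_g := (ModuleCat.epi_iff_surjective _).2 hg }
      exact subsingleton_G₂ I hC.singleTriangle hC.singleTriangle_distinguished a
        (h1 fun q hq => hN q (Module.support_subset_of_injective f hf hq))
        (h3 fun q hq => hN q (Module.support_subset_of_surjective g hg hq))

/-- Finiteness when no prime in `V(I)` above a point of the support outside `V(I)` has height `a`. -/
theorem finite_G (N : Type u) [AddCommGroup N] [Module S N] [hN : Module.Finite S N] (a : ℕ)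
    (h : ∀ q Q : PrimeSpectrum S, q ∈ Module.support S N → ¬ I ≤ q.asIdeal → q ≤ Q → I ≤ Q.asIdeal →
      Q.asIdeal.height ≠ a) : Module.Finite S (G I (Dual.inD S N) a) := by
  revert h
  refine IsNoetherianRing.induction_on_isQuotientEquivQuotientPrime (A := S) (M := N) hN
    (motive := fun N _ _ _ => (∀ q Q : PrimeSpectrum S, q ∈ Module.support S N → ¬ I ≤ q.asIdeal → q ≤ Q →
      I ≤ Q.asIdeal → Q.asIdeal.height ≠ a) → Module.Finite S (G I (Dual.inD S N) a)) ?_ ?_ ?_
  · intro N _ _ _ _ _
    haveI := subsingleton_G I N a fun Q hQ => absurd hQ (by simp [Module.support_eq_empty])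
    infer_instance
  · intro N _ _ _ q e hN
    have hq : q ∈ Module.support S N := by
      rw [e.support_eq, Module.support_eq_zeroLocus, Ideal.annihilator_quotient]
      exact fun _ hx => hx
    let c : G I (Dual.inD S (S ⧸ q.asIdeal)) a ≃ₗ[S] G I (Dual.inD S N) a := ((F I).mapIso ((shiftFunctor (Dual.D S) (a : ℤ)).mapIso (((DTen.RHom S).mapIso
      ((DerivedCategory.singleFunctor (ModuleCat.{u} S) 0).mapIso e.toModuleIso).op).app
        (DTen.unit S)))).toLinearEquiv
    by_cases hIq : I ≤ q.asIdeal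
    · obtain ⟨t⟩ := nonempty_G_torsion I hIq a
      haveI := finite_hd_du (isPerfect_inD (S := S) (S ⧸ q.asIdeal)) a
      haveI : Module.Finite S (G I (Dual.inD S (S ⧸ q.asIdeal)) a) := Module.Finite.equiv t.symm
      exact Module.Finite.equiv c
    · haveI := subsingleton_G I (S ⧸ q.asIdeal) a fun Q hQ => hN q Q hq hIq (by
        rw [Module.support_eq_zeroLocus, Ideal.annihilator_quotient] at hQ
        exact hQ)
      exact Module.Finite.equiv c
  · intro N₁ _ _ _ N₂ _ _ _ N₃ _ _ _ f g hf hg hfg h1 h3 hN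
    let C : ShortComplex (ModuleCat.{u} S) :=
      ShortComplex.mk (ModuleCat.ofHom f) (ModuleCat.ofHom g) (ModuleCat.hom_ext hfg.linearMap_comp_eq_zero)
    have hC : C.ShortExact :=
      { exact := (ShortComplex.ShortExact.moduleCat_exact_iff_function_exact _).2 hfg
        mono_f := (ModuleCat.mono_iff_injective _).2 hf
        epi_g := (ModuleCat.epi_iff_surjective _).2 hg }
    exact finite_G₂ I hC.singleTriangle hC.singleTriangle_distinguished a
      (h1 fun q Q hq => hN q Q (Module.support_subset_of_injective f hf hq))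
      (h3 fun q Q hq => hN q Q (Module.support_subset_of_surjective g hg hq))

/-- The condition on a complex. -/
def Cond (i : ℕ) (X : Dual.D S) : Prop :=
  ∀ (b : ℕ) (q Q : PrimeSpectrum S), q ∈ Module.support S (Dual.HD S X (b : ℤ)) → ¬ I ≤ q.asIdeal → q ≤ Q →
    I ≤ Q.asIdeal → Q.asIdeal.height ≠ ((i + b : ℕ) : ℕ∞)

lemma finite_G_single (i c : ℕ) (X : Dual.D S) [X.IsLE c] [X.IsGE c] [Module.Finite S (Dual.HD S X c)]
    (h : Cond I i X) : Module.Finite S (G I X i) := by
  obtain ⟨u⟩ := Groth.Agent.H9Misc.nonempty_iso_single_homology (c : ℤ) X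
  let N := (DerivedCategory.homologyFunctor (ModuleCat.{u} S) (c : ℤ)).obj X
  let v : X ≅ (Dual.inD S N)⟦-(c : ℤ)⟧ := u ≪≫
    (((DerivedCategory.singleFunctors (ModuleCat.{u} S)).shiftIso (-(c : ℤ)) c 0 (by omega)).app N).symm
  obtain ⟨d⟩ := nonempty_du_shift (Dual.inD S N) (-(c : ℤ))
  let w : (du X)⟦(i : ℤ)⟧ ≅ (du (Dual.inD S N))⟦((i + c : ℕ) : ℤ)⟧ :=
    (shiftFunctor (Dual.D S) (i : ℤ)).mapIso (((DTen.RHom S).mapIso v.symm.op).app (DTen.unit S) ≪≫ d) ≪≫
      ((shiftFunctorAdd' (Dual.D S) (-(-(c : ℤ))) (i : ℤ) ((i + c : ℕ) : ℤ) (by push_cast; omega)).app _).symm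
  haveI := finite_G I N (i + c) fun q Q hq => h c q Q hq
  exact Module.Finite.equiv ((F I).mapIso w).toLinearEquiv.symm

theorem finite_G_bounded (i : ℕ) : ∀ (k : ℕ) (X : Dual.D S) (c : ℕ), X.IsGE (c : ℤ) → X.IsLE ((c + k : ℕ) : ℤ) →
    (∀ n, Module.Finite S (Dual.HD S X n)) → Cond I i X → Module.Finite S (G I X i) := by
  intro k
  induction k with
  | zero =>
    intro X c hge hle hfin h
    rw [add_zero] at hle
    haveI := hfin c
    exact finite_G_single I i c X h
  | succ k ih =>
    intro X c hge hle hfin h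
    let N : ℕ := c + k
    obtain ⟨Y, Z, hY, hZ, f, g, δ, hT⟩ :=
      DerivedCategory.TStructure.t.exists_triangle X (N : ℤ) ((N : ℤ) + 1) rfl
    haveI hYle : Y.IsLE (N : ℤ) := ⟨hY⟩
    haveI hZge : Z.IsGE ((N : ℤ) + 1) := ⟨hZ⟩
    obtain ⟨T, hT', h2, -, -, hf₁, hf₃, -, -⟩ := exists_trunc_finite hfin (N : ℤ)
    have hmono : ∀ n ≤ (N : ℤ) + 1, Mono ((DerivedCategory.homologyFunctor (ModuleCat.{u} S) n).map f) := fun n hn =>
      (DerivedCategory.HomologySequence.mono_homologyMap_mor₁_iff _ hT (n - 1) n (by omega)).2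
        ((DerivedCategory.isZero_of_isGE Z ((N : ℤ) + 1) (n - 1) (by omega)).eq_of_src _ _)
    have hepi : ∀ n ≥ (N : ℤ), Epi ((DerivedCategory.homologyFunctor (ModuleCat.{u} S) n).map g) := fun n hn =>
      (DerivedCategory.HomologySequence.epi_homologyMap_mor₂_iff _ hT n (n + 1) rfl).2
        ((DerivedCategory.isZero_of_isLE Y (N : ℤ) (n + 1) (by omega)).eq_of_tgt _ _)
    have injY : ∀ n ≤ (N : ℤ), Function.Injective ((DerivedCategory.homologyFunctor (ModuleCat.{u} S) n).map f).hom := fun n hn =>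
      (ModuleCat.mono_iff_injective _).1 (hmono n (by omega))
    have surZ : ∀ n ≥ (N : ℤ), Function.Surjective ((DerivedCategory.homologyFunctor (ModuleCat.{u} S) n).map g).hom := fun n hn =>
      (ModuleCat.epi_iff_surjective _).1 (hepi n hn)
    have zY : ∀ n > (N : ℤ), Subsingleton (Dual.HD S Y n) := fun n hn =>
      ModuleCat.subsingleton_of_isZero (DerivedCategory.isZero_of_isLE Y (N : ℤ) n hn)
    have zZ : ∀ n ≤ (N : ℤ), Subsingleton (Dual.HD S Z n) := fun n hn =>
      ModuleCat.subsingleton_of_isZero (DerivedCategory.isZero_of_isGE Z ((N : ℤ) + 1) n (by omega))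
    haveI : Y.IsGE (c : ℤ) := (DerivedCategory.isGE_iff _ _).2 fun n hn => by
      haveI := ModuleCat.subsingleton_of_isZero (DerivedCategory.isZero_of_isGE X (c : ℤ) n hn)
      exact @ModuleCat.isZero_of_subsingleton _ _ _ (injY n (by omega)).subsingleton
    haveI : Z.IsLE (((N + 1 : ℕ) : ℤ)) := (DerivedCategory.isLE_iff _ _).2 fun n hn => by
      haveI := ModuleCat.subsingleton_of_isZero
        (DerivedCategory.isZero_of_isLE X ((c + (k + 1) : ℕ) : ℤ) n (by push_cast at hn ⊢; omega))
      exact @ModuleCat.isZero_of_subsingleton _ _ _ (surZ n (by push_cast at hn; omega)).subsingleton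
    have hYfin : ∀ n, Module.Finite S (Dual.HD S Y n) := fun n => by
      by_cases hn : n ≤ (N : ℤ)
      · haveI := hfin n
        exact Module.Finite.of_injective ((DerivedCategory.homologyFunctor (ModuleCat.{u} S) n).map f).hom (injY n hn)
      · haveI := zY n (by omega)
        infer_instance
    have hZfin : ∀ n, Module.Finite S (Dual.HD S Z n) := fun n => by
      by_cases hn : (N : ℤ) < n
      · haveI := hfin n
        exact Module.Finite.of_surjective ((DerivedCategory.homologyFunctor (ModuleCat.{u} S) n).map g).hom (surZ n hn.le)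
      · haveI := zZ n (by omega)
        infer_instance
    have hYc : Cond I i Y := fun b q Q hq => by
      by_cases hb : (b : ℤ) ≤ N
      · exact h b q Q (Module.support_subset_of_injective ((DerivedCategory.homologyFunctor (ModuleCat.{u} S) (b : ℤ)).map f).hom (injY b hb) hq)
      · haveI := zY b (by omega)
        simp [Module.support_eq_empty] at hq
    have hZc : Cond I i Z := fun b q Q hq => by
      by_cases hb : (N : ℤ) < b
      · exact h b q Q (Module.support_subset_of_surjective ((DerivedCategory.homologyFunctor (ModuleCat.{u} S) (b : ℤ)).map g).hom (surZ b hb.le) hq)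
      · haveI := zZ b (by omega)
        simp [Module.support_eq_empty] at hq
    haveI : Z.IsGE ((N + 1 : ℕ) : ℤ) := by push_cast; exact hZge
    haveI := hZfin ((N + 1 : ℕ) : ℤ)
    exact finite_G₂ I (Triangle.mk f g δ) hT i (ih Y c inferInstance hYle hYfin hYc)
      (finite_G_single I i (N + 1) Z hZc)

/-- Finiteness of one local cohomology module, from the supports of the modules `Ext^b(M, S)`. -/
theorem finite_H_of_ext_support (M : Type u) [AddCommGroup M] [Module S M] [Module.Finite S M] (i : ℕ)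
    (h : ∀ (b : ℕ) (q Q : PrimeSpectrum S),
      q ∈ Module.support S (Abelian.Ext (ModuleCat.of S M) (ModuleCat.of S S) b) → ¬ I ≤ q.asIdeal → q ≤ Q →
        I ≤ Q.asIdeal → Q.asIdeal.height ≠ ((i + b : ℕ) : ℕ∞)) :
    Module.Finite S (LocCoh.H I i M) := by
  haveI := hasRgammaI I
  have hM := isPerfect_inD (S := S) M
  let X := du (Dual.inD S M)
  obtain ⟨⟨a, b, hab⟩, hfin⟩ := H9Misc.DRingRegular.finite_homology_of_isPerfect (isPerfect_dual hM)
  haveI : X.IsGE ((0 : ℕ) : ℤ) := (DerivedCategory.isGE_iff _ _).2 fun n hn => by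
    haveI := subsingleton_hd_du_neg (S := S) M n (by simpa using hn)
    exact ModuleCat.isZero_of_subsingleton _
  haveI : X.IsLE ((0 + b.toNat : ℕ) : ℤ) := (DerivedCategory.isLE_iff _ _).2 fun n hn => by
    haveI := hab n (Or.inr (by push_cast at hn; omega))
    exact ModuleCat.isZero_of_subsingleton _
  have hc : Cond I i X := fun c q Q hq => by
    obtain ⟨e⟩ := nonempty_hd_du (S := S) M c
    rw [e.support_eq] at hq
    exact h c q Q hq
  haveI := finite_G_bounded I i b.toNat X 0 inferInstance inferInstance hfin hc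
  obtain ⟨e₁⟩ := nonempty_du_du hM
  obtain ⟨e₂⟩ := nonempty_H_equiv_HD I M i
  exact Module.Finite.equiv ((((F I).mapIso ((shiftFunctor (Dual.D S) (i : ℤ)).mapIso e₁)) ≪≫
    FShiftIso I (Dual.inD S M) (i : ℤ)).toLinearEquiv.trans e₂.symm)

end Groth.Agent.RGammaI.FiniteDegree
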