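import Groth.Agent.RGammaI.KoszulInf
import Groth.Agent.RGammaI.Main
import Groth.Agent.RGammaI.CechBase
import Groth.Agent.LC.ExtCechZero
import Groth.Agent.H9Misc.DRingCechCompl
import Groth.Agent.H9Misc.DRingLBase
import Mathlib.Algebra.CharP.Frobenius

/-! `RΓ_I(A)` and its base change along a map which preserves `I` up to radical. -/

set_option linter.style.haveILetI false
set_option maxHeartbeats 1000000

universe u

open CategoryTheory CategoryTheory.Limits
open Groth.Agent.KCLib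

attribute [local instance] HasDerivedCategory.standard

namespace Groth.Agent.RGammaI

variable {A : Type u} [CommRing A]

lemma zig_nonempty_iso {K L : DRing.Cx A} (h : Zig K L) :
    Nonempty (DerivedCategory.Q.obj K ≅ DerivedCategory.Q.obj L) := by
  induction h with
  | rel K L h =>
    obtain ⟨φ, hφ⟩ := h
    haveI : IsIso (DerivedCategory.Q.map φ) := (DerivedCategory.isIso_Q_map_iff_quasiIso _ _).2 hφ
    exact ⟨asIso (DerivedCategory.Q.map φ)⟩
  | refl K => exact ⟨Iso.refl _⟩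
  | symm K L _ ih => exact ⟨ih.some.symm⟩
  | trans K L M _ _ ih ih' => exact ⟨ih.some.trans ih'.some⟩

/-- The extended Čech complex represents `RΓ_I`. -/
theorem nonempty_extCech_iso [IsNoetherianRing A] (M : ModuleCat.{u} A) (fs : List A) (I : Ideal A)
    [DRing.HasRgammaI I] (hI : ∀ (N : ModuleCat.{u} A), DRing.torsionSub (idl fs) N = DRing.torsionSub I N) :
    Nonempty (DerivedCategory.Q.obj (DerCA.extCech M fs) ≅
      (DRing.RgammaI I).obj ((DerivedCategory.singleFunctor (ModuleCat.{u} A) 0).obj M)) := by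
  let J := injectiveResolution M
  obtain ⟨e₁⟩ := zig_nonempty_iso (zig_extCech M (injTerms_resolution J) (zig_resolution J) fs)
  obtain ⟨e₂⟩ := zig_nonempty_iso (zig_resolution J)
  let g : (Γc (idl fs)).obj J.cochainComplex ≅ (Γc I).obj J.cochainComplex :=
    HomologicalComplex.Hom.isoOfComponents (fun n => (LinearEquiv.ofEq _ _ (hI (J.cochainComplex.X n))).toModuleIso)
      (fun i j _ => ModuleCat.hom_ext (LinearMap.ext fun _ => rfl))
  exact ⟨e₁ ≪≫ DerivedCategory.Q.mapIso g ≪≫ isoOfInjTerms I (injTerms_resolution J) ≪≫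
    (DRing.RgammaI I).mapIso (e₂.symm ≪≫ ((DerivedCategory.singleFunctorIsoCompQ (ModuleCat.{u} A) 0).app M).symm)⟩

/-- Base change of `RΓ_I(A)`. -/
theorem nonempty_lbase_gamma [IsNoetherianRing A] {B : Type u} [CommRing B] [IsNoetherianRing B] (φ : A →+* B)
    [DRing.HasLBaseChange φ] (fs : List A) (I : Ideal A) [DRing.HasRgammaI I] (J : Ideal B) [DRing.HasRgammaI J]
    (hI : ∀ (N : ModuleCat.{u} A), DRing.torsionSub (idl fs) N = DRing.torsionSub I N)
    (hJ : ∀ (N : ModuleCat.{u} B), DRing.torsionSub (idl (fs.map φ)) N = DRing.torsionSub J N) :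
    Nonempty ((DRing.LBaseChange φ).obj ((DRing.RgammaI I).obj (Dual.inD A A)) ≅
      (DRing.RgammaI J).obj (Dual.inD B B)) := by
  obtain ⟨e₁⟩ := nonempty_extCech_iso (ModuleCat.of A A) fs I hI
  obtain ⟨e₂⟩ := nonempty_extCech_iso (ModuleCat.of B B) (fs.map φ) J hJ
  obtain ⟨e₃⟩ := Groth.Agent.H9Misc.DRingLBase.nonempty_lbase_iso φ
    (Groth.Agent.H9Misc.DRingCechCompl.isKF_extCech fs)
  letI := φ.toAlgebra
  let e : (ModuleCat.extendScalars.{u, u, u} φ).obj (ModuleCat.of A A) ≅ ModuleCat.of B B :=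
    (TensorProduct.AlgebraTensorModule.rid A B B).toModuleIso
  obtain ⟨e₄⟩ := CechBase.nonempty_extC_extCech φ fs (ModuleCat.of A A) (ModuleCat.of B B) e
  exact ⟨(DRing.LBaseChange φ).mapIso e₁.symm ≪≫ e₃ ≪≫ DerivedCategory.Q.mapIso e₄ ≪≫ e₂⟩

/-- Powers of generators define the same torsion. -/
lemma torsionSub_map_pow (fs : List A) {p : ℕ} (hp : 1 ≤ p) {φ : A →+* A} (hφ : ∀ a, φ a = a ^ p)
    (N : ModuleCat.{u} A) : DRing.torsionSub (idl (fs.map φ)) N = DRing.torsionSub (idl fs) N := by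
  ext x
  rw [LC.ExtCech.mem_torsionSub_span_iff, LC.ExtCech.mem_torsionSub_span_iff]
  constructor
  · intro h f hf
    obtain ⟨k, hk⟩ := h (φ f) (List.mem_map_of_mem hf)
    exact ⟨p * k, by rw [pow_mul, ← hφ]; exact hk⟩
  · intro h g hg
    obtain ⟨f, hf, rfl⟩ := List.mem_map.1 hg
    obtain ⟨k, hk⟩ := h f hf
    refine ⟨k, ?_⟩
    rw [hφ, ← pow_mul, show p * k = (p * k - k) + k by
      have : k ≤ p * k := Nat.le_mul_of_pos_left k hp
      omega, pow_add, mul_smul, hk, smul_zero]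

end Groth.Agent.RGammaI
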