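import Groth.Agent.RGammaI.DualHull
import Mathlib.CategoryTheory.Triangulated.Adjunction
import Mathlib.CategoryTheory.Triangulated.HomologicalFunctor

/-! `RΓ_I` as a linear triangulated functor and its degree zero cohomology. -/

set_option linter.style.haveILetI false
set_option maxHeartbeats 1000000

universe u

open CategoryTheory CategoryTheory.Category CategoryTheory.Limits CategoryTheory.Pretriangulated

attribute [local instance] HasDerivedCategory.standard
attribute [local instance] Groth.Agent.H9Misc.DRingHomCx.qh_isLeftAdjoint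

namespace Groth.Agent.RGammaI

variable (A : Type u) [CommRing A]

/-- The adjunction between localisation and K-injective resolution. -/
noncomputable abbrev resAdj :=
  Adjunction.ofIsLeftAdjoint (DerivedCategory.Qh (C := ModuleCat.{u} A))

/-- K-injective resolution as a functor. -/
noncomputable abbrev resF : Dual.D A ⥤ HomotopyCategory (ModuleCat.{u} A) (ComplexShape.up ℤ) :=
  (DerivedCategory.Qh (C := ModuleCat.{u} A)).rightAdjoint

noncomputable instance commShift_resF : (resF A).CommShift ℤ := (resAdj A).rightAdjointCommShift ℤ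

instance commShift_resAdj : (resAdj A).CommShift ℤ := (resAdj A).commShift_of_leftAdjoint ℤ

instance isTriangulated_resF : (resF A).IsTriangulated := (resAdj A).isTriangulated_rightAdjoint

instance linear_resF : (resF A).Linear A where
  map_smul {X Y} f r := ((resAdj A).homEquiv _ _).symm.injective (by
    rw [Adjunction.homEquiv_counit, Adjunction.homEquiv_counit, Functor.map_smul (F := DerivedCategory.Qh), Linear.smul_comp]
    have h1 := (resAdj A).counit.naturality (r • f)
    have h2 := (resAdj A).counit.naturality f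
    simp only [Functor.comp_map, Functor.id_map] at h1 h2
    rw [h1, Linear.comp_smul, h2])

variable {A}
variable (I : Ideal A)

/-- `RΓ_I` as a composite of triangulated functors. -/
noncomputable abbrev G : Dual.D A ⥤ Dual.D A := resF A ⋙ DRing.gammaIKh I

/-- `H^0 ∘ RΓ_I`. -/
noncomputable abbrev F : Dual.D A ⥤ ModuleCat.{u} A :=
  G I ⋙ DerivedCategory.homologyFunctor (ModuleCat.{u} A) 0

instance linear_F : (F I).Linear A := inferInstance

instance isHomological_F : (F I).IsHomological := inferInstance

/-- The comparison with the chosen derived functor. -/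
noncomputable def GIso [DRing.HasRgammaI I] : G I ≅ DRing.RgammaI I :=
  haveI := TriCat.isRightDerivedFunctor_of_adjunction (resAdj A)
    (HomotopyCategory.quasiIso (ModuleCat.{u} A) (ComplexShape.up ℤ)) (DRing.gammaIKh I)
  Functor.rightDerivedUnique _ _ (Functor.whiskerRight (resAdj A).unit (DRing.gammaIKh I))
    ((DRing.gammaIKh I).totalRightDerivedUnit DerivedCategory.Qh
      (HomotopyCategory.quasiIso (ModuleCat.{u} A) (ComplexShape.up ℤ)))
    (HomotopyCategory.quasiIso (ModuleCat.{u} A) (ComplexShape.up ℤ))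

/-- `F` of a shift is a cohomology module of `RΓ_I`. -/
noncomputable def FShiftIso [DRing.HasRgammaI I] (K : Dual.D A) (n : ℤ) :
    (F I).obj (K⟦n⟧) ≅ (DerivedCategory.homologyFunctor (ModuleCat.{u} A) n).obj ((DRing.RgammaI I).obj K) :=
  (DerivedCategory.homologyFunctor (ModuleCat.{u} A) 0).mapIso (((G I).commShiftIso n).app K) ≪≫
    ((DerivedCategory.homologyFunctor (ModuleCat.{u} A) 0).shiftIso n 0 n (add_zero n)).app _ ≪≫
    (DerivedCategory.homologyFunctor (ModuleCat.{u} A) n).mapIso ((GIso I).app K)

/-- `F` in degree zero. -/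
noncomputable def FIso [DRing.HasRgammaI I] (K : Dual.D A) :
    (F I).obj K ≅ (DerivedCategory.homologyFunctor (ModuleCat.{u} A) 0).obj ((DRing.RgammaI I).obj K) :=
  (DerivedCategory.homologyFunctor (ModuleCat.{u} A) 0).mapIso ((GIso I).app K)

lemma FIso_natural [DRing.HasRgammaI I] {K L : Dual.D A} (u : K ⟶ L) :
    (F I).map u ≫ (FIso I L).hom =
      (FIso I K).hom ≫ (DerivedCategory.homologyFunctor (ModuleCat.{u} A) 0).map ((DRing.RgammaI I).map u) := by
  refine ((DerivedCategory.homologyFunctor (ModuleCat.{u} A) 0).map_comp _ _).symm.trans ?_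
  refine Eq.trans ?_ ((DerivedCategory.homologyFunctor (ModuleCat.{u} A) 0).map_comp _ _)
  exact congrArg _ ((GIso I).hom.naturality u)

variable [IsNoetherianRing A]

theorem isPowerTorsion_F (K : Dual.D A) : LocCoh.IsPowerTorsion I ((F I).obj K) := by
  haveI := hasRgammaI I
  exact isPowerTorsion_of_equiv (FIso I K).toLinearEquiv.symm (isPowerTorsion_HD I K 0)

/-- `H^q Γ_I` of complexes of injectives with cohomology in a range. -/
lemma exists_bound (I : Ideal A) : ∃ r : ℤ, 0 ≤ r ∧ ∀ {X : DRing.Cx A}, DivTerms X →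
    (∀ N : ℤ, (∀ q, N < q → IsZero (X.homology q)) → ∀ q, N + r < q → IsZero (((Γc I).obj X).homology q)) ∧
    (∀ N : ℤ, (∀ q, q < N → IsZero (X.homology q)) → ∀ q, q < N → IsZero (((Γc I).obj X).homology q)) := by
  obtain ⟨s, hs⟩ := IsNoetherian.noetherian I
  subst hs
  classical
  induction s using Finset.induction with
  | empty =>
    refine ⟨0, le_rfl, fun {X} _ => ?_⟩
    rw [Finset.coe_empty, Submodule.span_empty]
    haveI := isIso_ι_bot X
    exact ⟨fun N hX q hq => (hX q (by omega)).of_iso (asIso (HomologicalComplex.homologyMap (ιc (⊥ : Ideal A) X) q)),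
      fun N hX q hq => (hX q hq).of_iso (asIso (HomologicalComplex.homologyMap (ιc (⊥ : Ideal A) X) q))⟩
  | insert b s hb ih =>
    obtain ⟨r, hr, ih⟩ := ih
    refine ⟨r + 1, by omega, fun {X} hX => ?_⟩
    have hsup : Submodule.span A (↑(insert b s) : Set A) = Submodule.span A (s : Set A) ⊔ Ideal.span {b} := by
      rw [Finset.coe_insert, Submodule.span_insert, sup_comm]
    rw [hsup]
    set a : Ideal A := Submodule.span A (s : Set A)
    obtain ⟨ih₁, ih₂⟩ := ih hX
    let Y := (Γc a).obj X
    have hS := shortExact_locSeq b (divTerms_gamma a hX)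
    have hloc : ∀ q, IsZero (Y.homology q) → IsZero ((locSeq b Y).X₃.homology q) := fun q h =>
      ((LC.locF b).map_isZero h).of_iso ((Y.sc q).mapHomologyIso (LC.locF b))
    have e : ∀ q, ((Γc (a ⊔ Ideal.span {b})).obj X).homology q ≅ (locSeq b Y).X₁.homology q := fun q =>
      HomologicalComplex.homologyMapIso ((ΓcSupIso a (Ideal.span {b})).app X).symm q
    have key : ∀ q, IsZero (Y.homology (q - 1)) → IsZero (Y.homology q) →
        IsZero (((Γc (a ⊔ Ideal.span {b})).obj X).homology q) := fun q h1 h2 => by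
      refine IsZero.of_iso ?_ (e q)
      exact (hS.homology_exact₁ (q - 1) q (by simp)).isZero_X₂
        ((hloc _ h1).eq_of_src _ _) (h2.eq_of_tgt _ _)
    exact ⟨fun N hN q hq => key q (ih₁ N hN _ (by omega)) (ih₁ N hN q (by omega)),
      fun N hN q hq => key q (ih₂ N hN _ (by omega)) (ih₂ N hN q hq)⟩

/-- `F` kills objects far below. -/
theorem exists_F_low (I : Ideal A) : ∃ m : ℤ, ∀ C : Dual.D A, C.IsLE m → IsZero ((F I).obj C) := by
  obtain ⟨r, -, hr⟩ := exists_bound I
  refine ⟨-r - 1, fun C hC => ?_⟩
  haveI := hasRgammaI I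
  obtain ⟨J, hJ, hinj, ⟨e⟩⟩ := exists_injRep C
  refine IsZero.of_iso ?_ (FIso I C ≪≫ ((DerivedCategory.homologyFunctor (ModuleCat.{u} A) 0).mapIso
    (isoOfInjTerms I hinj ≪≫ (DRing.RgammaI I).mapIso e)).symm ≪≫
      (DerivedCategory.homologyFunctorFactors (ModuleCat.{u} A) 0).app _)
  refine (hr hinj.div).1 (-r - 1) (fun q hq => ?_) 0 (by omega)
  exact (DerivedCategory.isZero_of_isLE C (-r - 1) q hq).of_iso
    (((DerivedCategory.homologyFunctorFactors (ModuleCat.{u} A) q).app J).symm ≪≫
      (DerivedCategory.homologyFunctor (ModuleCat.{u} A) q).mapIso e)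

/-- `F` kills objects above degree zero. -/
theorem isZero_F_high (I : Ideal A) (C : Dual.D A) (hC : C.IsGE 1) : IsZero ((F I).obj C) := by
  obtain ⟨r, -, hr⟩ := exists_bound I
  haveI := hasRgammaI I
  obtain ⟨J, hJ, hinj, ⟨e⟩⟩ := exists_injRep C
  refine IsZero.of_iso ?_ (FIso I C ≪≫ ((DerivedCategory.homologyFunctor (ModuleCat.{u} A) 0).mapIso
    (isoOfInjTerms I hinj ≪≫ (DRing.RgammaI I).mapIso e)).symm ≪≫
      (DerivedCategory.homologyFunctorFactors (ModuleCat.{u} A) 0).app _)
  refine (hr hinj.div).2 1 (fun q hq => ?_) 0 (by omega)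
  exact (DerivedCategory.isZero_of_isGE C 1 q hq).of_iso
    (((DerivedCategory.homologyFunctorFactors (ModuleCat.{u} A) q).app J).symm ≪≫
      (DerivedCategory.homologyFunctor (ModuleCat.{u} A) q).mapIso e)

end Groth.Agent.RGammaI
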