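import Groth.Agent.RGammaI.InvLocal
import Groth.Agent.KFlatLib.Ring.InvertibleTwist
import Groth.Agent.KFlatLib.Ring.EvalPerfect
import Groth.Agent.KFlatLib.Ring.DualizingCriterion
import Mathlib.RingTheory.Flat.Localization

/-! Objects with scalar endomorphisms and no self-extensions are invertible. -/

set_option linter.style.haveILetI false
set_option backward.isDefEq.respectTransparency false

universe u

open CategoryTheory CategoryTheory.Limits Pretriangulated
open scoped TensorProduct

attribute [local instance] HasDerivedCategory.standard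

namespace Groth.Agent.RGammaI.InvGlobal

open Groth.Agent.KFlatLib

variable {A : Type u} [CommRing A] [IsNoetherianRing A]

lemma pc' (X : Dual.D A) (b : ℤ) [X.IsLE b] (hX : ∀ i : ℤ, Module.Finite A (Dual.HD A X i)) :
    DRing.IsPseudoCoherent' A X :=
  (H9Misc.DRingPC.pc'_iff X).2 fun m => (Groth.Agent.S6942.result A m X A).1.2
    ⟨⟨b, fun i hi => ModuleCat.subsingleton_of_isZero (DerivedCategory.isZero_of_isLE X b i hi)⟩,
      fun i _ => hX i⟩

lemma free_HD_localization (P : Dual.D A) (a b : ℤ) [P.IsGE a] [P.IsLE b]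
    (hP : ∀ i, Module.Finite A (Dual.HD A P i)) (hself : ∀ i : ℤ, 0 < i → Subsingleton (P ⟶ P⟦i⟧))
    (m : Ideal A) [m.IsMaximal] (J : ℤ) (hJ : ∀ j, J < j → Subsingleton (P ⟶ (Dual.inD A (A ⧸ m))⟦j⟧))
    (i : ℤ) :
    Module.Free (Localization.AtPrime m) (Localization.AtPrime m ⊗[A] Dual.HD A P i) := by
  classical
  let B := Localization.AtPrime m
  haveI : Module.Flat A B := IsLocalization.flat B m.primeCompl
  haveI := hasLBase (algebraMap A B)
  let P' := (DTen.LBase (algebraMap A B)).obj P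
  haveI : P'.IsGE a := isGE_LBase_flat P a
  haveI : P'.IsLE b := isLE_LBase P b
  have hP' := fun j => finite_hd_LBase (B := B) P j (hP j)
  have hpc := pc' P b hP
  have hself' : ∀ j : ℤ, 0 < j → Subsingleton (P' ⟶ P'⟦j⟧) := fun j hj => by
    obtain ⟨e⟩ := exists_homBaseChangeLEquiv (B := B) (Y := P) hpc a j
    haveI := hself j hj
    exact e.injective.subsingleton
  have hJ' : ∀ j, J < j → Subsingleton (P' ⟶ (Dual.inD B (B ⧸ IsLocalRing.maximalIdeal B))⟦j⟧) := fun j hj => by
    haveI : DerivedCategory.IsGE (Dual.inD A (A ⧸ m)) 0 :=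
      inferInstanceAs (DerivedCategory.IsGE ((DerivedCategory.singleFunctor (ModuleCat.{u} A) 0).obj _) 0)
    obtain ⟨e⟩ := exists_homBaseChangeLEquiv (B := B) (Y := Dual.inD A (A ⧸ m)) hpc 0 j
    haveI := hJ j hj
    obtain ⟨eI⟩ := nonempty_LBase_inD_quotient (B := B) m
    rw [Localization.AtPrime.map_eq_maximalIdeal] at eI
    haveI : Subsingleton (P' ⟶ ((DTen.LBase (algebraMap A B)).obj (Dual.inD A (A ⧸ m)))⟦j⟧) :=
      e.injective.subsingleton
    exact ((Iso.refl P').homCongr ((shiftFunctor (Dual.D B) j).mapIso eI)).symm.injective.subsingleton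
  obtain ⟨eh⟩ := exists_hdLBaseLEquiv (B := B) P i
  suffices h : Module.Free B (Dual.HD B P' i) from Module.Free.of_equiv eh
  by_cases hi : Subsingleton (Dual.HD B P' i)
  · exact Module.Free.of_subsingleton _ _
  obtain ⟨t, ht, htmax⟩ := Int.exists_greatest_of_bdd (P := fun n => ¬ Subsingleton (Dual.HD B P' n))
    ⟨b, fun n hn => not_lt.1 fun h => hn (ModuleCat.subsingleton_of_isZero (DerivedCategory.isZero_of_isLE P' b n h))⟩
    ⟨i, hi⟩
  haveI : P'.IsLE t := (DerivedCategory.isLE_iff _ _).2 fun n hn =>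
    @ModuleCat.isZero_of_subsingleton _ _ _ (by_contra fun h => absurd (htmax n h) (not_le.2 hn))
  obtain ⟨h1, h2⟩ := InvLocal.free_HD (P := P') a t ht hP' hself' J hJ'
  by_cases hit : i = t
  · exact hit ▸ h1
  · exact absurd (h2 i hit) hi

lemma projective_HD (P : Dual.D A) (a b : ℤ) [P.IsGE a] [P.IsLE b]
    (hP : ∀ i, Module.Finite A (Dual.HD A P i)) (hself : ∀ i : ℤ, 0 < i → Subsingleton (P ⟶ P⟦i⟧))
    (hres : ∀ (m : Ideal A), m.IsMaximal → ∃ J : ℤ, ∀ j, J < j → Subsingleton (P ⟶ (Dual.inD A (A ⧸ m))⟦j⟧))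
    (i : ℤ) : Module.Projective A (Dual.HD A P i) := by
  haveI := hP i
  haveI : Module.Flat A (Dual.HD A P i) :=
    Module.flat_of_isLocalized_maximal (R := A) A (Dual.HD A P i)
      (fun m _ => Localization.AtPrime m ⊗[A] Dual.HD A P i)
      (fun m _ => TensorProduct.mk A (Localization.AtPrime m) (Dual.HD A P i) 1) fun m hm => by
        obtain ⟨J, hJ⟩ := hres m hm
        haveI : Module.Flat A (Localization.AtPrime m) := IsLocalization.flat _ m.primeCompl
        haveI : Module.Flat (Localization.AtPrime m) (Localization.AtPrime m ⊗[A] Dual.HD A P i) :=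
          @Module.Flat.of_free _ _ _ _ _ (free_HD_localization P a b hP hself m J hJ i)
        exact Module.Flat.trans A (Localization.AtPrime m) _
  haveI : Module.FinitePresentation A (Dual.HD A P i) := Module.finitePresentation_of_finite A _
  exact Module.Flat.projective_of_finitePresentation

variable [DTen.HasLTen A]

/-- Self-orthogonal objects with scalar endomorphisms and bounded residual Ext are invertible. -/
theorem isInvertible (P : Dual.D A) (a b : ℤ) [P.IsGE a] [P.IsLE b]
    (hP : ∀ i, Module.Finite A (Dual.HD A P i)) (hself : ∀ i : ℤ, i ≠ 0 → Subsingleton (P ⟶ P⟦i⟧))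
    (hend : Function.Bijective fun x : A => x • (𝟙 P : P ⟶ P))
    (hres : ∀ (m : Ideal A), m.IsMaximal → ∃ J : ℤ, ∀ j, J < j → Subsingleton (P ⟶ (Dual.inD A (A ⧸ m))⟦j⟧)) :
    DTen.IsInvertible A P := by
  haveI := hasRHom (A := A)
  haveI := hasLTen₃ A
  haveI := isSymMonoidal A
  have hperf : DRing.IsPerfect A P := H9Misc.DRingPC.isPerfect_of_homology P a b
    (fun i hi => ModuleCat.subsingleton_of_isZero (hi.elim
      (fun h => DerivedCategory.isZero_of_isGE P a i h) (fun h => DerivedCategory.isZero_of_isLE P b i h)))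
    fun i => by
      haveI := hP i
      haveI := projective_HD P a b hP (fun j hj => hself j hj.ne') hres i
      haveI : Module.Finite A (ModuleCat.of A (Dual.HD A P i)) := inferInstanceAs (Module.Finite A (Dual.HD A P i))
      haveI : Projective (ModuleCat.of A (Dual.HD A P i)) :=
        (IsProjective.iff_projective (R := A) (Dual.HD A P i)).1 inferInstance
      exact isPerfect_inD_of_projective (ModuleCat.of A (Dual.HD A P i))
  let X := (DTen.RHomR A P).obj P
  have hz : ∀ n : ℤ, n ≠ 0 → IsZero ((DerivedCategory.homologyFunctor (ModuleCat.{u} A) n).obj X) := fun n hn => by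
    obtain ⟨e⟩ := exists_hdRHomShiftLEquiv P P n
    haveI := hself n hn
    exact @ModuleCat.isZero_of_subsingleton _ _ _ e.injective.subsingleton
  haveI : X.IsLE 0 := (DerivedCategory.isLE_iff _ _).2 fun i hi => hz i (by omega)
  haveI : X.IsGE 0 := (DerivedCategory.isGE_iff _ _).2 fun i hi => hz i (by omega)
  obtain ⟨e₁⟩ := H9Misc.nonempty_iso_single_homology 0 X
  obtain ⟨e₂⟩ := exists_hdRHomShiftLEquiv P P 0
  let c : A →ₗ[A] (P ⟶ P) :=
    { toFun := fun a => a • 𝟙 P
      map_add' := fun a b => add_smul a b _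
      map_smul' := fun a b => mul_smul a b _ }
  let e₃ : Dual.HD A X 0 ≃ₗ[A] A :=
    e₂.trans ((Linear.homCongr A (Iso.refl P) ((shiftFunctorZero (Dual.D A) ℤ).app P)).trans
      (LinearEquiv.ofBijective c hend).symm)
  let eX : X ≅ DTen.unit A := e₁ ≪≫ (DerivedCategory.singleFunctor (ModuleCat.{u} A) 0).mapIso e₃.toModuleIso ≪≫
    (DerivedCategory.singleFunctorIsoCompQ (ModuleCat.{u} A) 0).app (ModuleCat.of A A)
  haveI := isIso_evalTen_of_isPerfect_source P (DTen.unit A) P hperf
  let L := (DTen.RHomR A P).obj (DTen.unit A)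
  let e : (DTen.LTen₂ A).obj (P, L) ≅ DTen.unit A :=
    asIso (DTen.evalTen P (DTen.unit A) P) ≪≫ (DTen.RHomR A P).mapIso (DTen.rightUnitor P) ≪≫ eX
  exact ⟨L, ⟨e⟩, ⟨(DTen.braiding L P).symm ≪≫ e⟩⟩

end Groth.Agent.RGammaI.InvGlobal
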