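import Groth.Agent.RGammaI.Duality
import Groth.Agent.RGammaI.Main
import Groth.Agent.KFlatLib.Ring.DualizingFlat
import Groth.Agent.H9Misc.DRingLTensorCx

/-! Objects with no positive self-extensions over a local ring. -/

set_option linter.style.haveILetI false
set_option maxHeartbeats 1000000
set_option backward.isDefEq.respectTransparency false

universe u

open CategoryTheory CategoryTheory.Limits Pretriangulated Opposite

attribute [local instance] HasDerivedCategory.standard

namespace Groth.Agent.RGammaI.InvLocal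

open Groth.Agent.KFlatLib

variable {A : Type u} [CommRing A] [IsNoetherianRing A] {P : Dual.D A}

lemma inD_isGE_shift (N : Type u) [AddCommGroup N] [Module A N] (j : ℤ) :
    DerivedCategory.IsGE ((Dual.inD A N)⟦j⟧) (-j) :=
  DerivedCategory.TStructure.t.isGE_shift _ 0 j (-j) (by omega)

lemma finite_hom_inD_shift (b : ℤ) [P.IsLE b] (hP : ∀ i, Module.Finite A (Dual.HD A P i))
    (N : Type u) [AddCommGroup N] [Module A N] [Module.Finite A N] (j : ℤ) :
    Module.Finite A (P ⟶ (Dual.inD A N)⟦j⟧) := by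
  haveI := inD_isGE_shift (A := A) N j
  have hpc : DRing.IsPseudoCoherent' A P := (H9Misc.DRingPC.pc'_iff P).2 fun m => (Groth.Agent.S6942.result A m P A).1.2
    ⟨⟨b, fun i hi => ModuleCat.subsingleton_of_isZero (DerivedCategory.isZero_of_isLE P b i hi)⟩, fun i _ => hP i⟩
  refine finite_hom_of_pc hpc (-j) fun m => ?_
  by_cases h : m + j = 0
  · haveI : Module.Finite A (((DerivedCategory.homologyFunctor (ModuleCat.{u} A) 0).shift (m + j)).obj (Dual.inD A N)) := by
      rw [h]
      exact Module.Finite.equiv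
        (M := (N)) ((DerivedCategory.singleFunctorCompHomologyFunctorIso (ModuleCat.{u} A) 0).app (ModuleCat.of A N)).toLinearEquiv.symm
    exact Module.Finite.equiv ((((DerivedCategory.homologyFunctor (ModuleCat.{u} A) 0).shiftIso j m (m + j)
      (by omega)).app (Dual.inD A N)).symm.toLinearEquiv)
  · haveI : Subsingleton (((DerivedCategory.homologyFunctor (ModuleCat.{u} A) 0).shift (m + j)).obj (Dual.inD A N)) :=
      Groth.Agent.H9Misc.DRingTel.subsingleton_homology_inD (A := A) N h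
    exact Module.Finite.equiv ((((DerivedCategory.homologyFunctor (ModuleCat.{u} A) 0).shiftIso j m (m + j)
      (by omega)).app (Dual.inD A N)).symm.toLinearEquiv)

variable [IsLocalRing A]

local notation "𝔪" => IsLocalRing.maximalIdeal A

lemma subsingleton_hom_quotient (b : ℤ) [P.IsLE b] (hP : ∀ i, Module.Finite A (Dual.HD A P i)) (j₀ : ℤ)
    (h : ∀ j, j₀ < j → Subsingleton (P ⟶ (Dual.inD A (A ⧸ 𝔪))⟦j⟧)) (I : Ideal A) :
    ∀ j, j₀ < j → Subsingleton (P ⟶ (Dual.inD A (A ⧸ I))⟦j⟧) := by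
  induction I using WellFoundedGT.induction with
  | _ I ih =>
    intro j hj
    by_cases hI : I = ⊤
    · subst hI
      haveI : Subsingleton (A ⧸ (⊤ : Ideal A)) := Submodule.Quotient.subsingleton_iff.2 rfl
      exact subsingleton_of_forall_eq 0 fun f => ((shiftFunctor (Dual.D A) j).map_isZero
        ((DerivedCategory.singleFunctor (ModuleCat.{u} A) 0).map_isZero
          (ModuleCat.isZero_of_subsingleton _))).eq_of_tgt f 0
    by_cases hp : I.IsPrime
    · by_cases hm : I = 𝔪
      · subst hm; exact h j hj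
      have hle : I ≤ 𝔪 := IsLocalRing.le_maximalIdeal hI
      obtain ⟨x, hxm, hxI⟩ := SetLike.exists_of_lt (lt_of_le_of_ne hle hm)
      haveI := finite_hom_inD_shift b hP (A ⧸ I) j
      let E := P ⟶ (Dual.inD A (A ⧸ I))⟦j⟧
      have hJ : (Submodule.comap (LinearMap.mulLeft A x) I : Ideal A) = I := by
        ext c
        exact ⟨fun hc => (hp.mem_or_mem hc).resolve_left hxI, fun hc => I.mul_mem_left x hc⟩
      obtain ⟨φ, ψ, w, hS, hφ⟩ := exists_colon_ses I x
      let eJ : ModuleCat.of A (A ⧸ (Submodule.comap (LinearMap.mulLeft A x) I : Ideal A)) ≅ ModuleCat.of A (A ⧸ I) :=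
        (Submodule.quotEquivOfEq _ _ hJ).toModuleIso
      have hφ' : φ = x • eJ.hom := ModuleCat.hom_ext (LinearMap.ext fun z => by
        obtain ⟨c, rfl⟩ := Submodule.Quotient.mk_surjective _ z
        exact hφ c)
      let S := DerivedCategory.singleFunctor (ModuleCat.{u} A) 0
      have key : (⊤ : Submodule A E) ≤ 𝔪 • (⊤ : Submodule A E) := fun f _ => by
        haveI := ih (I ⊔ Ideal.span {x}) (lt_of_le_of_ne le_sup_left fun e =>
          hxI (e ▸ Submodule.mem_sup_right (Ideal.mem_span_singleton_self x))) j hj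
        obtain ⟨g, hg⟩ := Triangle.coyoneda_exact₂ _
          (Triangle.shift_distinguished _ hS.singleTriangle_distinguished j) f
          (Subsingleton.elim (α := P ⟶ (Dual.inD A (A ⧸ (I ⊔ Ideal.span {x})))⟦j⟧) _ _)
        let g' : P ⟶ (S.obj (ModuleCat.of A (A ⧸ I)))⟦j⟧ := g ≫ (j.negOnePow • (S.map eJ.hom)⟦j⟧')
        have e1 : f = x • g' := hg.trans (by
          change g ≫ (j.negOnePow • (S.map φ)⟦j⟧') = _
          have e2 : (S.map φ)⟦j⟧' = x • (S.map eJ.hom)⟦j⟧' := by
            rw [← Functor.map_smul, ← Functor.map_smul]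
            exact congrArg (fun t => (S.map t)⟦j⟧') hφ'
          rw [show j.negOnePow • (S.map φ)⟦j⟧' = j.negOnePow • (x • (S.map eJ.hom)⟦j⟧') from congrArg (fun t => j.negOnePow • t) e2,
            smul_comm, Linear.comp_smul])
        rw [e1]
        exact Submodule.smul_mem_smul hxm Submodule.mem_top
      exact (Submodule.subsingleton_iff A).1 (subsingleton_iff_bot_eq_top.1
        (Submodule.eq_bot_of_le_smul_of_le_jacobson_bot 𝔪 (⊤ : Submodule A E) Module.Finite.fg_top key
          (IsLocalRing.maximalIdeal_le_jacobson _)).symm)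
    · obtain ⟨x, hx, y, hy, hxy⟩ := (Ideal.not_isPrime_iff.1 hp).resolve_left hI
      obtain ⟨φ, ψ, w, hS, -⟩ := exists_colon_ses I x
      haveI := ih ((Submodule.comap (LinearMap.mulLeft A x) I : Ideal A)) (lt_of_le_of_ne (fun c hc => I.mul_mem_left x hc)
        fun e => hy (e.symm ▸ (show y ∈ (Submodule.comap (LinearMap.mulLeft A x) I : Ideal A) from hxy))) j hj
      haveI := ih (I ⊔ Ideal.span {x}) (lt_of_le_of_ne le_sup_left fun e =>
        hx (e ▸ Submodule.mem_sup_right (Ideal.mem_span_singleton_self x))) j hj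
      refine subsingleton_of_forall_eq 0 fun f => ?_
      obtain ⟨g, hg⟩ := Triangle.coyoneda_exact₂ _
        (Triangle.shift_distinguished _ hS.singleTriangle_distinguished j) f
        (Subsingleton.elim (α := P ⟶ (Dual.inD A (A ⧸ (I ⊔ Ideal.span {x})))⟦j⟧) _ _)
      rw [hg, Subsingleton.elim (α := P ⟶ (Dual.inD A (A ⧸ (Submodule.comap (LinearMap.mulLeft A x) I : Ideal A)))⟦j⟧) g 0]
      exact zero_comp

/-- Vanishing at the residue field propagates to finite modules. -/
lemma subsingleton_hom_module (b : ℤ) [P.IsLE b] (hP : ∀ i, Module.Finite A (Dual.HD A P i)) (j₀ : ℤ)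
    (h : ∀ j, j₀ < j → Subsingleton (P ⟶ (Dual.inD A (A ⧸ 𝔪))⟦j⟧)) (N : Type u) [AddCommGroup N] [Module A N]
    [hN : Module.Finite A N] (j : ℤ) (hj : j₀ < j) : Subsingleton (P ⟶ (Dual.inD A N)⟦j⟧) := by
  refine IsNoetherianRing.induction_on_isQuotientEquivQuotientPrime (A := A) (M := N) hN
    (motive := fun N _ _ _ => Subsingleton (P ⟶ (Dual.inD A N)⟦j⟧)) ?_ ?_ ?_
  · intro N _ _ _ _
    exact subsingleton_of_forall_eq 0 fun f => ((shiftFunctor (Dual.D A) j).map_isZero
      ((DerivedCategory.singleFunctor (ModuleCat.{u} A) 0).map_isZero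
        (ModuleCat.isZero_of_subsingleton _))).eq_of_tgt f 0
  · intro N _ _ _ p e
    haveI := subsingleton_hom_quotient b hP j₀ h p.asIdeal j hj
    exact ((Iso.refl P).homCongr ((shiftFunctor (Dual.D A) j).mapIso
      ((DerivedCategory.singleFunctor (ModuleCat.{u} A) 0).mapIso e.toModuleIso))).injective.subsingleton
  · intro N₁ _ _ _ N₂ _ _ _ N₃ _ _ _ f g hf hg hfg h1 h3
    let C : ShortComplex (ModuleCat.{u} A) :=
      ShortComplex.mk (ModuleCat.ofHom f) (ModuleCat.ofHom g) (ModuleCat.hom_ext hfg.linearMap_comp_eq_zero)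
    have hC : C.ShortExact :=
      { exact := (ShortComplex.ShortExact.moduleCat_exact_iff_function_exact _).2 hfg
        mono_f := (ModuleCat.mono_iff_injective _).2 hf
        epi_g := (ModuleCat.epi_iff_surjective _).2 hg }
    refine subsingleton_of_forall_eq 0 fun φ => ?_
    obtain ⟨ψ, hψ⟩ := Triangle.coyoneda_exact₂ _
      (Triangle.shift_distinguished _ hC.singleTriangle_distinguished j) φ
      (Subsingleton.elim (α := P ⟶ (Dual.inD A N₃)⟦j⟧) _ _)
    rw [hψ, Subsingleton.elim (α := P ⟶ (Dual.inD A N₁)⟦j⟧) ψ 0]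
    exact zero_comp

omit [IsLocalRing A] in
/-- Vanishing on modules propagates to bounded complexes. -/
lemma subsingleton_hom_complex (j₀ : ℤ)
    (h : ∀ (N : Type u) [AddCommGroup N] [Module A N] [Module.Finite A N] (j : ℤ), j₀ < j →
      Subsingleton (P ⟶ (Dual.inD A N)⟦j⟧)) :
    ∀ (k : ℕ) (Z : Dual.D A) (a c : ℤ), Z.IsGE a → Z.IsLE c → c - a < k →
      (∀ m, Module.Finite A (Dual.HD A Z m)) → ∀ i, j₀ + c < i → Subsingleton (P ⟶ Z⟦i⟧) := by
  intro k
  induction k with
  | zero =>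
    intro Z a c ha hc hlt _ i _
    haveI := ha
    haveI := hc
    have hz : IsZero Z := (IsZero.iff_id_eq_zero _).2
      (DerivedCategory.TStructure.t.zero (𝟙 Z) c a (by push_cast at hlt; omega))
    exact subsingleton_of_forall_eq 0 fun f => ((shiftFunctor (Dual.D A) i).map_isZero hz).eq_of_tgt f 0
  | succ k ih =>
    intro Z a c ha hc hlt hfin i hi
    haveI := ha
    haveI := hc
    obtain ⟨T, hT, rfl, h₁, h₃, hf₁, hf₃, hg₁, hl₃⟩ := exists_trunc_finite hfin (c - 1)
    haveI := h₁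
    haveI : T.obj₃.IsGE c := by rw [sub_add_cancel] at h₃; exact h₃
    haveI := hl₃ c hc
    have s₁ : Subsingleton (P ⟶ T.obj₁⟦i⟧) := ih T.obj₁ a (c - 1) (hg₁ a ha) h₁
      (by push_cast at hlt; omega) hf₁ i (by omega)
    obtain ⟨u⟩ := H9Misc.nonempty_iso_single_homology c T.obj₃
    let N := (DerivedCategory.homologyFunctor (ModuleCat.{u} A) c).obj T.obj₃
    haveI : Module.Finite A N := hf₃ c
    let v : T.obj₃ ≅ (Dual.inD A N)⟦-c⟧ := u ≪≫
      (((DerivedCategory.singleFunctors (ModuleCat.{u} A)).shiftIso (-c) c 0 (by omega)).app N).symm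
    haveI := h N (i - c) (by omega)
    have s₃ : Subsingleton (P ⟶ T.obj₃⟦i⟧) := ((Iso.refl P).homCongr ((shiftFunctor (Dual.D A) i).mapIso v ≪≫
      ((shiftFunctorAdd' (Dual.D A) (-c) i (i - c) (by omega)).app _).symm)).injective.subsingleton
    refine subsingleton_of_forall_eq 0 fun φ => ?_
    obtain ⟨ψ, hψ⟩ := Triangle.coyoneda_exact₂ _ (Triangle.shift_distinguished _ hT i) φ (s₃.elim _ _)
    rw [hψ, s₁.elim ψ 0]
    exact zero_comp

/-- An object with no positive self-extensions and bounded residual Ext has free cohomology. -/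
theorem free_HD (a : ℤ) [P.IsGE a] (b : ℤ) [P.IsLE b] (hb : ¬ Subsingleton (Dual.HD A P b))
    (hP : ∀ i, Module.Finite A (Dual.HD A P i)) (hself : ∀ i : ℤ, 0 < i → Subsingleton (P ⟶ P⟦i⟧))
    (J : ℤ) (hJ : ∀ j, J < j → Subsingleton (P ⟶ (Dual.inD A (A ⧸ 𝔪))⟦j⟧)) :
    Module.Free A (Dual.HD A P b) ∧ ∀ i, i ≠ b → Subsingleton (Dual.HD A P i) := by
  classical
  let t := DerivedCategory.TStructure.t (C := ModuleCat.{u} A)
  let H := fun i => DerivedCategory.homologyFunctor (ModuleCat.{u} A) i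
  obtain ⟨T, hT, hT2, h₁, h₃, hf₁, hf₃, hg₁, hl₃⟩ := exists_trunc_finite hP (b - 1)
  subst hT2
  haveI := h₁
  haveI : T.obj₃.IsGE b := by rw [sub_add_cancel] at h₃; exact h₃
  haveI := hl₃ b inferInstance
  obtain ⟨u⟩ := H9Misc.nonempty_iso_single_homology b T.obj₃
  let Q := (H b).obj T.obj₃
  haveI : Module.Finite A Q := hf₃ b
  let v : T.obj₃ ≅ (Dual.inD A Q)⟦-b⟧ := u ≪≫
    (((DerivedCategory.singleFunctors (ModuleCat.{u} A)).shiftIso (-b) b 0 (by omega)).app Q).symm
  haveI hmonob : Mono ((H b).map T.mor₂) :=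
    (DerivedCategory.HomologySequence.mono_homologyMap_mor₂_iff _ hT b).2
      ((DerivedCategory.isZero_of_isLE T.obj₁ (b - 1) b (by omega)).eq_of_src _ _)
  haveI hepib : Epi ((H b).map T.mor₂) :=
    (DerivedCategory.HomologySequence.epi_homologyMap_mor₂_iff _ hT b (b + 1) rfl).2
      ((DerivedCategory.isZero_of_isLE T.obj₁ (b - 1) (b + 1) (by omega)).eq_of_tgt _ _)
  haveI : IsIso ((H b).map T.mor₂) := isIso_of_mono_of_epi _
  let g : T.obj₂ ⟶ (Dual.inD A Q)⟦-b⟧ := T.mor₂ ≫ v.hom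
  haveI : IsIso ((H b).map g) := by rw [Functor.map_comp]; infer_instance
  let k := A ⧸ 𝔪
  obtain ⟨ρ, hρ⟩ : ∃ ρ : Q →ₗ[A] k, Function.Surjective ρ := by
    have hne : ¬ Subsingleton Q := fun hs => hb ((asIso ((H b).map T.mor₂)).toLinearEquiv.toEquiv.subsingleton_congr.2 hs)
    have htop : 𝔪 • (⊤ : Submodule A Q) ≠ ⊤ := fun e => hne ((Submodule.subsingleton_iff A).1
      (subsingleton_iff_bot_eq_top.1 (Submodule.eq_bot_of_le_smul_of_le_jacobson_bot 𝔪 (⊤ : Submodule A Q)
        Module.Finite.fg_top e.ge (IsLocalRing.maximalIdeal_le_jacobson _)).symm))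
    obtain ⟨N, hN, hNle⟩ := (eq_top_or_exists_le_coatom (𝔪 • (⊤ : Submodule A Q))).resolve_left htop
    haveI : IsSimpleModule A (Q ⧸ N) := isSimpleModule_iff_isCoatom.2 hN
    obtain ⟨I, hI, ⟨e⟩⟩ := isSimpleModule_iff_quot_maximal.1 (inferInstance : IsSimpleModule A (Q ⧸ N))
    have hI' : I = 𝔪 := IsLocalRing.eq_maximalIdeal hI
    exact ⟨(Submodule.quotEquivOfEq _ _ hI').toLinearMap ∘ₗ e.toLinearMap ∘ₗ N.mkQ,
      (Submodule.quotEquivOfEq _ _ hI').surjective.comp (e.surjective.comp (Submodule.mkQ_surjective N))⟩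
  let S := DerivedCategory.singleFunctor (ModuleCat.{u} A) 0
  let π : T.obj₂ ⟶ (Dual.inD A k)⟦-b⟧ := g ≫ (S.map (ModuleCat.ofHom ρ))⟦-b⟧'
  haveI hπepi : Epi ((H b).map π) := by
    rw [Functor.map_comp]
    haveI : Epi ((H b).map ((S.map (ModuleCat.ofHom ρ))⟦-b⟧')) := by
      have hn := ((DerivedCategory.homologyFunctor (ModuleCat.{u} A) 0).shiftIso (-b) b 0 (by omega)).hom.naturality
        (S.map (ModuleCat.ofHom ρ))
      haveI : Epi ((H 0).map (S.map (ModuleCat.ofHom ρ))) := by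
        let cS := DerivedCategory.singleFunctorCompHomologyFunctorIso (ModuleCat.{u} A) 0
        haveI : Epi (ModuleCat.ofHom ρ) := (ModuleCat.epi_iff_surjective _).2 hρ
        have : (H 0).map (S.map (ModuleCat.ofHom ρ)) = cS.hom.app _ ≫ ModuleCat.ofHom ρ ≫ cS.inv.app _ :=
          (NatIso.naturality_2 cS (ModuleCat.ofHom ρ)).symm
        rw [this]
        infer_instance
      haveI : Epi (((DerivedCategory.homologyFunctor (ModuleCat.{u} A) 0).shift (0 : ℤ)).map (S.map (ModuleCat.ofHom ρ))) :=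
        inferInstanceAs (Epi ((H 0).map (S.map (ModuleCat.ofHom ρ))))
      have : Epi ((H b).map ((S.map (ModuleCat.ofHom ρ))⟦-b⟧') ≫
          ((DerivedCategory.homologyFunctor (ModuleCat.{u} A) 0).shiftIso (-b) b 0 (by omega)).hom.app _) := by
        change Epi (((shiftFunctor (Dual.D A) (-b)) ⋙ (DerivedCategory.homologyFunctor (ModuleCat.{u} A) 0).shift b).map
          (S.map (ModuleCat.ofHom ρ)) ≫ _)
        rw [hn]
        infer_instance
      exact (epi_comp_iff_of_isIso _ _).1 this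
    infer_instance
  haveI := inD_isGE_shift (A := A) k (-b)
  -- the top degree is `-b`
  have hmax : ∀ j, -b < j → Subsingleton (T.obj₂ ⟶ (Dual.inD A k)⟦j⟧) := by
    by_contra hcon
    simp only [not_forall] at hcon
    obtain ⟨j₁, hj₁, hne⟩ := hcon
    obtain ⟨j₀, hj₀, hmax₀⟩ := Int.exists_greatest_of_bdd (P := fun j => ¬ Subsingleton (T.obj₂ ⟶ (Dual.inD A k)⟦j⟧))
      ⟨J, fun j hj => not_lt.1 fun h => hj (hJ j h)⟩ ⟨j₁, hne⟩
    have hgt : -b < j₀ := lt_of_lt_of_le hj₁ (hmax₀ j₁ hne)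
    refine hj₀ (subsingleton_of_forall_eq 0 fun φ => ?_)
    obtain ⟨Z, ι, w, hZ⟩ := distinguished_cocone_triangle₁ π
    haveI hZle : Z.IsLE b := (DerivedCategory.isLE_iff _ _).2 fun m hm => by
      refine (DerivedCategory.HomologySequence.exact₁ _ hZ (m - 1) m (by omega)).isZero_X₂ ?_
        ((DerivedCategory.isZero_of_isLE T.obj₂ b m hm).eq_of_tgt _ _)
      by_cases hm' : m - 1 = b
      · subst hm'
        exact zero_of_epi_comp ((H (m - 1)).map π)
          (DerivedCategory.HomologySequence.comp_δ _ hZ (m - 1) m (by omega))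
      · haveI : DerivedCategory.IsLE ((Dual.inD A k)⟦-b⟧) b := t.isLE_shift _ 0 (-b) b (by omega)
        exact (DerivedCategory.isZero_of_isLE ((Dual.inD A k)⟦-b⟧) b (m - 1) (by omega)).eq_of_src _ _
    haveI hZge : Z.IsGE (min a b) := (DerivedCategory.isGE_iff _ _).2 fun m hm => by
      haveI : DerivedCategory.IsGE ((Dual.inD A k)⟦-b⟧) b := by
        have := inD_isGE_shift (A := A) k (-b); rwa [neg_neg] at this
      exact (DerivedCategory.HomologySequence.exact₁ _ hZ (m - 1) m (by omega)).isZero_X₂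
        ((DerivedCategory.isZero_of_isGE ((Dual.inD A k)⟦-b⟧) b (m - 1) (by omega)).eq_of_src _ _)
        ((DerivedCategory.isZero_of_isGE T.obj₂ a m (by omega)).eq_of_tgt _ _)
    have hZfin : ∀ m, Module.Finite A (Dual.HD A Z m) := fun m => by
      haveI : Module.Finite A ((H m).obj T.obj₂) := hP m
      haveI : Module.Finite A ((H (m - 1)).obj ((Dual.inD A k)⟦-b⟧)) := by
        haveI : Module.Finite A (((DerivedCategory.homologyFunctor (ModuleCat.{u} A) 0).shift (m - 1 + -b)).obj (Dual.inD A k)) := by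
          by_cases h : m - 1 + -b = 0
          · rw [h]
            exact Module.Finite.equiv
              (M := (k)) ((DerivedCategory.singleFunctorCompHomologyFunctorIso (ModuleCat.{u} A) 0).app (ModuleCat.of A k)).toLinearEquiv.symm
          · haveI : Subsingleton (((DerivedCategory.homologyFunctor (ModuleCat.{u} A) 0).shift (m - 1 + -b)).obj (Dual.inD A k)) :=
              Groth.Agent.H9Misc.DRingTel.subsingleton_homology_inD (A := A) k h
            infer_instance
        exact Module.Finite.equiv ((((DerivedCategory.homologyFunctor (ModuleCat.{u} A) 0).shiftIso (-b) (m - 1) (m - 1 + -b)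
          (by omega)).app (Dual.inD A k)).symm.toLinearEquiv)
      have hex := (ShortComplex.ShortExact.moduleCat_exact_iff_function_exact _).1
        (DerivedCategory.HomologySequence.exact₁ _ hZ (m - 1) m (by omega))
      constructor
      refine Submodule.fg_of_fg_map_of_fg_inf_ker ((H m).map ι).hom (IsNoetherian.noetherian _) ?_
      rw [top_inf_eq]
      refine (congrArg Submodule.FG (hex.linearMap_ker_eq.trans (Submodule.map_top _).symm)).mpr ?_
      exact Submodule.FG.map _ (Module.Finite.fg_top (R := A) (M := (H (m - 1)).obj ((Dual.inD A k)⟦-b⟧)))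
    have hh : ∀ (N : Type u) [AddCommGroup N] [Module A N] [Module.Finite A N] (j : ℤ), j₀ < j →
        Subsingleton (T.obj₂ ⟶ (Dual.inD A N)⟦j⟧) := fun N _ _ _ j hj =>
      subsingleton_hom_module b hP j₀ (fun j' hj' => by_contra fun h => absurd (hmax₀ j' h) (not_le.2 hj')) N j hj
    let s := j₀ + b
    haveI hZs : Subsingleton (T.obj₂ ⟶ Z⟦s + 1⟧) :=
      subsingleton_hom_complex j₀ hh ((b - min a b).toNat + 1) Z (min a b) b hZge hZle (by push_cast; omega) hZfin (s + 1) (by omega)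
    let e : ((Dual.inD A k)⟦-b⟧)⟦s⟧ ≅ (Dual.inD A k)⟦j₀⟧ :=
      ((shiftFunctorAdd' (Dual.D A) (-b) s j₀ (by omega)).app _).symm
    obtain ⟨ψ, hψ⟩ := Triangle.coyoneda_exact₃ _ (Triangle.shift_distinguished _ hZ s) (φ ≫ e.inv) (by
      apply ((Iso.refl T.obj₂).homCongr ((shiftFunctorAdd' (Dual.D A) s 1 (s + 1) rfl).app Z).symm).injective
      exact Subsingleton.elim _ _)
    haveI := hself s (by omega)
    have h0 : φ ≫ e.inv = 0 := by
      rw [hψ, Subsingleton.elim (α := T.obj₂ ⟶ (T.obj₂)⟦s⟧) ψ 0]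
      exact zero_comp
    rwa [← cancel_mono e.inv, zero_comp]
  have hmod : ∀ (N : Type u) [AddCommGroup N] [Module A N] [Module.Finite A N] (j : ℤ), -b < j →
      Subsingleton (T.obj₂ ⟶ (Dual.inD A N)⟦j⟧) := fun N _ _ _ j hj => subsingleton_hom_module b hP (-b) hmax N j hj
  -- the top cohomology is free
  have hfree : Module.Free A Q := by
    obtain ⟨n, F, hF⟩ := Module.Finite.exists_fin' A Q
    let C : ShortComplex (ModuleCat.{u} A) := ShortComplex.mk (ModuleCat.ofHom (LinearMap.ker F).subtype)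
      (ModuleCat.ofHom F) (ModuleCat.hom_ext (LinearMap.ext fun x => x.2))
    have hC : C.ShortExact :=
      { exact := (ShortComplex.ShortExact.moduleCat_exact_iff_function_exact _).2 (LinearMap.exact_subtype_ker_map F)
        mono_f := (ModuleCat.mono_iff_injective _).2 (Submodule.injective_subtype _)
        epi_g := (ModuleCat.epi_iff_surjective _).2 hF }
    haveI := hmod (LinearMap.ker F) (-b + 1) (by omega)
    haveI : Subsingleton (T.obj₂ ⟶ (shiftFunctor (Dual.D A) (-b + 1)).obj hC.singleTriangle.obj₁) :=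
      inferInstanceAs (Subsingleton (T.obj₂ ⟶ (Dual.inD A (LinearMap.ker F))⟦-b + 1⟧))
    obtain ⟨χ, hχ⟩ := Triangle.coyoneda_exact₃ _ (Triangle.shift_distinguished _ hC.singleTriangle_distinguished (-b)) g (by
      apply ((Iso.refl T.obj₂).homCongr ((shiftFunctorAdd' (Dual.D A) (-b) 1 (-b + 1) rfl).app _).symm).injective
      exact Subsingleton.elim _ _)
    let sA := (DerivedCategory.homologyFunctor (ModuleCat.{u} A) 0).shiftIso (-b) b 0 (by omega)
    let cS := DerivedCategory.singleFunctorCompHomologyFunctorIso (ModuleCat.{u} A) 0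
    let EF : (H b).obj ((S.obj (ModuleCat.of A (Fin n → A)))⟦-b⟧) ≅ ModuleCat.of A (Fin n → A) :=
      sA.app _ ≪≫ cS.app _
    let EQ : (H b).obj ((Dual.inD A Q)⟦-b⟧) ≅ ModuleCat.of A Q := sA.app _ ≪≫ cS.app _
    have hnat : (H b).map ((S.map (ModuleCat.ofHom F))⟦-b⟧') ≫ EQ.hom = EF.hom ≫ ModuleCat.ofHom F := by
      have h1 := sA.hom.naturality (S.map (ModuleCat.ofHom F))
      have h2 := cS.hom.naturality (ModuleCat.ofHom F)
      simp only [EQ, EF, Iso.trans_hom, Iso.app_hom, Category.assoc]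
      refine (reassoc_of% h1) _ |>.trans ?_
      exact congrArg (sA.hom.app _ ≫ ·) h2
    let χ' : ModuleCat.of A Q ⟶ ModuleCat.of A (Fin n → A) :=
      EQ.inv ≫ inv ((H b).map g) ≫ (H b).map χ ≫ EF.hom
    have hgχ : (H b).map g = (-b).negOnePow • ((H b).map χ ≫ (H b).map ((S.map (ModuleCat.ofHom F))⟦-b⟧')) := by
      rw [← Functor.map_comp, ← Functor.map_units_smul, ← Linear.comp_units_smul]
      exact congrArg (H b).map hχ
    have hsec : ((-b).negOnePow • χ') ≫ ModuleCat.ofHom F = 𝟙 _ := by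
      simp only [χ', Linear.units_smul_comp, Category.assoc]
      rw [← hnat, ← Linear.comp_units_smul, ← Linear.comp_units_smul, ← Category.assoc ((H b).map χ),
        ← Linear.units_smul_comp, ← hgχ, IsIso.inv_hom_id_assoc, Iso.inv_hom_id]
    haveI : Module.Projective A Q := Module.Projective.of_split ((-b).negOnePow • χ').hom F
      (by exact congrArg ModuleCat.Hom.hom hsec)
    exact Module.free_of_flat_of_isLocalRing
  refine ⟨Module.Free.of_equiv (asIso ((H b).map T.mor₂)).toLinearEquiv.symm, fun i hi => ?_⟩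
  by_cases hib : b < i
  · exact ModuleCat.subsingleton_of_isZero (DerivedCategory.isZero_of_isLE T.obj₂ b i hib)
  -- nothing below the top degree
  suffices hz : IsZero T.obj₁ by
    haveI := hl₃ b inferInstance
    refine ModuleCat.subsingleton_of_isZero ((DerivedCategory.HomologySequence.exact₂ _ hT i).isZero_X₂
      (((H i).map_isZero hz).eq_of_src _ _) ((DerivedCategory.isZero_of_isGE T.obj₃ b i (by omega)).eq_of_tgt _ _))
  by_contra hnz
  obtain ⟨d, hd, hdmax⟩ := Int.exists_greatest_of_bdd (P := fun m => ¬ Subsingleton (Dual.HD A T.obj₁ m))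
    ⟨b - 1, fun m hm => not_lt.1 fun h => hm (ModuleCat.subsingleton_of_isZero (DerivedCategory.isZero_of_isLE T.obj₁ (b - 1) m h))⟩
    (by
      by_contra hh
      push_neg at hh
      haveI : T.obj₁.IsLE (a - 1) := (DerivedCategory.isLE_iff _ _).2 fun m _ => @ModuleCat.isZero_of_subsingleton _ _ _ (hh m)
      haveI := hg₁ a inferInstance
      exact hnz ((IsZero.iff_id_eq_zero _).2 (t.zero (𝟙 T.obj₁) (a - 1) a (by omega))))
  haveI : T.obj₁.IsLE d := (DerivedCategory.isLE_iff _ _).2 fun m hm =>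
    @ModuleCat.isZero_of_subsingleton _ _ _ (by_contra fun h => absurd (hdmax m h) (not_le.2 hm))
  have hdb : d < b := by
    by_contra hc
    exact hd (ModuleCat.subsingleton_of_isZero (DerivedCategory.isZero_of_isLE T.obj₁ (b - 1) d (by omega)))
  obtain ⟨T', hT', hT'2, h₁', h₃', -, hf₃', -, hl₃'⟩ := exists_trunc_finite hf₁ (d - 1)
  haveI := h₁'
  haveI : T'.obj₃.IsGE d := by rw [sub_add_cancel] at h₃'; exact h₃'
  haveI := hl₃' d inferInstance
  obtain ⟨u'⟩ := H9Misc.nonempty_iso_single_homology d T'.obj₃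
  let Q' := (H d).obj T'.obj₃
  haveI : Module.Finite A Q' := hf₃' d
  let v' : T'.obj₃ ≅ (Dual.inD A Q')⟦-d⟧ := u' ≪≫
    (((DerivedCategory.singleFunctors (ModuleCat.{u} A)).shiftIso (-d) d 0 (by omega)).app Q').symm
  haveI : Subsingleton (T.obj₂ ⟶ (Dual.inD A Q')⟦-d⟧) := hmod Q' (-d) (by omega)
  haveI : Subsingleton (T.invRotate.obj₃ ⟶ (Dual.inD A Q')⟦-d⟧) :=
    inferInstanceAs (Subsingleton (T.obj₂ ⟶ (Dual.inD A Q')⟦-d⟧))
  haveI : Subsingleton (T.invRotate.obj₁ ⟶ (Dual.inD A Q')⟦-d⟧) := by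
    change Subsingleton (T.obj₃⟦(-1 : ℤ)⟧ ⟶ (Dual.inD A Q')⟦-d⟧)
    let w : T.obj₃⟦(-1 : ℤ)⟧ ≅ (Dual.inD A Q)⟦-b + -1⟧ :=
      (shiftFunctor (Dual.D A) (-1 : ℤ)).mapIso v ≪≫ ((shiftFunctorAdd (Dual.D A) (-b) (-1)).app _).symm
    haveI : Subsingleton ((Dual.inD A Q)⟦-b + -1⟧ ⟶ (Dual.inD A Q')⟦-d⟧) := by
      obtain ⟨e⟩ := exists_shiftHomLEquiv (Dual.inD A Q) ((Dual.inD A Q')⟦-d⟧) (b + 1)
      haveI : Projective (ModuleCat.of A Q) :=
        (IsProjective.iff_projective (R := A) Q).1 (Module.Projective.of_free)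
      have hsub : Subsingleton (Dual.inD A Q ⟶ ((Dual.inD A Q')⟦-d⟧)⟦b + 1⟧) := by
        haveI : Subsingleton (Dual.inD A Q ⟶ (Dual.inD A Q')⟦-d + (b + 1)⟧) := by
          obtain ⟨m, hm⟩ := Int.eq_ofNat_of_zero_le (show (0 : ℤ) ≤ -d + b by omega)
          rw [show -d + (b + 1) = ((m + 1 : ℕ) : ℤ) by omega]
          haveI := Abelian.Ext.subsingleton_of_projective (ModuleCat.of A Q) (ModuleCat.of A Q') m
          exact (Abelian.Ext.homEquiv (X := ModuleCat.of A Q) (Y := ModuleCat.of A Q') (n := m + 1)).symm.injective.subsingleton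
        exact ((Iso.refl _).homCongr ((shiftFunctorAdd (Dual.D A) (-d) (b + 1)).app (Dual.inD A Q'))).symm.injective.subsingleton
      haveI := e.symm.injective.subsingleton
      rwa [show -b + -1 = -(b + 1) by omega]
    exact w.homFromEquiv.injective.subsingleton
  let γ : T.obj₁ ⟶ (Dual.inD A Q')⟦-d⟧ := eqToHom hT'2.symm ≫ T'.mor₂ ≫ v'.hom
  obtain ⟨δ, hδ⟩ := Triangle.yoneda_exact₂ _ (inv_rot_of_distTriang _ hT) γ (Subsingleton.elim _ _)
  have hγ : γ = 0 := by rw [hδ, Subsingleton.elim δ 0]; exact comp_zero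
  haveI hepi' : Epi ((H d).map T'.mor₂) :=
    (DerivedCategory.HomologySequence.epi_homologyMap_mor₂_iff _ hT' d (d + 1) rfl).2
      ((DerivedCategory.isZero_of_isLE T'.obj₁ (d - 1) (d + 1) (by omega)).eq_of_tgt _ _)
  haveI hmono' : Mono ((H d).map T'.mor₂) :=
    (DerivedCategory.HomologySequence.mono_homologyMap_mor₂_iff _ hT' d).2
      ((DerivedCategory.isZero_of_isLE T'.obj₁ (d - 1) d (by omega)).eq_of_src _ _)
  haveI := isIso_of_mono_of_epi ((H d).map T'.mor₂)
  have h0 : T'.mor₂ = 0 := (cancel_epi (eqToHom hT'2.symm)).1 ((cancel_mono v'.hom).1 (by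
    rw [Category.assoc, comp_zero, zero_comp]; exact hγ))
  have hz : IsZero ((H d).obj T'.obj₂) := (IsZero.iff_id_eq_zero _).2 ((cancel_mono ((H d).map T'.mor₂)).1 (by
    rw [h0, Functor.map_zero, comp_zero, comp_zero]))
  exact hd (by rw [← hT'2]; exact ModuleCat.subsingleton_of_isZero hz)

end Groth.Agent.RGammaI.InvLocal
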