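import Groth.Agent.RGammaI.Functor

/-! The duality pairing between `H^0 RΓ_I` and maps into a fixed object. -/

set_option linter.style.haveILetI false
set_option maxHeartbeats 1000000

universe u

open CategoryTheory CategoryTheory.Category CategoryTheory.Limits CategoryTheory.Pretriangulated

attribute [local instance] HasDerivedCategory.standard
attribute [local instance] Groth.Agent.H9Misc.DRingHomCx.qh_isLeftAdjoint

namespace Groth.Agent.RGammaI

section Baer

/-- Factorisation of a functional through a linear map. -/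
lemma exists_factor {A : Type u} [CommRing A] {E : Type u} [AddCommGroup E] [Module A E] (hE : Module.Baer A E)
    {U V : Type (u + 1)} [AddCommGroup U] [Module A U] [AddCommGroup V] [Module A V]
    (p : U →ₗ[A] V) (ν : U →ₗ[A] E) (h : ∀ x, p x = 0 → ν x = 0) :
    ∃ μ : V →ₗ[A] E, ∀ x, μ (p x) = ν x := by
  let q : (U ⧸ LinearMap.ker p) →ₗ[A] V := (LinearMap.ker p).liftQ p le_rfl
  have hq : Function.Injective q :=
    LinearMap.ker_eq_bot.1 (Submodule.ker_liftQ_eq_bot _ _ _ le_rfl)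
  obtain ⟨μ, hμ⟩ := hE.extension_property q hq ((LinearMap.ker p).liftQ ν fun x hx => h x hx)
  exact ⟨μ, fun x => LinearMap.congr_fun hμ (Submodule.Quotient.mk x)⟩

end Baer

variable {A : Type u} [CommRing A]

/-- Maps out of a shift are maps into the inverse shift. -/
noncomputable def shiftHomEquiv (K L : Dual.D A) (n m : ℤ) (h : n + m = 0) :
    (K⟦n⟧ ⟶ L) ≃ₗ[A] (K ⟶ L⟦m⟧) :=
  LinearEquiv.ofBijective
    ({ toFun := fun φ => (shiftFunctorCompIsoId (Dual.D A) n m h).inv.app K ≫ φ⟦m⟧'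
       map_add' := fun φ ψ => by rw [Functor.map_add, Preadditive.comp_add]
       map_smul' := fun r φ => by rw [Functor.map_smul, Linear.comp_smul]; rfl } :
      (K⟦n⟧ ⟶ L) →ₗ[A] (K ⟶ L⟦m⟧))
    ⟨fun φ ψ hφ => (shiftFunctor (Dual.D A) m).map_injective
        ((cancel_epi ((shiftFunctorCompIsoId (Dual.D A) n m h).inv.app K)).1 hφ),
      fun χ => by
        obtain ⟨φ, hφ⟩ := (shiftFunctor (Dual.D A) m).map_surjective
          ((shiftFunctorCompIsoId (Dual.D A) n m h).hom.app K ≫ χ)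
        exact ⟨φ, by
          change (shiftFunctorCompIsoId (Dual.D A) n m h).inv.app K ≫ φ⟦m⟧' = χ
          rw [hφ, Iso.inv_hom_id_app_assoc]⟩⟩

variable (I : Ideal A) {ω : Dual.D A} {E : Type u} [AddCommGroup E] [Module A E]
  (e : ↑((F I).obj ω) →ₗ[A] E)

/-- The pairing. -/
noncomputable def pair (K : Dual.D A) : ↑((F I).obj K) →ₗ[A] ((K ⟶ ω) →ₗ[A] E) :=
  LinearMap.mk₂ A (fun x φ => e (((F I).map φ).hom x))
    (fun x y φ => by rw [map_add, map_add])
    (fun r x φ => by rw [map_smul, map_smul])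
    (fun x φ ψ => by rw [Functor.map_add, ModuleCat.hom_add, LinearMap.add_apply, map_add])
    (fun r x φ => by rw [Functor.map_smul, ModuleCat.hom_smul, LinearMap.smul_apply, map_smul])

@[simp] lemma pair_apply (K : Dual.D A) (x : ↑((F I).obj K)) (φ : K ⟶ ω) :
    pair I e K x φ = e (((F I).map φ).hom x) := rfl

lemma pair_map {K L : Dual.D A} (u : K ⟶ L) (x : ↑((F I).obj K)) (φ : L ⟶ ω) :
    pair I e L (((F I).map u).hom x) φ = pair I e K x (u ≫ φ) := by
  rw [pair_apply, pair_apply, Functor.map_comp, ModuleCat.hom_comp, LinearMap.comp_apply]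

/-- `K` satisfies duality. -/
def Dualizes (K : Dual.D A) : Prop := Function.Bijective (pair I e K)

/-- All shifts of `K` satisfy duality. -/
def Good (K : Dual.D A) : Prop := ∀ n : ℤ, Dualizes I e (K⟦n⟧)

variable {I e}

lemma Dualizes.of_iso {K L : Dual.D A} (u : K ≅ L) (h : Dualizes I e K) : Dualizes I e L := by
  refine ⟨fun x y hxy => ?_, fun ν => ?_⟩
  · have hK : ((F I).map u.inv).hom x = ((F I).map u.inv).hom y := h.1 (LinearMap.ext fun φ => by
      rw [pair_map, pair_map]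
      exact LinearMap.congr_fun hxy _)
    simpa [← LinearMap.comp_apply, ← ModuleCat.hom_comp, ← Functor.map_comp] using
      congrArg ((F I).map u.hom).hom hK
  · obtain ⟨x, hx⟩ := h.2 (ν ∘ₗ Linear.leftComp A ω u.inv)
    refine ⟨((F I).map u.hom).hom x, LinearMap.ext fun φ => ?_⟩
    rw [pair_map, hx]
    simp

lemma dualizes_of_zero {K : Dual.D A} (h₁ : IsZero ((F I).obj K)) (h₂ : Subsingleton (K ⟶ ω)) :
    Dualizes I e K := by
  haveI := ModuleCat.subsingleton_of_isZero h₁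
  refine ⟨fun x y _ => Subsingleton.elim x y, fun ν => ⟨0, LinearMap.ext fun φ => ?_⟩⟩
  rw [Subsingleton.elim φ 0, map_zero, map_zero]

lemma F_exact₂ {T : Triangle (Dual.D A)} (hT : T ∈ distTriang _) {x : ↑((F I).obj T.obj₂)}
    (hx : ((F I).map T.mor₂).hom x = 0) : ∃ y, ((F I).map T.mor₁).hom y = x :=
  (ShortComplex.moduleCat_exact_iff _).1 ((F I).map_distinguished_exact T hT) x hx

/-- The five lemma for the pairing. -/
theorem Dualizes.middle (hE : Module.Baer A E) {T : Triangle (Dual.D A)} (hT : T ∈ distTriang _)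
    (h₀ : Dualizes I e (T.obj₃⟦(-1 : ℤ)⟧)) (h₁ : Dualizes I e T.obj₁) (h₃ : Dualizes I e T.obj₃)
    (h₄ : Dualizes I e (T.obj₁⟦(1 : ℤ)⟧)) : Dualizes I e T.obj₂ := by
  refine ⟨(injective_iff_map_eq_zero _).2 fun x hx => ?_, fun lam => ?_⟩
  · have hb : ((F I).map T.mor₂).hom x = 0 := h₃.1 (LinearMap.ext fun φ => by
      rw [pair_map, hx, map_zero, LinearMap.zero_apply, LinearMap.zero_apply])
    obtain ⟨y, rfl⟩ := F_exact₂ hT hb
    have hT' := inv_rot_of_distTriang T hT
    obtain ⟨μ, hμ⟩ := exists_factor hE (Linear.leftComp A ω T.invRotate.mor₁) (pair I e T.obj₁ y) fun φ hφ => by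
      obtain ⟨ψ, rfl⟩ := Triangle.yoneda_exact₂ T.invRotate hT' φ hφ
      change pair I e T.obj₁ y (T.mor₁ ≫ ψ) = 0
      rw [← pair_map, hx, LinearMap.zero_apply]
    obtain ⟨z, hz⟩ := h₀.2 μ
    have hy : ((F I).map T.invRotate.mor₁).hom z = y := h₁.1 (LinearMap.ext fun φ => by
      refine (pair_map I e _ z φ).trans ?_
      exact (LinearMap.congr_fun hz _).trans (hμ φ))
    rw [← hy]
    have h0 : T.invRotate.mor₁ ≫ T.mor₁ = 0 := comp_distTriang_mor_zero₁₂ _ hT'
    change ((F I).map T.invRotate.mor₁ ≫ (F I).map T.mor₁).hom z = 0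
    erw [← Functor.map_comp, h0, Functor.map_zero]
    rfl
  · obtain ⟨z, hz⟩ := h₃.2 (lam ∘ₗ Linear.leftComp A ω T.mor₂)
    have hc : ((F I).map T.mor₃).hom z = 0 := h₄.1 (LinearMap.ext fun χ => by
      rw [pair_map, hz, map_zero, LinearMap.zero_apply]
      change lam (T.mor₂ ≫ T.mor₃ ≫ χ) = 0
      rw [← Category.assoc, comp_distTriang_mor_zero₂₃ _ hT, zero_comp, map_zero])
    obtain ⟨(x : ↑((F I).obj T.obj₂)), hx⟩ := F_exact₂ (rot_of_distTriang T hT) (x := z) hc
    obtain ⟨μ, hμ⟩ := exists_factor hE (Linear.leftComp A ω T.mor₁) (lam - pair I e T.obj₂ x) fun φ hφ => by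
      obtain ⟨ψ, rfl⟩ := Triangle.yoneda_exact₂ T hT φ hφ
      rw [LinearMap.sub_apply, ← pair_map, sub_eq_zero]
      exact ((LinearMap.congr_fun hz ψ).symm).trans (congrArg (pair I e T.obj₃ · ψ) hx.symm)
    obtain ⟨y, hy⟩ := h₁.2 μ
    refine ⟨x + ((F I).map T.mor₁).hom y, LinearMap.ext fun φ => ?_⟩
    rw [map_add, LinearMap.add_apply, pair_map, hy]
    exact (congrArg _ (hμ φ)).trans (by simp)

lemma Good.dualizes {K : Dual.D A} (h : Good I e K) : Dualizes I e K :=
  (h 0).of_iso ((shiftFunctorZero (Dual.D A) ℤ).app K)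

lemma Good.of_iso {K L : Dual.D A} (u : K ≅ L) (h : Good I e K) : Good I e L := fun n =>
  (h n).of_iso ((shiftFunctor (Dual.D A) n).mapIso u)

lemma Good.shift {K : Dual.D A} (h : Good I e K) (m : ℤ) : Good I e (K⟦m⟧) := fun n =>
  (h (m + n)).of_iso ((shiftFunctorAdd' (Dual.D A) m n (m + n) rfl).app K)

lemma Good.middle (hE : Module.Baer A E) {T : Triangle (Dual.D A)} (hT : T ∈ distTriang _)
    (h₁ : Good I e T.obj₁) (h₃ : Good I e T.obj₃) : Good I e T.obj₂ := fun n =>
  Dualizes.middle hE (Triangle.shift_distinguished T hT n) (h₃.shift n (-1)) (h₁ n) (h₃ n) (h₁.shift n 1)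

/-- A functional on a finite module with values in a torsion module is torsion. -/
lemma exists_pow_smul_eq_zero {M : Type*} [AddCommGroup M] [Module A M] [Module.Finite A M]
    (hEt : LocCoh.IsPowerTorsion I E) {r : A} (hr : r ∈ I) (lam : M →ₗ[A] E) : ∃ j : ℕ, r ^ j • lam = 0 := by
  classical
  obtain ⟨s, hs⟩ := Module.Finite.fg_top (R := A) (M := M)
  choose k hk using fun φ : M => hEt (lam φ)
  refine ⟨s.sup k, LinearMap.ext_on hs fun φ hφ => ?_⟩
  rw [LinearMap.smul_apply, LinearMap.zero_apply]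
  obtain ⟨d, hd⟩ := Nat.exists_eq_add_of_le (Finset.le_sup (f := k) hφ)
  rw [hd, pow_add, mul_comm, mul_smul, hk φ _ (Ideal.pow_mem_pow hr _), smul_zero]

/-- The torsion induction step: duality propagates upwards along a triangle of multiplication. -/
theorem Dualizes.step (hE : Module.Baer A E) (hEt : LocCoh.IsPowerTorsion I E) {K Q : Dual.D A}
    {r : A} (hr : r ∈ I) {g : K ⟶ Q} {h : Q ⟶ K⟦(1 : ℤ)⟧}
    (hT : Triangle.mk (r • 𝟙 K) g h ∈ distTriang _)
    (hK : LocCoh.IsPowerTorsion I ↑((F I).obj K)) [Module.Finite A (K ⟶ ω)]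
    (hQ : Dualizes I e Q) (hQ' : Dualizes I e (Q⟦(-1 : ℤ)⟧)) (hK' : Dualizes I e (K⟦(-1 : ℤ)⟧)) :
    Dualizes I e K := by
  let T := Triangle.mk (r • 𝟙 K) g h
  have hT' : T.invRotate ∈ distTriang _ := inv_rot_of_distTriang T hT
  have hT'' := inv_rot_of_distTriang _ hT'
  let d : Q⟦(-1 : ℤ)⟧ ⟶ K := T.invRotate.mor₁
  let g' : K⟦(-1 : ℤ)⟧ ⟶ Q⟦(-1 : ℤ)⟧ := T.invRotate.invRotate.mor₁
  have hgd : g' ≫ d = 0 := comp_distTriang_mor_zero₁₂ _ hT''
  have hrg : r • g = 0 := by
    exact ((congrArg (r • ·) (Category.id_comp g).symm).trans (Linear.smul_comp _ _ _ r (𝟙 K) g).symm).trans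
      (comp_distTriang_mor_zero₁₂ T hT)
  have hFr : ∀ x, ((F I).map (r • 𝟙 K)).hom x = r • x := fun x => by
    rw [Functor.map_smul, CategoryTheory.Functor.map_id]
    rfl
  -- functionals killed by `r`
  have hs₁ : ∀ lam : (K ⟶ ω) →ₗ[A] E, r • lam = 0 → ∃ x, pair I e K x = lam := fun lam hl => by
    obtain ⟨μ, hμ⟩ := exists_factor hE (Linear.leftComp A ω d) lam fun φ hφ => by
      obtain ⟨χ, hχ⟩ := Triangle.yoneda_exact₂ T.invRotate hT' φ hφ
      have h1 := LinearMap.congr_fun hl χ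
      rw [LinearMap.smul_apply, ← map_smul, LinearMap.zero_apply] at h1
      rw [show φ = r • χ from hχ.trans ((Linear.smul_comp _ _ _ r (𝟙 K) χ).trans (congrArg (r • ·) (Category.id_comp _)))]
      exact h1
    obtain ⟨w, hw⟩ := hQ'.2 μ
    exact ⟨((F I).map d).hom w, LinearMap.ext fun φ => by rw [pair_map, hw]; exact hμ φ⟩
  have hi₁ : ∀ x, r • x = 0 → pair I e K x = 0 → x = 0 := fun x hrx hx => by
    obtain ⟨w, hw⟩ := F_exact₂ hT' (x := x) ((hFr x).trans hrx)
    obtain ⟨μ, hμ⟩ := exists_factor hE (Linear.leftComp A ω g') (pair I e _ w) fun φ hφ => by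
      obtain ⟨χ, hχ⟩ := Triangle.yoneda_exact₂ _ hT'' φ hφ
      change pair I e (Q⟦(-1 : ℤ)⟧) w φ = 0
      rw [show φ = d ≫ χ from hχ, ← pair_map]
      exact (congrArg (pair I e K · χ) hw).trans (LinearMap.congr_fun hx χ)
    obtain ⟨v, hv⟩ := hK'.2 μ
    have hwv : ((F I).map g').hom v = w := hQ'.1 (LinearMap.ext fun φ => by
      rw [pair_map, hv]
      exact hμ φ)
    refine hw.symm.trans ?_
    change ((F I).map d).hom w = 0
    rw [← hwv, ← LinearMap.comp_apply, ← ModuleCat.hom_comp, ← Functor.map_comp, hgd, Functor.map_zero]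
    rfl
  refine ⟨(injective_iff_map_eq_zero _).2 fun x hx => ?_, fun lam => ?_⟩
  · obtain ⟨j, hj⟩ := hK x
    replace hj : r ^ j • x = 0 := hj _ (Ideal.pow_mem_pow hr j)
    clear hK
    induction j generalizing x with
    | zero => simpa using hj
    | succ j ih =>
      refine hi₁ x (ih (r • x) ?_ ?_) hx
      · rw [map_smul, hx, smul_zero]
      · rw [← mul_smul, ← pow_succ, hj]
  · obtain ⟨j, hj⟩ := exists_pow_smul_eq_zero hEt hr lam
    induction j generalizing lam with
    | zero => exact ⟨0, by rw [map_zero, ← hj, pow_zero, one_smul]⟩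
    | succ j ih =>
      obtain ⟨y, hy⟩ := ih (r • lam) (by rw [← mul_smul, ← pow_succ, hj])
      have hgy : ((F I).map g).hom y = 0 := hQ.1 (LinearMap.ext fun ψ => by
        rw [pair_map, hy, LinearMap.smul_apply, ← map_smul, ← Linear.smul_comp, hrg, zero_comp, map_zero,
          map_zero, LinearMap.zero_apply])
      obtain ⟨(y' : ↑((F I).obj K)), hy'⟩ := F_exact₂ hT (x := y) hgy
      obtain ⟨z, hz⟩ := hs₁ (lam - pair I e K y') (by
        rw [smul_sub, ← map_smul, ← hFr, ← hy, sub_eq_zero]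
        exact congrArg _ hy'.symm)
      exact ⟨z + y', by rw [map_add, hz, sub_add_cancel]⟩

end Groth.Agent.RGammaI
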