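import Groth.Agent.RGammaI.ShriekFibre
import Groth.Agent.H9Misc.DRingTorLocal
import Groth.Agent.H9Misc.DRingTorDim
import Groth.Agent.H9Misc.DRingProjAmp
import Groth.Agent.H9Misc.DRingPerfect
import Groth.Agent.KFlatLib.Ring.BaseChangePushout
import Groth.Agent.FibDim.RelDim

/-! The amplitude of the relative dualizing complex of a flat algebra. -/

set_option linter.style.haveILetI false
set_option backward.isDefEq.respectTransparency false
set_option maxHeartbeats 1000000

universe u

open CategoryTheory CategoryTheory.Limits MonoidalCategory AlgebraicGeometry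

open scoped TensorProduct

attribute [local instance] HasDerivedCategory.standard

namespace Groth.Agent.RGammaI.ShriekAmp

open Groth.Agent.KFlatLib Groth.Agent.H9Misc Groth.Agent.H9Misc.DRingTor

section Criterion

variable {A : Type u} [CommRing A]

/-- Flatness of a cokernel from exactness against cyclic modules. -/
lemma flat_range_quotient_cyclic {P : CochainComplex (ModuleCat.{u} A) ℤ} (hflat : ∀ n, Module.Flat A (P.X n))
    (p q r : ℤ) (hpq : p + 1 = q) (hqr : q + 1 = r)
    (h : ∀ J : Ideal A, ((DRingLTensor.tensC (ModuleCat.of A (A ⧸ J))).obj P).ExactAt q) :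
    Module.Flat A ((P.X r) ⧸ LinearMap.range (P.d q r).hom) := by
  let C := (P.X r) ⧸ LinearMap.range (P.d q r).hom
  rw [Module.Flat.iff_lTensor_injective']
  intro N
  let N' := A
  let f : N →ₗ[A] N' := N.subtype
  have hf : Function.Injective f := N.injective_subtype
  change Function.Injective (f.lTensor C)
  let π : P.X r →ₗ[A] C := Submodule.mkQ _
  refine (injective_iff_map_eq_zero _).2 fun z hz => ?_
  obtain ⟨x, rfl⟩ := LinearMap.rTensor_surjective N (Submodule.mkQ_surjective _) z
  rw [show f.lTensor C ((π.rTensor N) x) = π.rTensor N' (f.lTensor (P.X r) x) from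
    LinearMap.congr_fun ((LinearMap.lTensor_comp_rTensor (f := π) (g := f)).trans
      (LinearMap.rTensor_comp_lTensor (f := π) (g := f)).symm) x] at hz
  have hex : Function.Exact ((P.d q r).hom.rTensor N') (π.rTensor N') :=
    rTensor_exact N' (LinearMap.exact_map_mkQ_range _) (Submodule.mkQ_surjective _)
  obtain ⟨y, hy⟩ := (hex _).1 hz
  let Q := N' ⧸ LinearMap.range f
  let g : N' →ₗ[A] Q := Submodule.mkQ _
  have hgf : ∀ t, g.lTensor (P.X r) (f.lTensor (P.X r) t) = 0 := fun t => by
    rw [← LinearMap.comp_apply, ← LinearMap.lTensor_comp, show g ∘ₗ f = 0 from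
      LinearMap.ext fun n => (Submodule.Quotient.mk_eq_zero _).2 ⟨n, rfl⟩, LinearMap.lTensor_zero,
      LinearMap.zero_apply]
  have hy' : (P.d q r).hom.rTensor Q (g.lTensor (P.X q) y) = 0 := by
    rw [show (P.d q r).hom.rTensor Q (g.lTensor (P.X q) y) =
      g.lTensor (P.X r) ((P.d q r).hom.rTensor N' y) from
        LinearMap.congr_fun ((LinearMap.rTensor_comp_lTensor (f := (P.d q r).hom) (g := g)).trans
          (LinearMap.lTensor_comp_rTensor (f := (P.d q r).hom) (g := g)).symm) y, hy, hgf]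
  have hexQ : Function.Exact ((P.d p q).hom.rTensor Q) ((P.d q r).hom.rTensor Q) := by
    have h1 := h (LinearMap.range f)
    rw [HomologicalComplex.exactAt_iff' _ p q r (by simp; omega) (by simp; omega)] at h1
    exact (ShortComplex.ShortExact.moduleCat_exact_iff_function_exact _).1 h1
  obtain ⟨w, hw⟩ := (hexQ _).1 hy'
  obtain ⟨v, rfl⟩ := LinearMap.lTensor_surjective (P.X p) (Submodule.mkQ_surjective (LinearMap.range f)) w
  have hv : g.lTensor (P.X q) (y - (P.d p q).hom.rTensor N' v) = 0 := by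
    rw [map_sub, sub_eq_zero, ← hw]
    exact LinearMap.congr_fun ((LinearMap.rTensor_comp_lTensor (f := (P.d p q).hom) (g := g)).trans
      (LinearMap.lTensor_comp_rTensor (f := (P.d p q).hom) (g := g)).symm) v
  obtain ⟨u, hu⟩ := ((lTensor_exact (P.X q) (LinearMap.exact_map_mkQ_range f) (Submodule.mkQ_surjective _)) _).1 hv
  have hdd : (P.d q r).hom.rTensor N' ((P.d p q).hom.rTensor N' v) = 0 := by
    rw [← LinearMap.comp_apply, ← LinearMap.rTensor_comp, ← ModuleCat.hom_comp, P.d_comp_d]
    simp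
  have hx : f.lTensor (P.X r) ((P.d q r).hom.rTensor N u) = f.lTensor (P.X r) x := by
    rw [show f.lTensor (P.X r) ((P.d q r).hom.rTensor N u) = (P.d q r).hom.rTensor N' (f.lTensor (P.X q) u) from
      LinearMap.congr_fun ((LinearMap.lTensor_comp_rTensor (f := (P.d q r).hom) (g := f)).trans
        (LinearMap.rTensor_comp_lTensor (f := (P.d q r).hom) (g := f)).symm) u, hu, map_sub, hdd,
      sub_zero, hy]
  haveI := hflat r
  rw [← Module.Flat.lTensor_preserves_injective_linearMap f hf hx, ← LinearMap.comp_apply,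
    ← LinearMap.rTensor_comp, show π ∘ₗ (P.d q r).hom = 0 from
      LinearMap.ext fun t => (Submodule.Quotient.mk_eq_zero _).2 ⟨t, rfl⟩, LinearMap.rTensor_zero,
    LinearMap.zero_apply]

lemma exactAt_tensC_quotient_iff (J : Ideal A) [DTen.HasLBase (Ideal.Quotient.mk J)]
    {P : CochainComplex (ModuleCat.{u} A) ℤ} (hP : DRingLTensor.IsKF P) {K : Dual.D A}
    (e : DerivedCategory.Q.obj P ≅ K) (i : ℤ) :
    ((DRingLTensor.tensC (ModuleCat.of A (A ⧸ J))).obj P).ExactAt i ↔
      Subsingleton (Dual.HD (A ⧸ J) ((DTen.LBase (Ideal.Quotient.mk J)).obj K) i) := by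
  haveI : DRing.HasLBaseChange (Ideal.Quotient.mk J) := DRingLBase.hasLBaseChange _
  obtain ⟨c⟩ := nonempty_LBaseChange_iso (Ideal.Quotient.mk J)
  obtain ⟨l⟩ := DRingLBase.nonempty_lbase_iso (Ideal.Quotient.mk J) hP
  let ψ := Ideal.Quotient.mk J
  let θ : ModuleCat.of A (A ⧸ J) ≅ DRingTorDescent.resB ψ := (LinearEquiv.ofBijective
    ({ toFun := fun x => x
       map_add' := fun _ _ => rfl
       map_smul' := fun r (x : A ⧸ J) => Algebra.smul_def r x } :
      (A ⧸ J) →ₗ[A] ((ModuleCat.restrictScalars ψ).obj (ModuleCat.of (A ⧸ J) (A ⧸ J)) : Type u))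
    Function.bijective_id).toModuleIso
  let F : tensorRight (ModuleCat.of A (A ⧸ J)) ≅ ModuleCat.extendScalars ψ ⋙ ModuleCat.restrictScalars ψ :=
    (curriedTensor (ModuleCat.{u} A)).flip.mapIso θ ≪≫ DRingTorLocal.extResIso ψ
  let C := (DRingLTensor.extC' ψ).obj P
  let w : (DRingLTensor.tensC (ModuleCat.of A (A ⧸ J))).obj P ≅
      ((ModuleCat.restrictScalars ψ).mapHomologicalComplex (ComplexShape.up ℤ)).obj C :=
    HomologicalComplex.Hom.isoOfComponents (fun n => F.app (P.X n))
      (fun p q _ => (F.hom.naturality (P.d p q)).symm)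
  let g := ((DerivedCategory.homologyFunctor (ModuleCat.{u} (A ⧸ J)) i).mapIso
    ((DTen.LBase ψ).mapIso e.symm ≪≫ (c.app _).symm ≪≫ l) ≪≫
      (DerivedCategory.homologyFunctorFactors (ModuleCat.{u} (A ⧸ J)) i).app C)
  let hh : (((ModuleCat.restrictScalars ψ).mapHomologicalComplex (ComplexShape.up ℤ)).obj C).homology i ≅
      (ModuleCat.restrictScalars ψ).obj (C.homology i) := ShortComplex.mapHomologyIso (C.sc i) (ModuleCat.restrictScalars ψ)
  rw [HomologicalComplex.exactAt_iff_isZero_homology]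
  constructor
  · intro h
    have h1 : IsZero ((ModuleCat.restrictScalars ψ).obj (C.homology i)) :=
      (h.of_iso ((HomologicalComplex.homologyFunctor _ _ i).mapIso w).symm).of_iso hh.symm
    haveI h2 : Subsingleton (C.homology i) := (ModuleCat.subsingleton_of_isZero h1 :
      Subsingleton ((ModuleCat.restrictScalars ψ).obj (C.homology i) : Type u))
    exact @Equiv.subsingleton _ _ g.toLinearEquiv.toEquiv h2
  · intro h
    have h1 : IsZero (C.homology i) :=
      @ModuleCat.isZero_of_subsingleton _ _ _ g.toLinearEquiv.symm.toEquiv.subsingleton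
    exact (((ModuleCat.restrictScalars ψ).map_isZero h1).of_iso hh).of_iso
      ((HomologicalComplex.homologyFunctor _ _ i).mapIso w)

/-- The lower end of the tor amplitude is read off on cyclic modules. -/
theorem hasTorAmplitudeIn_of_quotients {a a' b : ℤ} (hab : a' ≤ b) {K : Dual.D A}
    (hK : DRing.HasTorAmplitudeIn A a b K)
    (h0 : ∀ i, i < a' → Subsingleton (Dual.HD A K i))
    (h : ∀ (J : Ideal A) [DTen.HasLBase (Ideal.Quotient.mk J)] (i : ℤ), i < a' →
      Subsingleton (Dual.HD (A ⧸ J) ((DTen.LBase (Ideal.Quotient.mk J)).obj K) i)) :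
    DRing.HasTorAmplitudeIn A a' b K := by
  obtain ⟨E, hz, hf, ⟨e⟩⟩ := hK
  have hKF : DRingLTensor.IsKF E := isKF_of_flat hf fun i hi => hz i (Or.inr hi)
  haveI hfl : Module.Flat A (E.opcycles a') := by
    haveI := flat_range_quotient_cyclic hf (a' - 1 - 1) (a' - 1) a' (by omega) (by omega) fun J => by
      haveI := hasLBase (Ideal.Quotient.mk J)
      exact (exactAt_tensC_quotient_iff J hKF e _).2 (h J _ (by omega))
    exact Module.Flat.of_linearEquiv (((cokernelIsCokernel (E.d (a' - 1) a')).coconePointUniqueUpToIso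
      (E.opcyclesIsCokernel (a' - 1) a' (by simp))).symm ≪≫
        ModuleCat.cokernelIsoRangeQuotient (E.d (a' - 1) a')).toLinearEquiv
  let emb := ComplexShape.embeddingUpIntGE a'
  haveI : E.IsGE a' := (CochainComplex.isGE_iff E a').2 fun i hi => by
    rw [HomologicalComplex.exactAt_iff_isZero_homology]
    obtain ⟨eH⟩ := hd_iso e i
    haveI := h0 i hi
    exact (@ModuleCat.isZero_of_subsingleton _ _ ((DerivedCategory.homologyFunctor (ModuleCat.{u} A) i).obj K)
      this).of_iso eH.symm
  refine ⟨E.truncGE a', fun i hi => ?_, fun i => ?_,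
    ⟨(asIso (DerivedCategory.Q.map (E.πTruncGE a'))).symm ≪≫ e⟩⟩
  · rcases hi with hi | hi
    · exact CochainComplex.isZero_of_isStrictlyGE _ a' i hi
    · exact (hz i (Or.inr hi)).of_iso (E.truncGEXIso a' i (by omega))
  · rcases lt_trichotomy i a' with hia | rfl | hia
    · haveI := ModuleCat.subsingleton_of_isZero (CochainComplex.isZero_of_isStrictlyGE (E.truncGE a') a' i hia)
      infer_instance
    · exact (Module.Flat.equiv_iff (E.truncGEXIsoOpcycles i).toLinearEquiv).2 hfl
    · exact (Module.Flat.equiv_iff (E.truncGEXIso a' i hia).toLinearEquiv).2 (hf _)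

end Criterion

section Shriek

variable {R A : Type u} [CommRing R] [CommRing A] [IsNoetherianRing R] [Algebra R A] {n : ℕ}
  (ψ : MvPolynomial (Fin n) R →+* A) (hψ : Function.Surjective ψ)
  (hR : ψ.comp MvPolynomial.C = algebraMap R A)
  {Rψ : Dual.D (MvPolynomial (Fin n) R) ⥤ Dual.D A} (a : DRing.restrictD ψ ⊣ Rψ)

include hψ hR a

/-- The relative dualizing complex of a flat algebra lives in degrees at most zero. -/
theorem subsingleton_hd_pos [Module.Flat R A] (i : ℤ) (hi : 0 < i) :
    Subsingleton (Dual.HD A ((Rψ.obj (DTen.unit _))⟦(n : ℤ)⟧) i) := by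
  let P := MvPolynomial (Fin n) R
  letI : Algebra P A := ψ.toAlgebra
  haveI : IsScalarTower R P A := IsScalarTower.of_algebraMap_eq fun r => (RingHom.congr_fun hR r).symm
  haveI : Module.Finite P A := Module.Finite.of_surjective (Algebra.linearMap P A) hψ
  obtain ⟨E, hz, hE, ⟨e⟩⟩ := DRingPerfect.exists_finProj_rep
    ((Groth.Agent.S6942.result P 0 (Dual.inD P A) A).2.2 inferInstance)
    ((DRingTor.torDimLE_iff n (ModuleCat.of P A)).1 (torDimLE_of_flat_base n P AlgEquiv.refl A))
  let eA : ((ModuleCat.restrictScalars ψ).obj (ModuleCat.of A A) : Type u) ≃ₗ[P] A :=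
    LinearEquiv.ofBijective
      ({ toFun := fun x => x
         map_add' := fun _ _ => rfl
         map_smul' := fun p (x : A) => (Algebra.smul_def p x).symm } :
        ((ModuleCat.restrictScalars ψ).obj (ModuleCat.of A A) : Type u) →ₗ[P] A) Function.bijective_id
  let c : Dual.inD P A ≅ (DRing.restrictD ψ).obj (Dual.inD A A) :=
    (DerivedCategory.singleFunctor (ModuleCat.{u} P) 0).mapIso eA.toModuleIso.symm ≪≫
      (DRingRestrict.restrictInDIso ψ (ModuleCat.of A A)).symm
  let j : ℤ := (n : ℤ) + i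
  let uP : DTen.unit P ≅ Dual.inD P P :=
    ((DerivedCategory.singleFunctorIsoCompQ (ModuleCat.{u} P) 0).app (ModuleCat.of P P)).symm
  have hH : Subsingleton ((DRing.restrictD ψ).obj (Dual.inD A A) ⟶ (DTen.unit P)⟦j⟧) := by
    refine DRingProjAmp.hom_subsingleton hz (fun k => (hE k).2) (e ≪≫ c) fun k hk => ?_
    haveI := DRingTel.subsingleton_homology_inD (A := P) P (show j + k ≠ 0 by omega)
    let v : Dual.HD P ((DTen.unit P)⟦j⟧) k ≃ₗ[P] Dual.HD P (Dual.inD P P) (j + k) :=
      ((((DerivedCategory.homologyFunctor (ModuleCat.{u} P) 0).shiftIso j k (j + k) rfl).app _) ≪≫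
        (DerivedCategory.homologyFunctor (ModuleCat.{u} P) (j + k)).mapIso uP).toLinearEquiv
    exact v.toEquiv.subsingleton
  let W₀ := Rψ.obj (DTen.unit P)
  obtain ⟨e₁⟩ := exists_homRingLEquiv W₀ j
  obtain ⟨e₂, -, -⟩ := exists_shriekHomEquiv ψ Rψ a (Dual.inD A A) (DTen.unit P) j
  haveI := e₂.subsingleton
  haveI : Subsingleton (Dual.HD A W₀ j) := e₁.symm.toEquiv.subsingleton
  let g₀ : Dual.HD A (W₀⟦(n : ℤ)⟧) i ≃ₗ[A] Dual.HD A W₀ j :=
    (((DerivedCategory.homologyFunctor (ModuleCat.{u} A) 0).shiftIso (n : ℤ) i j rfl).app W₀).toLinearEquiv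
  exact g₀.toEquiv.subsingleton

/-- No cohomology below minus a bound of all fibre dimensions. -/
theorem subsingleton_hd_neg (d : ℕ) (hd : ∀ q : PrimeSpectrum A,
      FlatMor.fibreDimAt (Spec.map (CommRingCat.ofHom (algebraMap R A))) q ≤ (d : WithBot ℕ∞))
    (i : ℤ) (hi : i < -(d : ℤ)) : Subsingleton (Dual.HD A ((Rψ.obj (DTen.unit _))⟦(n : ℤ)⟧) i) :=
  Module.subsingleton_of_localization_maximal _
    (fun P _ => LocalizedModule.mkLinearMap P.primeCompl _) fun P hP =>
      ShriekFibre.subsingleton_localized_hd ψ hψ hR a ⟨P, hP.isPrime⟩ d (hd _) i hi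

/-- The tor amplitude of the relative dualizing complex over the base. -/
theorem hasTorAmplitudeIn_shriek [Module.Flat R A] (d : ℕ) (hd : ∀ q : PrimeSpectrum A,
      FlatMor.fibreDimAt (Spec.map (CommRingCat.ofHom (algebraMap R A))) q ≤ (d : WithBot ℕ∞)) :
    DRing.HasTorAmplitudeIn R (-(d : ℤ)) 0
      ((DRing.restrictD (algebraMap R A)).obj ((Rψ.obj (DTen.unit _))⟦(n : ℤ)⟧)) := by
  let W := (Rψ.obj (DTen.unit _))⟦(n : ℤ)⟧
  obtain ⟨p, q, hamp⟩ := hasFiniteTorDimCx_shriek_unit ψ hψ hR a
  have hres : ∀ i, Subsingleton (Dual.HD A W i) →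
      Subsingleton (Dual.HD R ((DRing.restrictD (algebraMap R A)).obj W) i) := fun i h => by
    haveI : Subsingleton ((ModuleCat.restrictScalars (algebraMap R A)).obj
        ((DerivedCategory.homologyFunctor (ModuleCat.{u} A) i).obj W) : Type u) := h
    exact (DRingRestrict.HDRestrictIso (algebraMap R A) W i).toLinearEquiv.toEquiv.subsingleton
  refine hasTorAmplitudeIn_of_quotients (by omega) (DRingTor.shrink hamp fun i hi => ?_)
    (fun i hi => hres i (subsingleton_hd_neg ψ hψ hR a d hd i hi)) fun J _ i hi => ?_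
  · exact @ModuleCat.isZero_of_subsingleton _ _ _ (hres i (subsingleton_hd_pos ψ hψ hR a i hi))
  let R' := R ⧸ J
  let A' := R' ⊗[R] A
  let P := MvPolynomial (Fin n) R
  let P' := MvPolynomial (Fin n) R'
  let ρ : R →+* R' := algebraMap R R'
  let α : A →+* A' := incRight R R' A
  haveI := hasLBase α
  haveI : DTen.HasLBase ρ := ‹DTen.HasLBase (Ideal.Quotient.mk J)›
  haveI := hasLBase (algebraMap R P)
  haveI := hasLBase (algebraMap R' P')
  letI : Algebra A A' := α.toAlgebra
  haveI : IsScalarTower R A A' := IsScalarTower.of_algebraMap_eq fun r =>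
    ((Algebra.TensorProduct.includeRight : A →ₐ[R] A').commutes r).symm
  haveI : Algebra.IsPushout R R' A A' := TensorProduct.isPushout
  have h : α.comp (algebraMap R A) = (algebraMap R' A').comp ρ := RingHom.ext fun r =>
    ((Algebra.TensorProduct.includeRight : A →ₐ[R] A').commutes r).trans (IsScalarTower.algebraMap_apply R R' A' r)
  haveI := isIso_sqMod h rfl rfl rfl rfl (ModuleCat.of A A)
  haveI := isIso_cmpBC h (fun k => isIso_baseCmp_single_of_flat_left (algebraMap R A) ρ
    (RingHom.flat_algebraMap_iff.2 inferInstance) k) W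
  obtain ⟨R'', ⟨a''⟩⟩ := exists_shriek (presBC R' ψ)
  obtain ⟨t⟩ := nonempty_shriek_baseChange_of_flat_left ψ hψ hR (algebraMap R P) rfl a (presBC R' ψ)
    (surjective_presBC ψ hψ hR) (presBC_C ψ) (algebraMap R' P') rfl a'' (DTen.unit R)
  obtain ⟨u₁⟩ := nonempty_LBase_unit (algebraMap R P)
  obtain ⟨u₂⟩ := nonempty_LBase_unit ρ
  obtain ⟨u₃⟩ := nonempty_LBase_unit (algebraMap R' P')
  let W' := (R''.obj (DTen.unit P'))⟦(n : ℤ)⟧
  let ω : (DTen.LBase α).obj W ≅ W' :=
    (DTen.LBase _).mapIso ((shiftFunctor _ (n : ℤ)).mapIso (Rψ.mapIso u₁.symm)) ≪≫ t ≪≫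
      (shiftFunctor _ (n : ℤ)).mapIso (R''.mapIso ((DTen.LBase _).mapIso u₂ ≪≫ u₃))
  haveI : Algebra.FiniteType R A := Algebra.FiniteType.of_surjective
    ({ ψ with commutes' := fun r => RingHom.congr_fun hR r } : P →ₐ[R] A) hψ
  haveI : LocallyOfFiniteType (Spec.map (CommRingCat.ofHom (algebraMap R A))) :=
    HasRingHomProperty.Spec_iff.2 (RingHom.finiteType_algebraMap.2 inferInstance)
  haveI : LocallyOfFiniteType (Spec.map (CommRingCat.ofHom (algebraMap R' A'))) :=
    HasRingHomProperty.Spec_iff.2 (RingHom.finiteType_algebraMap.2 inferInstance)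
  have sq := (isPullback_SpecMap_of_isPushout _ _ _ _ (CommRingCat.isPushout_tensorProduct R R' A)).flip
  have hd' : ∀ x : PrimeSpectrum A',
      FlatMor.fibreDimAt (Spec.map (CommRingCat.ofHom (algebraMap R' A'))) x ≤ (d : WithBot ℕ∞) := fun x =>
    (FibDim.fibreDimAt_baseChange sq x).le.trans (hd _)
  have h1 : Subsingleton (Dual.HD A' W' i) :=
    subsingleton_hd_neg (presBC R' ψ) (surjective_presBC ψ hψ hR) (presBC_C ψ) a'' d hd' i hi
  haveI h2 : Subsingleton (Dual.HD A' ((DTen.LBase α).obj W) i) := subsingleton_hd_of_iso ω.symm i h1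
  haveI : Subsingleton ((ModuleCat.restrictScalars (algebraMap R' A')).obj
      ((DerivedCategory.homologyFunctor (ModuleCat.{u} A') i).obj ((DTen.LBase α).obj W)) : Type u) := h2
  exact subsingleton_hd_of_iso (asIso (cmpBC h W)).symm i
    (DRingRestrict.HDRestrictIso (algebraMap R' A') ((DTen.LBase α).obj W) i).toLinearEquiv.toEquiv.subsingleton

end Shriek

end Groth.Agent.RGammaI.ShriekAmp
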