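import Groth.Agent.KFlatLib.Ring.RelDualizing
import Groth.Agent.KFlatLib.Ring.DualizingFibre
import Groth.Agent.Codepth5.Poly
import Groth.Agent.FlatLoc6.RegCM
import Groth.Agent.LC.DepthLoc
import Groth.Agent.LC.GorLoc

/-! Cohomology of the relative dualizing complex below minus the fibre dimension. -/

set_option linter.style.haveILetI false
set_option backward.isDefEq.respectTransparency false
set_option maxHeartbeats 1000000

universe u

open CategoryTheory CategoryTheory.Limits TensorProduct AlgebraicGeometry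

attribute [local instance] HasDerivedCategory.standard

namespace Groth.Agent.RGammaI.ShriekFibre

open Groth.Agent.KFlatLib
open FibDim (fib)

variable {R A : Type u} [CommRing R] [CommRing A] [IsNoetherianRing R] [Algebra R A] {n : ℕ}
  (ψ : MvPolynomial (Fin n) R →+* A) (hψ : Function.Surjective ψ)
  (hR : ψ.comp MvPolynomial.C = algebraMap R A)

/-- The depth of affine space along a closed subscheme with small fibres. -/
theorem le_depth (hψ : Function.Surjective ψ) (hR : ψ.comp MvPolynomial.C = algebraMap R A)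
    (q : PrimeSpectrum A) (d : ℕ)
    (hd : FlatMor.fibreDimAt (Spec.map (CommRingCat.ofHom (algebraMap R A))) q ≤ (d : WithBot ℕ∞))
    (Q' : PrimeSpectrum (MvPolynomial (Fin n) R)) (hI : RingHom.ker ψ ≤ Q'.asIdeal)
    (hle : Q'.asIdeal ≤ q.asIdeal.comap ψ) :
    ((n - d : ℕ) : ℕ∞) ≤ LocCoh.depth (Localization.AtPrime Q'.asIdeal) (Localization.AtPrime Q'.asIdeal) := by
  let P := MvPolynomial (Fin n) R
  let ι := PrimeSpectrum.comap ψ
  have hι : Topology.IsClosedEmbedding ι := PrimeSpectrum.isClosedEmbedding_comap_of_surjective _ _ hψ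
  obtain ⟨q', rfl⟩ : Q' ∈ Set.range ι := by
    rw [_root_.range_comap_of_surjective _ _ hψ]
    exact hI
  have hleι : ∀ a b, ι a ≤ ι b ↔ a ≤ b := fun a b => by
    rw [PrimeSpectrum.le_iff_specializes, PrimeSpectrum.le_iff_specializes]
    exact hι.isInducing.specializes_iff
  haveI : Algebra.FiniteType R A := Algebra.FiniteType.of_surjective
    ({ ψ with commutes' := fun r => RingHom.congr_fun hR r } : P →ₐ[R] A) hψ
  haveI : LocallyOfFiniteType (Spec.map (CommRingCat.ofHom (algebraMap R A))) :=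
    HasRingHomProperty.Spec_iff.2 (RingHom.finiteType_algebraMap.2 inferInstance)
  have hd' : FlatMor.fibreDimAt (Spec.map (CommRingCat.ofHom (algebraMap R A))) q' ≤ (d : WithBot ℕ∞) :=
    Specializes.mem_open (s := {x : ↥(Spec (CommRingCat.of A)) |
        FlatMor.fibreDimAt (Spec.map (CommRingCat.ofHom (algebraMap R A))) x ≤ (d : WithBot ℕ∞)})
      ((PrimeSpectrum.le_iff_specializes q' q).1 ((hleι q' q).1 hle))
      (FibDim.isOpen_fibreDimAt_le _ d) hd
  rw [Codepth5.fibreDimAt_le_iff_coheight] at hd'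
  have hc := hd' ⟨q', rfl⟩ le_rfl
  have hy : ∀ t : PrimeSpectrum A, PrimeSpectrum.comap (algebraMap R P) (ι t) =
      PrimeSpectrum.comap (algebraMap R A) t := fun t => by
    rw [← PrimeSpectrum.comap_comp_apply, MvPolynomial.algebraMap_eq, hR]
  let κ : ↥(fib (B := A) (PrimeSpectrum.comap (algebraMap R A) q')) →
      ↥(fib (B := P) (PrimeSpectrum.comap (algebraMap R P) (ι q'))) := fun t =>
    ⟨ι t.1, ((hy t.1).trans t.2).trans (hy q').symm⟩
  have hκ : StrictMono κ := fun a b hab =>
    lt_of_le_not_ge ((hleι _ _).2 hab.le) fun h => hab.not_ge ((hleι _ _).1 h)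
  have hco : Order.coheight (⟨q', rfl⟩ : ↥(fib (B := A) (PrimeSpectrum.comap (algebraMap R A) q'))) =
      Order.coheight (κ ⟨q', rfl⟩) :=
    Order.coheight_eq_of_strictMono κ hκ (fun a b hb => by
      obtain ⟨u, hu⟩ : b.1 ∈ Set.range ι := by
        rw [_root_.range_comap_of_surjective _ _ hψ]
        exact fun x hx => hb.le (by show ψ x ∈ a.1.asIdeal; rw [RingHom.mem_ker.1 hx]; exact zero_mem _)
      let b' : ↥(fib (B := A) (PrimeSpectrum.comap (algebraMap R A) q')) :=
        ⟨u, ((hy u).symm.trans ((congrArg _ hu).trans b.2)).trans (hy q')⟩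
      have hb' : κ b' = b := Subtype.ext hu
      rw [← hb'] at hb ⊢
      exact ⟨b', lt_of_le_not_ge ((hleι _ _).1 hb.le) fun h => hb.not_ge ((hleι _ _).2 h), rfl⟩) _
  have hsum := Codepth5.height_add_coheight_fib _ (κ ⟨q', rfl⟩)
  rw [← hco] at hsum
  let y := PrimeSpectrum.comap (algebraMap R P) (ι q')
  let e : ↥(fib (B := P) y) ≃o PrimeSpectrum (y.asIdeal.Fiber P) := PrimeSpectrum.preimageOrderIsoFiber R P y
  let Qb := e ⟨ι q', rfl⟩
  have hQ : Qb.asIdeal.comap Algebra.TensorProduct.includeRight = (ι q').asIdeal :=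
    congrArg (fun z => z.1.asIdeal) (e.symm_apply_apply ⟨ι q', rfl⟩)
  haveI : IsRegularRing (y.asIdeal.Fiber P) := IsRegularRing.of_ringEquiv
    (MvPolynomial.algebraTensorAlgEquiv R y.asIdeal.ResidueField).toRingEquiv.symm
  haveI := FlatLoc6.isCM_of_isRegularRing (y.asIdeal.Fiber P)
  have h1 := (FlatLoc6.fib_of_fiber_prime y.asIdeal Qb.asIdeal (ι q').asIdeal hQ).1
  rw [FlatLoc6.fib_eq_of_fiber_isCM y.asIdeal (ι q').asIdeal rfl, WithBot.coe_inj,
    PrimeSpectrum.height_eq_orderHeight, Order.height_orderIso] at h1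
  have hk : ((n - d : ℕ) : ℕ∞) ≤ Order.height (κ ⟨q', rfl⟩) := by
    generalize Order.height (κ ⟨q', rfl⟩) = h at hsum ⊢
    generalize Order.coheight (⟨q', rfl⟩ : ↥(fib (B := A) (PrimeSpectrum.comap (algebraMap R A) q'))) = c at hsum hc
    induction h using ENat.recTopCoe with
    | top => exact le_top
    | coe h =>
      induction c using ENat.recTopCoe with
      | top => simp at hsum
      | coe c =>
        have h3 : h + c = n := by exact_mod_cast hsum
        have h4 : c ≤ d := by exact_mod_cast hc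
        exact_mod_cast (show n - d ≤ h by omega)
  have hf := (FlatLoc6.formulas_atPrime (A := R) P R y.asIdeal (ι q').asIdeal rfl
    (Module.mem_support_iff'.2 ⟨1, fun r hr h0 => hr (by
      rw [smul_eq_mul, mul_one] at h0; rw [h0]; exact (ι q').asIdeal.zero_mem)⟩)
    (Module.mem_support_iff'.2 ⟨1, fun r hr h0 => hr (by
      rw [smul_eq_mul, mul_one] at h0; rw [h0]; exact y.asIdeal.zero_mem)⟩)).1
  let eP : LocalizedModule (ι q').asIdeal.primeCompl (P ⊗[R] R) ≃ₗ[Localization.AtPrime (ι q').asIdeal]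
      LocalizedModule (ι q').asIdeal.primeCompl P :=
    IsLocalizedModule.mapEquiv (ι q').asIdeal.primeCompl (LocalizedModule.mkLinearMap _ _)
      (LocalizedModule.mkLinearMap _ _) (Localization.AtPrime (ι q').asIdeal) (AlgebraTensorModule.rid R P P)
  rw [FlatLoc6.depth_congr' eP, FlatLoc6.depth_congr' (LC.selfLoc (ι q').asIdeal.primeCompl), h1] at hf
  exact (hk.trans le_add_self).trans hf.symm.le

variable {Rψ : Dual.D (MvPolynomial (Fin n) R) ⥤ Dual.D A} (a : DRing.restrictD ψ ⊣ Rψ)

include hψ hR a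

/-- The relative dualizing complex has no cohomology below minus the fibre dimension. -/
theorem subsingleton_localized_hd (q : PrimeSpectrum A) (d : ℕ)
    (hd : FlatMor.fibreDimAt (Spec.map (CommRingCat.ofHom (algebraMap R A))) q ≤ (d : WithBot ℕ∞))
    (i : ℤ) (hi : i < -(d : ℤ)) :
    Subsingleton (LocalizedModule q.asIdeal.primeCompl (Dual.HD A ((Rψ.obj (DTen.unit _))⟦(n : ℤ)⟧) i)) := by
  let P := MvPolynomial (Fin n) R
  let Q := q.asIdeal.comap ψ
  let B := Localization.AtPrime Q
  let I := RingHom.ker ψ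
  let j : ℤ := (n : ℤ) + i
  haveI : Module.Flat P B := IsLocalization.flat _ Q.primeCompl
  haveI := hasLBase (algebraMap P B)
  haveI : IsNoetherianRing B := IsLocalization.isNoetherianRing Q.primeCompl B inferInstance
  let uP : DTen.unit P ≅ Dual.inD P P :=
    ((DerivedCategory.singleFunctorIsoCompQ (ModuleCat.{u} P) 0).app (ModuleCat.of P P)).symm
  -- the vanishing upstairs
  have hB : Subsingleton (Dual.inD B (B ⧸ I.map (algebraMap P B)) ⟶ (Dual.inD B B)⟦j⟧) := by
    by_cases hj : j < 0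
    · exact LC.subsingleton_hom_shift_neg B _ _ j hj
    obtain ⟨m, hm⟩ := Int.eq_ofNat_of_zero_le (not_lt.1 hj)
    rw [hm, LC.subsingleton_hom_shift_nat_iff]
    refine (LC.le_idealDepth_iff_ext (I.map (algebraMap P B)) B (n - d)).1 ?_ m (by omega)
    rw [LC.idealDepth_eq_iInf_depth]
    refine le_iInf₂ fun r hr => ?_
    haveI : IsLocalization.AtPrime (Localization.AtPrime r.asIdeal) (r.asIdeal.comap (algebraMap P B)) :=
      IsLocalization.isLocalization_atPrime_localization_atPrime (M := Q.primeCompl) r.asIdeal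
    have hk := le_depth ψ hψ hR q d hd (PrimeSpectrum.comap (algebraMap P B) r)
      (Ideal.map_le_iff_le_comap.1 hr) fun x hx => by
        by_contra hxq
        exact r.isPrime.ne_top (Ideal.eq_top_of_isUnit_mem _ hx (IsLocalization.map_units B (⟨x, hxq⟩ : Q.primeCompl)))
    refine hk.trans (le_of_eq ?_)
    rw [FlatLoc6.depth_congr' (LC.selfLoc r.asIdeal.primeCompl)]
    let ε : Localization.AtPrime (r.asIdeal.comap (algebraMap P B)) ≃ₐ[P] Localization.AtPrime r.asIdeal :=
      IsLocalization.algEquiv (r.asIdeal.comap (algebraMap P B)).primeCompl _ _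
    exact Alg6.depth_eq_of_semilinear ε.toRingEquiv.toRingHom ε.surjective ε.toRingEquiv.toAddEquiv
      fun x y => map_mul ε x y
  have hP : Subsingleton (LocalizedModule Q.primeCompl (Dual.inD P (P ⧸ I) ⟶ (Dual.inD P P)⟦j⟧)) := by
    obtain ⟨e⟩ := exists_homBaseChangeLEquiv (B := B) (X := Dual.inD P (P ⧸ I)) (Y := Dual.inD P P)
      ((Groth.Agent.S6942.result P 0 (Dual.inD P P) (P ⧸ I)).2.2 inferInstance) 0 j
    obtain ⟨c₁⟩ := nonempty_LBase_inD_quotient (B := B) I
    obtain ⟨c₂⟩ := nonempty_LBase_unit (algebraMap P B)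
    let c₃ : (DTen.LBase (algebraMap P B)).obj (Dual.inD P P) ≅ Dual.inD B B :=
      (DTen.LBase _).mapIso uP.symm ≪≫ c₂ ≪≫
        ((DerivedCategory.singleFunctorIsoCompQ (ModuleCat.{u} B) 0).app (ModuleCat.of B B)).symm
    haveI := hB
    haveI : Subsingleton ((DTen.LBase (algebraMap P B)).obj (Dual.inD P (P ⧸ I)) ⟶
        ((DTen.LBase (algebraMap P B)).obj (Dual.inD P P))⟦j⟧) :=
      (Linear.homCongr B c₁ ((shiftFunctor (Dual.D B) j).mapIso c₃)).toEquiv.subsingleton
    haveI := e.symm.toEquiv.subsingleton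
    exact ((IsLocalizedModule.isBaseChange Q.primeCompl B
      (LocalizedModule.mkLinearMap Q.primeCompl (Dual.inD P (P ⧸ I) ⟶ (Dual.inD P P)⟦j⟧))).equiv).symm.toEquiv.subsingleton
  -- transport
  let W₀ := Rψ.obj (DTen.unit P)
  obtain ⟨e₁⟩ := exists_homRingLEquiv W₀ j
  obtain ⟨e₂, hadd, hsmul⟩ := exists_shriekHomEquiv ψ Rψ a (Dual.inD A A) (DTen.unit P) j
  let θ : ((ModuleCat.restrictScalars ψ).obj (ModuleCat.of A A) : Type u) ≃ₗ[P] (P ⧸ I) :=
    { (RingHom.quotientKerEquivOfSurjective hψ).symm.toAddEquiv with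
      map_smul' := fun r (x : A) => by
        refine (RingHom.quotientKerEquivOfSurjective hψ).injective ?_
        change (RingHom.quotientKerEquivOfSurjective hψ) ((RingHom.quotientKerEquivOfSurjective hψ).symm (ψ r * x)) =
          (RingHom.quotientKerEquivOfSurjective hψ) (Ideal.Quotient.mk I r * (RingHom.quotientKerEquivOfSurjective hψ).symm x)
        rw [map_mul (RingHom.quotientKerEquivOfSurjective hψ), RingEquiv.apply_symm_apply, RingEquiv.apply_symm_apply]
        rfl }
  let c : (DRing.restrictD ψ).obj (Dual.inD A A) ≅ Dual.inD P (P ⧸ I) :=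
    H9Misc.DRingRestrict.restrictInDIso ψ (ModuleCat.of A A) ≪≫
      (DerivedCategory.singleFunctor (ModuleCat.{u} P) 0).mapIso θ.toModuleIso
  let g₃ := Linear.homCongr P c ((shiftFunctor (Dual.D P) j).mapIso uP)
  let g₀ : Dual.HD A (W₀⟦(n : ℤ)⟧) i ≃ₗ[A] Dual.HD A W₀ j :=
    (((DerivedCategory.homologyFunctor (ModuleCat.{u} A) 0).shiftIso (n : ℤ) i j rfl).app W₀).toLinearEquiv
  refine LocalizedModule.subsingleton_iff.2 fun z => ?_
  obtain ⟨r, hr, hr0⟩ := LocalizedModule.subsingleton_iff.1 hP (g₃ (e₂ (e₁.symm (g₀ z))))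
  refine ⟨ψ r, hr, g₀.injective (e₁.symm.injective (e₂.injective (g₃.injective ?_)))⟩
  have h0 : e₂ 0 = 0 := by
    have := hadd 0 0
    rwa [add_zero, left_eq_add] at this
  rw [map_smul g₀, map_smul e₁.symm, hsmul, map_smul g₃, hr0, map_zero g₀, map_zero e₁.symm, h0, map_zero g₃]

end Groth.Agent.RGammaI.ShriekFibre
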