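import Groth.Agent.RGammaI.SuppLocal

/-! The criterion for annihilation of local cohomology with supports. -/

set_option linter.style.haveILetI false
set_option maxHeartbeats 1000000
set_option backward.isDefEq.respectTransparency false

universe u

open CategoryTheory CategoryTheory.Limits Opposite

attribute [local instance] HasDerivedCategory.standard

namespace Groth.Agent.RGammaI.SuppCrit

open Groth.Agent.KFlatLib SuppDual SuppLocal SuppHDT

variable {A : Type u} [CommRing A] [IsNoetherianRing A]

/-- Isomorphic complexes have the same local cohomology. -/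
lemma subsingleton_HDI_congr {B : Type u} [CommRing B] (I : Ideal B) {K K' : Dual.D B} (e : K ≅ K') (i : ℤ) :
    Subsingleton ↑(Dual2.HDI B I K i) ↔ Subsingleton ↑(Dual2.HDI B I K' i) :=
  (HasColimit.isoOfNatIso (Functor.isoWhiskerLeft _
    ((linearYoneda B (Dual.D B)).mapIso ((shiftFunctor (Dual.D B) i).mapIso e)))).toLinearEquiv.toEquiv.subsingleton_congr

section Height

variable {n : PrimeSpectrum A → ℤ}

/-- Chains above `p` are bounded by the degree. -/
lemma add_length_le (hmono : StrictMono n) {S : Set (PrimeSpectrum A)} (l : LTSeries S) :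
    n l.head.1 + l.length ≤ n l.last.1 := by
  have h1 : ∀ k : ℕ, ∀ hk : k < l.length + 1, n l.head.1 + k ≤ n (l ⟨k, hk⟩).1 := by
    intro k
    induction k with
    | zero => intro hk; simp [RelSeries.head]
    | succ k ih =>
      intro hk
      have h2 := ih (by omega)
      have h3 := hmono (l.step ⟨k, by omega⟩)
      simp only [Fin.castSucc_mk, Fin.succ_mk] at h3
      push_cast
      omega
  exact h1 l.length (by omega)

/-- The length of the longest chain from `p` to `q`. -/
theorem height_Ici (hcov : ∀ p q : PrimeSpectrum A, p ⋖ q → n q = n p + 1) (hmono : StrictMono n)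
    {p q : PrimeSpectrum A} (h : p ≤ q) :
    Order.height (⟨q, h⟩ : Set.Ici p) = ((n q - n p).toNat : ℕ) := by
  refine le_antisymm (Order.height_le fun l hl => ?_) ?_
  · have h1 := add_length_le hmono l
    rw [hl] at h1
    have h2 := hmono.monotone (show p ≤ l.head.1 from l.head.2)
    exact_mod_cast (show l.length ≤ (n q - n p).toNat by change n l.head.1 + (l.length : ℤ) ≤ n q at h1; omega)
  · obtain ⟨l, hl1, hl2, hl3⟩ := exists_chain_of_le hcov _ q rfl p h
    let l' : LTSeries (Set.Ici p) :=
      { length := l.length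
        toFun := fun k => ⟨l k, hl1.trans (l.monotone (Fin.zero_le k))⟩
        step := fun k => l.step k }
    refine le_trans ?_ (Order.length_le_height (p := l') (le_of_eq (Subtype.ext hl2)))
    exact_mod_cast (show (n q - n p).toNat ≤ l.length by omega)

/-- The dimension of an interval. -/
theorem krullDim_Icc (hcov : ∀ p q : PrimeSpectrum A, p ⋖ q → n q = n p + 1) (hmono : StrictMono n)
    {p q : PrimeSpectrum A} (h : p ≤ q) :
    Order.krullDim (Set.Icc p q) = ((((n q - n p).toNat : ℕ) : ℕ∞) : WithBot ℕ∞) := by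
  refine le_antisymm (iSup_le fun l => ?_) ?_
  · have h1 := add_length_le hmono l
    have h2 := hmono.monotone (show p ≤ l.head.1 from l.head.2.1)
    have h3 := hmono.monotone (show l.last.1 ≤ q from l.last.2.2)
    exact_mod_cast (show l.length ≤ (n q - n p).toNat by omega)
  · obtain ⟨l, hl1, hl2, hl3⟩ := exists_chain_of_le hcov _ q rfl p h
    let l' : LTSeries (Set.Icc p q) :=
      { length := l.length
        toFun := fun k => ⟨l k, hl1.trans (l.monotone (Fin.zero_le k)), (l.monotone (Fin.le_last k)).trans hl2.le⟩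
        step := fun k => l.step k }
    refine le_trans ?_ (le_iSup (fun t : LTSeries (Set.Icc p q) => ((t.length : ℕ∞) : WithBot ℕ∞)) l')
    exact_mod_cast (show (n q - n p).toNat ≤ l.length by omega)

end Height

variable {ω : Dual.D A} {n : PrimeSpectrum A → ℤ} {T T' : Set (PrimeSpectrum A)}

/-- Annihilation in a range is vanishing of local cohomology at the bad primes. -/
theorem exists_killsH_iff (hω : Dual.IsDualizing A ω) (hn : IsExtDegree ω n)
    (hcov : ∀ p q : PrimeSpectrum A, p ⋖ q → n q = n p + 1) (hmono : StrictMono n)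
    (hT : StableUnderSpecialization T) (hT' : StableUnderSpecialization T') (s : ℤ) (K : Dual.D A) (c : ℤ)
    [K.IsGE c] (hK : ∀ i, Module.Finite A (Dual.HD A K i))
    [∀ p : PrimeSpectrum A, DRing.HasLBaseChange (algebraMap A (Localization.AtPrime p.asIdeal))] :
    (∃ J : Ideal A, PrimeSpectrum.zeroLocus (J : Set A) ⊆ T' ∧ KillsH T J s K) ↔
      ∀ (p q : PrimeSpectrum A) (hpq : p ≤ q), p ∉ T' → q ∈ T → ∀ h : ℕ, Order.height (⟨q, hpq⟩ : Set.Ici p) = h →
        ∀ i : ℤ, i ≤ s - h → Subsingleton (Dual2.HDI (Localization.AtPrime p.asIdeal)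
          (IsLocalRing.maximalIdeal (Localization.AtPrime p.asIdeal))
          ((DRing.LBaseChange (algebraMap A (Localization.AtPrime p.asIdeal))).obj K) i) := by
  haveI := hasLTen A
  haveI := hasRHom (A := A)
  haveI := hasLTen₃ A
  haveI := isSymMonoidal A
  haveI : ∀ p : PrimeSpectrum A, DTen.HasLBase (algebraMap A (Localization.AtPrime p.asIdeal)) :=
    fun p => hasLBase _
  have hh : ∀ p q : PrimeSpectrum A, ∀ (hpq : p ≤ q) (h : ℕ), Order.height (⟨q, hpq⟩ : Set.Ici p) = h →
      (h : ℤ) = n q - n p := fun p q hpq h hh => by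
    rw [height_Ici hcov hmono hpq, Nat.cast_inj] at hh
    have := hmono.monotone hpq
    omega
  have hiso : ∀ (p : PrimeSpectrum A) (i : ℤ), Subsingleton (Dual2.HDI (Localization.AtPrime p.asIdeal)
      (IsLocalRing.maximalIdeal (Localization.AtPrime p.asIdeal))
      ((DRing.LBaseChange (algebraMap A (Localization.AtPrime p.asIdeal))).obj K) i) ↔
      p ∉ Module.support A (Dual.HD A (dd ω K) (n p - i)) := fun p i => by
    obtain ⟨e⟩ := nonempty_LBaseChange_iso (algebraMap A (Localization.AtPrime p.asIdeal))
    rw [subsingleton_HDI_congr _ (e.app K) i]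
    exact subsingleton_HDI_loc_iff hω hn p K hK i
  constructor
  · rintro ⟨J, hJ, hk⟩ p q hpq hp hq h hh' i hi
    obtain ⟨J', hJ', hk'⟩ := exKills_of_killsH hT hJ K c hk
    rw [hiso]
    obtain ⟨r, hrJ, hrp⟩ := SetLike.not_le_iff_exists.1 (fun hle : J' ≤ p.asIdeal => hp (hJ' hle))
    rw [Module.notMem_support_iff']
    intro x
    have e := hh p q hpq h hh'
    have hx := mul_eq_zero_of_HDI_loc hω hn q K hK (i + h) r
      (fun z => HDI_loc_smul_eq_zero q hT hq K c hk' (i + h) (by omega) r hrJ z)
    rw [show n q - (i + h) = n p - i by omega] at hx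
    obtain ⟨t, ht, htx⟩ := hx x
    exact ⟨t * r, fun hm => (p.isPrime.mem_or_mem hm).elim (fun h' => ht (hpq h')) hrp, htx⟩
  · intro hv
    have hc : Cond T T' n s (dd ω K) := fun j p q hp hpT hq hpq => by
      by_contra hcon
      have e := height_Ici hcov hmono hpq
      have := hmono.monotone hpq
      refine (hiso p (n p - j)).1 (hv p q hpq hpT hq _ e (n p - j) (by omega)) ?_
      rwa [show n p - (n p - j) = j by omega]
    obtain ⟨J, hJ, hk⟩ := exKills_of_cond hω hn hT' s K c hK hc
    exact ⟨J, hJ, killsH_of_kills hk⟩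

end Groth.Agent.RGammaI.SuppCrit
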