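import Groth.Agent.RGammaI.SuppDual
import Groth.Prelude.Def_DualLC

/-! Local cohomology of complexes with supports in a specialization stable subset. -/

set_option linter.style.haveILetI false
set_option maxHeartbeats 1000000
set_option backward.isDefEq.respectTransparency false

universe u

open CategoryTheory CategoryTheory.Limits Pretriangulated Opposite

attribute [local instance] HasDerivedCategory.standard

namespace Groth.Agent.RGammaI.SuppHDT

/-- The middle of an exact sequence with finite ends is finite. -/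
lemma finite_of_exact {A : Type*} [CommRing A] [IsNoetherianRing A] {M N P : Type*} [AddCommGroup M] [Module A M]
    [AddCommGroup N] [Module A N] [AddCommGroup P] [Module A P] [Module.Finite A M] [Module.Finite A P]
    {f : M →ₗ[A] N} {g : N →ₗ[A] P} (h : Function.Exact f g) : Module.Finite A N := by
  constructor
  refine Submodule.fg_of_fg_map_of_fg_inf_ker g (IsNoetherian.noetherian _) ?_
  rw [top_inf_eq, h.linearMap_ker_eq, ← Submodule.map_top]
  exact Submodule.FG.map f Module.Finite.fg_top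

open Groth.Agent.KFlatLib SuppDual

variable {A : Type u} [CommRing A] {T : Set (PrimeSpectrum A)}

/-- The index category is filtered. -/
instance : IsFiltered (Dual2.IdealsIn T)ᵒᵖ := by
  haveI : Nonempty (Dual2.IdealsIn T)ᵒᵖ := ⟨op ⟨⊤, by simp⟩⟩
  haveI : IsFilteredOrEmpty (Dual2.IdealsIn T)ᵒᵖ :=
    { cocone_objs := fun X Y => ⟨op ⟨X.unop.obj ⊓ Y.unop.obj, by
          rw [PrimeSpectrum.zeroLocus_inf]
          exact Set.union_subset X.unop.property Y.unop.property⟩,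
        (ObjectProperty.homMk (homOfLE inf_le_left)).op, (ObjectProperty.homMk (homOfLE inf_le_right)).op, trivial⟩
      cocone_maps := fun X Y f g => ⟨Y, 𝟙 Y, by
        have : f.unop = g.unop := ObjectProperty.hom_ext _ (Subsingleton.elim _ _)
        rw [Quiver.Hom.unop_inj this]⟩ }
  exact ⟨⟩

variable (T) in
/-- An ideal with zero locus in `T` as an index. -/
def ix (Q : Ideal A) (hQ : PrimeSpectrum.zeroLocus (Q : Set A) ⊆ T) : Dual2.IdealsIn T := ⟨Q, hQ⟩

/-- The projection `A/Q' → A/Q` in the derived category. -/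
noncomputable abbrev q {Q Q' : Ideal A} (h : Q' ≤ Q) : Dual.inD A (A ⧸ Q') ⟶ Dual.inD A (A ⧸ Q) :=
  (DerivedCategory.singleFunctor (ModuleCat.{u} A) 0).map (ModuleCat.ofHom (Submodule.mapQ Q' Q LinearMap.id h))

lemma q_comp {Q Q' Q'' : Ideal A} (h : Q' ≤ Q) (h' : Q'' ≤ Q') : q h' ≫ q h = q (h'.trans h) := by
  rw [← Functor.map_comp]
  refine congrArg (DerivedCategory.singleFunctor (ModuleCat.{u} A) 0).map (ModuleCat.hom_ext (LinearMap.ext fun x => ?_))
  obtain ⟨x, rfl⟩ := Submodule.Quotient.mk_surjective _ x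
  rfl

/-- The diagram computing `HDT`. -/
noncomputable abbrev Diag (T : Set (PrimeSpectrum A)) (X : Dual.D A) (i : ℤ) :=
  (localCohomology.ringModIdeals (Dual2.idealsInDiagram T) ⋙
    DerivedCategory.singleFunctor (ModuleCat.{u} A) 0).op ⋙ (linearYoneda A (Dual.D A)).obj (X⟦i⟧)

variable {X : Dual.D A} {i : ℤ}

/-- The class of a map out of `A/Q`. -/
noncomputable def mk (Q : Ideal A) (hQ : PrimeSpectrum.zeroLocus (Q : Set A) ⊆ T) :
    (Dual.inD A (A ⧸ Q) ⟶ X⟦i⟧) →ₗ[A] Dual2.HDT A T X i :=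
  (colimit.ι (Diag T X i) (op (ix T Q hQ))).hom

lemma preservesColimit_diag (X : Dual.D A) (i : ℤ) : PreservesColimit (Diag T X i) (forget (ModuleCat.{u + 1} A)) := by
  haveI : PreservesFilteredColimitsOfSize.{u, u} (forget AddCommGrpCat.{u + 1}) :=
    preservesFilteredColimitsOfSize_shrink.{u, u + 1, u, u + 1} _
  haveI : PreservesColimitsOfShape (Dual2.IdealsIn T)ᵒᵖ (forget AddCommGrpCat.{u + 1}) :=
    PreservesFilteredColimitsOfSize.preserves_filtered_colimits _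
  exact (comp_preservesColimit (forget₂ (ModuleCat.{u + 1} A) AddCommGrpCat.{u + 1}) (forget AddCommGrpCat.{u + 1}) :
    PreservesColimit (Diag T X i) (forget₂ (ModuleCat.{u + 1} A) AddCommGrpCat.{u + 1} ⋙ forget AddCommGrpCat.{u + 1}))

lemma exists_mk (z : Dual2.HDT A T X i) :
    ∃ (Q : Ideal A) (hQ : PrimeSpectrum.zeroLocus (Q : Set A) ⊆ T) (φ : Dual.inD A (A ⧸ Q) ⟶ X⟦i⟧),
      mk Q hQ φ = z := by
  haveI := preservesColimit_diag (T := T) X i
  obtain ⟨⟨⟨Q, hQ⟩⟩, φ, h⟩ := Concrete.colimit_exists_rep (Diag T X i) z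
  exact ⟨Q, hQ, φ, h⟩

lemma mk_restrict {Q Q' : Ideal A} (hQ : PrimeSpectrum.zeroLocus (Q : Set A) ⊆ T)
    (hQ' : PrimeSpectrum.zeroLocus (Q' : Set A) ⊆ T) (h : Q' ≤ Q) (φ : Dual.inD A (A ⧸ Q) ⟶ X⟦i⟧) :
    mk Q' hQ' (q h ≫ φ) = mk Q hQ φ :=
  ConcreteCategory.congr_hom (colimit.w (Diag T X i)
    (show op (ix T Q hQ) ⟶ op (ix T Q' hQ') from (ObjectProperty.homMk (homOfLE h)).op)) φ

lemma mk_eq_zero_iff {Q : Ideal A} (hQ : PrimeSpectrum.zeroLocus (Q : Set A) ⊆ T)
    (φ : Dual.inD A (A ⧸ Q) ⟶ X⟦i⟧) :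
    mk Q hQ φ = 0 ↔
      ∃ (Q' : Ideal A) (_ : PrimeSpectrum.zeroLocus (Q' : Set A) ⊆ T) (h : Q' ≤ Q), q h ≫ φ = 0 := by
  refine ⟨fun hz => ?_, fun ⟨Q', hQ', h, h0⟩ => by rw [← mk_restrict hQ hQ' h φ, h0, map_zero]⟩
  haveI := preservesColimit_diag (T := T) X i
  let ψ : (Diag T X i).obj (op (ix T Q hQ)) := φ
  have h1 : (colimit.ι (Diag T X i) (op (ix T Q hQ))).hom ψ = 0 := hz
  have h2 : (colimit.ι (Diag T X i) (op (ix T Q hQ))).hom 0 = 0 := LinearMap.map_zero _
  obtain ⟨k, f, g, hfg⟩ := Concrete.colimit_exists_of_rep_eq (Diag T X i) ψ 0 (h1.trans h2.symm)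
  have hle : k.unop.obj ≤ Q := leOfHom f.unop.hom
  refine ⟨k.unop.obj, k.unop.property, hle, ?_⟩
  have h0 : ((Diag T X i).map g).hom 0 = 0 := LinearMap.map_zero _
  exact hfg.trans h0

/-- Functoriality. -/
noncomputable def hmap {Y : Dual.D A} (g : X ⟶ Y) (i : ℤ) : Dual2.HDT A T X i →ₗ[A] Dual2.HDT A T Y i :=
  (colimMap (Functor.whiskerLeft _ ((linearYoneda A (Dual.D A)).map (g⟦i⟧'))) : colimit (Diag T X i) ⟶ colimit (Diag T Y i)).hom

lemma hmap_mk {Y : Dual.D A} (g : X ⟶ Y) (Q : Ideal A) (hQ : PrimeSpectrum.zeroLocus (Q : Set A) ⊆ T)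
    (φ : Dual.inD A (A ⧸ Q) ⟶ X⟦i⟧) : hmap g i (mk Q hQ φ) = mk Q hQ (φ ≫ g⟦i⟧') :=
  ConcreteCategory.congr_hom (ι_colimMap (Functor.whiskerLeft ((localCohomology.ringModIdeals (Dual2.idealsInDiagram T) ⋙
    DerivedCategory.singleFunctor (ModuleCat.{u} A) 0).op) ((linearYoneda A (Dual.D A)).map (g⟦i⟧'))) (op (ix T Q hQ))) φ

lemma exact_hmap (Tr : Triangle (Dual.D A)) (hTr : Tr ∈ distTriang _) (i : ℤ) :
    Function.Exact (hmap (T := T) Tr.mor₁ i) (hmap (T := T) Tr.mor₂ i) := by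
  intro z
  constructor
  · intro hz
    obtain ⟨Q, hQ, φ, rfl⟩ := exists_mk z
    rw [hmap_mk] at hz
    obtain ⟨Q', hQ', h, h0⟩ := (mk_eq_zero_iff hQ _).1 hz
    obtain ⟨χ, hχ⟩ := Triangle.coyoneda_exact₂ _ (Triangle.shift_distinguished _ hTr i) (q h ≫ φ) (by
      change (q h ≫ φ) ≫ (i.negOnePow • Tr.mor₂⟦i⟧') = 0
      rw [Linear.comp_units_smul, Category.assoc, h0, smul_zero])
    refine ⟨mk Q' hQ' (i.negOnePow • χ), ?_⟩
    rw [hmap_mk, ← mk_restrict hQ hQ' h φ]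
    refine congrArg (mk Q' hQ') ?_
    refine Eq.trans ?_ hχ.symm
    change _ = χ ≫ (i.negOnePow • Tr.mor₁⟦i⟧')
    rw [Linear.units_smul_comp, Linear.comp_units_smul]
  · rintro ⟨w, rfl⟩
    obtain ⟨Q, hQ, φ, rfl⟩ := exists_mk w
    rw [hmap_mk, hmap_mk, Category.assoc, ← Functor.map_comp, comp_distTriang_mor_zero₁₂ _ hTr,
      Functor.map_zero, comp_zero, map_zero]

variable (T) in
/-- `J` kills `HDT` up to degree `n`. -/
def KillsH (J : Ideal A) (n : ℤ) (X : Dual.D A) : Prop :=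
  ∀ i : ℤ, i ≤ n → ∀ r ∈ J, ∀ z : Dual2.HDT A T X i, r • z = 0

lemma killsH_shift {J : Ideal A} {n : ℤ} (h : KillsH T J n X) (k : ℤ) : KillsH T J (n - k) (X⟦k⟧) := by
  intro i hi r hr z
  obtain ⟨Q, hQ, φ, rfl⟩ := exists_mk z
  let e : (X⟦k⟧)⟦i⟧ ≅ X⟦k + i⟧ := ((shiftFunctorAdd (Dual.D A) k i).app X).symm
  obtain ⟨Q', hQ', hle, h0⟩ := (mk_eq_zero_iff hQ (r • (φ ≫ e.hom))).1
    (by rw [map_smul]; exact h (k + i) (by omega) r hr _)
  rw [← map_smul]
  refine (mk_eq_zero_iff hQ _).2 ⟨Q', hQ', hle, ?_⟩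
  rw [← cancel_mono e.hom, zero_comp, Category.assoc, Linear.smul_comp]
  exact h0

lemma killsH_middle {J J' : Ideal A} {n : ℤ} (Tr : Triangle (Dual.D A)) (hTr : Tr ∈ distTriang _)
    (h₁ : KillsH T J n Tr.obj₁) (h₃ : KillsH T J' n Tr.obj₃) : KillsH T (J * J') n Tr.obj₂ := by
  intro i hi r hr z
  refine Submodule.mul_induction_on hr (fun b hb c hc => ?_) fun x y hx hy => by rw [add_smul, hx, hy, add_zero]
  obtain ⟨w, hw⟩ := (exact_hmap Tr hTr i (c • z)).1 (by rw [map_smul]; exact h₃ i hi c hc _)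
  rw [mul_smul, ← hw, ← map_smul, h₁ i hi b hb w, map_zero]

lemma killsH_of_kills {J : Ideal A} {n : ℤ} (h : Kills T J n X) : KillsH T J n X := by
  intro i hi r hr z
  obtain ⟨Q, hQ, φ, rfl⟩ := exists_mk z
  rw [← map_smul]
  refine (congrArg (mk Q hQ) ?_).trans (map_zero _)
  let e₂ : (X⟦i⟧)⟦-i⟧ ≅ X := (shiftFunctorCompIsoId (Dual.D A) i (-i) (by omega)).app X
  apply (shiftFunctor (Dual.D A) (-i)).map_injective
  rw [Functor.map_zero, Functor.map_smul, ← cancel_mono e₂.hom, zero_comp, Linear.smul_comp]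
  exact h i hi (A ⧸ Q) (by rw [Module.support_eq_zeroLocus, Ideal.annihilator_quotient]; exact hQ) r hr _

lemma mk_surjective_of_forall (Q₀ : Ideal A) (hQ₀ : PrimeSpectrum.zeroLocus (Q₀ : Set A) ⊆ T)
    (h : ∀ (Q : Ideal A), PrimeSpectrum.zeroLocus (Q : Set A) ⊆ T → ∀ φ : Dual.inD A (A ⧸ Q) ⟶ X⟦i⟧,
      ∃ (φ₀ : Dual.inD A (A ⧸ Q₀) ⟶ X⟦i⟧) (Q' : Ideal A) (_ : PrimeSpectrum.zeroLocus (Q' : Set A) ⊆ T)
        (h₁ : Q' ≤ Q) (h₀ : Q' ≤ Q₀), q h₁ ≫ φ = q h₀ ≫ φ₀) :
    Function.Surjective (mk (X := X) (i := i) Q₀ hQ₀) := by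
  intro z
  obtain ⟨Q, hQ, φ, rfl⟩ := exists_mk z
  obtain ⟨φ₀, Q', hQ', h₁, h₀, he⟩ := h Q hQ φ
  exact ⟨φ₀, by rw [← mk_restrict hQ₀ hQ' h₀, ← he, mk_restrict]⟩

variable [IsNoetherianRing A]

omit T in
/-- Higher local cohomology of a torsion module vanishes. -/
lemma subsingleton_HDI_of_torsion (I : Ideal A) (N : Type u) [AddCommGroup N] [Module A N]
    (hN : LocCoh.IsPowerTorsion I N) {j : ℤ} (hj : j ≠ 0) : Subsingleton ↑(Dual2.HDI A I (Dual.inD A N) j) := by
  haveI := hasRgammaI I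
  have ht : ∀ k : ℤ, LocCoh.IsPowerTorsion I (Dual.HD A (Dual.inD A N) k) := fun k => by
    by_cases hk : k = 0
    · subst hk
      exact isPowerTorsion_of_equiv
        ((DerivedCategory.singleFunctorCompHomologyFunctorIso (ModuleCat.{u} A) 0).app (ModuleCat.of A N)).toLinearEquiv.symm hN
    · haveI := Groth.Agent.H9Misc.DRingTel.subsingleton_homology_inD (A := A) N hk
      exact fun x => ⟨0, fun a _ => Subsingleton.elim _ _⟩
  haveI := isIso_ε_of_torsion I (Dual.inD A N) ht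
  obtain ⟨e₂⟩ := nonempty_HDI_equiv_HD I (Dual.inD A N) j
  haveI : Subsingleton ↑((DerivedCategory.homologyFunctor (ModuleCat.{u} A) j).obj ((𝟭 (Dual.D A)).obj (Dual.inD A N))) :=
    Groth.Agent.H9Misc.DRingTel.subsingleton_homology_inD (A := A) N hj
  exact (e₂.trans ((DerivedCategory.homologyFunctor (ModuleCat.{u} A) j).mapIso
    (asIso ((DRing.RgammaIε I).app (Dual.inD A N)))).toLinearEquiv).toEquiv.subsingleton

omit T in
/-- A map into a positive shift of a torsion module dies on a power. -/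
lemma exists_pow_comp_eq_zero (I : Ideal A) (N : Type u) [AddCommGroup N] [Module A N]
    (hN : LocCoh.IsPowerTorsion I N) {j : ℤ} (hj : j ≠ 0) (φ : Dual.inD A (A ⧸ I) ⟶ (Dual.inD A N)⟦j⟧) :
    ∃ (m : ℕ) (h : I ^ m ≤ I), q h ≫ φ = 0 := by
  haveI := subsingleton_HDI_of_torsion I N hN hj
  let D := homDiag I ((Dual.inD A N)⟦j⟧)
  haveI : PreservesFilteredColimitsOfSize.{0, 0} (forget AddCommGrpCat.{u + 1}) :=
    preservesFilteredColimitsOfSize_shrink _
  haveI : PreservesColimitsOfShape ℕᵒᵖᵒᵖ (forget AddCommGrpCat.{u + 1}) :=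
    PreservesFilteredColimitsOfSize.preserves_filtered_colimits _
  haveI : PreservesColimit D (forget (ModuleCat.{u + 1} A)) :=
    (comp_preservesColimit (forget₂ (ModuleCat.{u + 1} A) AddCommGrpCat.{u + 1}) (forget AddCommGrpCat.{u + 1}) :
      PreservesColimit D (forget₂ (ModuleCat.{u + 1} A) AddCommGrpCat.{u + 1} ⋙ forget AddCommGrpCat.{u + 1}))
  have h1le : I ^ 1 ≤ I := (pow_one I).le
  let ψ : D.obj (op (op 1)) := q h1le ≫ φ
  have h2 : (colimit.ι D (op (op 1))).hom ψ = (colimit.ι D (op (op 1))).hom 0 :=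
    @Subsingleton.elim ↑(Dual2.HDI A I (Dual.inD A N) j) _ _ _
  obtain ⟨k, f, g, hfg⟩ := Concrete.colimit_exists_of_rep_eq D ψ 0 h2
  have hle : I ^ k.unop.unop ≤ I ^ 1 := Ideal.pow_le_pow_right f.unop.unop.down.down
  refine ⟨k.unop.unop, hle.trans h1le, ?_⟩
  rw [← q_comp h1le hle, Category.assoc]
  have h0 : (D.map g).hom 0 = 0 := LinearMap.map_zero _
  exact hfg.trans h0

/-- Finiteness for a torsion module in one degree. -/
lemma finite_HDT_piece (N : Type u) [AddCommGroup N] [Module A N] [Module.Finite A N]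
    (hN : Module.support A N ⊆ T) (j i : ℤ) : Module.Finite A (Dual2.HDT A T ((Dual.inD A N)⟦-j⟧) i) := by
  let Q₀ := Module.annihilator A N
  have hQ₀ : PrimeSpectrum.zeroLocus (Q₀ : Set A) ⊆ T := Module.support_eq_zeroLocus (R := A) (M := N) ▸ hN
  have hkill : ∀ r ∈ Q₀, ∀ z : N, r • z = 0 := fun r hr => Module.mem_annihilator.1 hr
  let e : ((Dual.inD A N)⟦-j⟧)⟦i⟧ ≅ (Dual.inD A N)⟦i - j⟧ :=
    ((shiftFunctorAdd' (Dual.D A) (-j) i (i - j) (by omega)).app _).symm
  haveI : Module.Finite A (Dual.inD A (A ⧸ Q₀) ⟶ ((Dual.inD A N)⟦-j⟧)⟦i⟧) := by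
    let Z : Dual.D A := ((Dual.inD A N)⟦-j⟧)⟦i⟧
    haveI : DerivedCategory.IsGE ((Dual.inD A N)⟦-j⟧) j :=
      DerivedCategory.TStructure.t.isGE_shift _ 0 (-j) j (by omega)
    haveI : DerivedCategory.IsGE Z (j - i) :=
      DerivedCategory.TStructure.t.isGE_shift _ j i (j - i) (by omega)
    refine finite_hom_of_pc ((Groth.Agent.S6942.result A 0 (Dual.inD A (A ⧸ Q₀)) (A ⧸ Q₀)).2.2 inferInstance)
      (j - i) fun m => ?_
    haveI : Module.Finite A (Dual.HD A ((Dual.inD A N)⟦i - j⟧) m) := by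
      haveI : Module.Finite A (((DerivedCategory.homologyFunctor (ModuleCat.{u} A) 0).shift (m + (i - j))).obj (Dual.inD A N)) :=
        finite_HD_inD N (m + (i - j))
      exact Module.Finite.equiv ((((DerivedCategory.homologyFunctor (ModuleCat.{u} A) 0).shiftIso (i - j) m (m + (i - j))
        (by omega)).app (Dual.inD A N)).symm.toLinearEquiv)
    exact Module.Finite.equiv ((DerivedCategory.homologyFunctor (ModuleCat.{u} A) m).mapIso e).symm.toLinearEquiv
  refine Module.Finite.of_surjective (mk Q₀ hQ₀) (mk_surjective_of_forall Q₀ hQ₀ fun Q hQ φ => ?_)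
  let Q₁ := Q ⊓ Q₀
  have hQ₁ : PrimeSpectrum.zeroLocus (Q₁ : Set A) ⊆ T := by
    rw [PrimeSpectrum.zeroLocus_inf]
    exact Set.union_subset hQ hQ₀
  let φ₁ : Dual.inD A (A ⧸ Q₁) ⟶ (Dual.inD A N)⟦i - j⟧ := q (inf_le_left : Q₁ ≤ Q) ≫ φ ≫ e.hom
  by_cases hij : i = j
  · let S := DerivedCategory.singleFunctor (ModuleCat.{u} A) 0
    let z := (shiftFunctorZero' (Dual.D A) (i - j) (by omega)).app (Dual.inD A N)
    obtain ⟨g, hg⟩ := S.map_surjective (φ₁ ≫ z.hom)
    let n₀ : N := g.hom (Submodule.Quotient.mk 1)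
    let g₀ : ModuleCat.of A (A ⧸ Q₀) ⟶ ModuleCat.of A N := ModuleCat.ofHom
      (Submodule.liftQ Q₀ (LinearMap.toSpanSingleton A N n₀) fun r hr => hkill r hr n₀)
    refine ⟨S.map g₀ ≫ z.inv ≫ e.inv, Q₁, hQ₁, inf_le_left, inf_le_right, ?_⟩
    have hg' : ModuleCat.ofHom (Submodule.mapQ Q₁ Q₀ LinearMap.id inf_le_right) ≫ g₀ = g := by
      refine ModuleCat.hom_ext (LinearMap.ext fun x => ?_)
      obtain ⟨x, rfl⟩ := Submodule.Quotient.mk_surjective _ x
      refine Eq.trans ?_ ((map_smul g.hom x (Submodule.Quotient.mk 1)).symm.trans ?_)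
      · rfl
      · rw [← Submodule.Quotient.mk_smul, smul_eq_mul, mul_one]
    rw [← Category.assoc (q inf_le_right), show q (inf_le_right : Q₁ ≤ Q₀) ≫ S.map g₀ = S.map g by
      rw [← S.map_comp, hg'], hg]
    simp only [φ₁, Category.assoc, Iso.hom_inv_id_assoc, Iso.hom_inv_id, Category.comp_id]
  · have ht : LocCoh.IsPowerTorsion Q₁ N := fun z => ⟨1, fun a ha => hkill a (by
      rw [pow_one] at ha; exact ha.2) z⟩
    obtain ⟨m, hm, h0⟩ := exists_pow_comp_eq_zero Q₁ N ht (sub_ne_zero.2 hij) φ₁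
    refine ⟨0, Q₁ ^ m, ?_, hm.trans inf_le_left, hm.trans inf_le_right, ?_⟩
    · intro P hP
      by_cases hm0 : m = 0
      · subst hm0
        simp at hP
      · exact hQ₁ (P.isPrime.le_of_pow_le (n := m) hP)
    rw [comp_zero, ← q_comp (inf_le_left : Q₁ ≤ Q) hm, ← cancel_mono e.hom, zero_comp]
    simpa only [φ₁, Category.assoc] using h0

/-- Finiteness when all the cohomology is torsion. -/
lemma finite_HDT_of_supp (a : ℤ) :
    ∀ (k : ℕ) (X : Dual.D A), X.IsGE a → X.IsLE (a + k - 1) → (∀ m, Module.Finite A (Dual.HD A X m)) →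
      (∀ m, Module.support A (Dual.HD A X m) ⊆ T) → ∀ i, Module.Finite A (Dual2.HDT A T X i) := by
  intro k
  induction k with
  | zero =>
    intro X hge hle _ _ i
    haveI := hge
    haveI := hle
    have hz : IsZero X := (IsZero.iff_id_eq_zero _).2
      (DerivedCategory.TStructure.t.zero (𝟙 X) (a + (0 : ℕ) - 1) a (by omega))
    haveI : Subsingleton (Dual2.HDT A T X i) := subsingleton_of_forall_eq 0 fun z => by
      obtain ⟨Q, hQ, φ, rfl⟩ := exists_mk z
      rw [((shiftFunctor (Dual.D A) i).map_isZero hz).eq_of_tgt φ 0, map_zero]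
    infer_instance
  | succ k ih =>
    intro X hge hle hfin hs i
    haveI := hge
    haveI := hle
    obtain ⟨Tr, hTr, rfl, h₁, h₃, hf₁, hf₃, hg₁, hl₃⟩ := exists_trunc_finite hfin (a + k - 1)
    haveI := h₁
    haveI : Tr.obj₃.IsGE (a + k) := by rw [sub_add_cancel] at h₃; exact h₃
    haveI : Tr.obj₃.IsLE (a + k) := hl₃ _ (DerivedCategory.TStructure.t.isLE_of_le _ (a + (k + 1 : ℕ) - 1) (a + k) (by push_cast; omega))
    let H := fun j => DerivedCategory.homologyFunctor (ModuleCat.{u} A) j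
    have s₁ : ∀ m, Module.support A (Dual.HD A Tr.obj₁ m) ⊆ T := fun m => by
      by_cases hm : m ≤ a + k - 1
      · haveI := (DerivedCategory.HomologySequence.mono_homologyMap_mor₁_iff _ hTr (m - 1) m (by omega)).2
          ((DerivedCategory.isZero_of_isGE Tr.obj₃ (a + k) (m - 1) (by omega)).eq_of_src _ _)
        exact fun P hP => hs m (Module.support_subset_of_injective ((H m).map Tr.mor₁).hom
          ((ModuleCat.mono_iff_injective _).1 inferInstance) hP)
      · haveI := ModuleCat.subsingleton_of_isZero (DerivedCategory.isZero_of_isLE Tr.obj₁ (a + k - 1) m (by omega))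
        simp [Module.support_eq_empty]
    haveI := (DerivedCategory.HomologySequence.epi_homologyMap_mor₂_iff _ hTr (a + k) (a + k + 1) rfl).2
      ((DerivedCategory.isZero_of_isLE Tr.obj₁ (a + k - 1) (a + k + 1) (by omega)).eq_of_tgt _ _)
    obtain ⟨u⟩ := H9Misc.nonempty_iso_single_homology (a + k) Tr.obj₃
    let N := (H (a + k)).obj Tr.obj₃
    haveI : Module.Finite A N := hf₃ _
    let v : Tr.obj₃ ≅ (Dual.inD A N)⟦-(a + k : ℤ)⟧ := u ≪≫
      (((DerivedCategory.singleFunctors (ModuleCat.{u} A)).shiftIso (-(a + k : ℤ)) (a + k) 0 (by omega)).app N).symm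
    haveI := finite_HDT_piece (T := T) N (fun P hP => hs (a + k) (Module.support_subset_of_surjective ((H (a + k)).map Tr.mor₂).hom
      ((ModuleCat.epi_iff_surjective _).1 inferInstance) hP)) (a + k) i
    haveI : Module.Finite A (Dual2.HDT A T Tr.obj₃ i) := by
      refine Module.Finite.of_surjective (hmap v.inv i) fun z => ⟨hmap v.hom i z, ?_⟩
      obtain ⟨Q, hQ, φ, rfl⟩ := exists_mk z
      rw [hmap_mk, hmap_mk, Category.assoc, ← Functor.map_comp, v.hom_inv_id, CategoryTheory.Functor.map_id, Category.comp_id]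
    haveI := ih Tr.obj₁ (hg₁ a hge) h₁ hf₁ s₁ i
    exact finite_of_exact (exact_hmap Tr hTr i)

/-- Finiteness when the cohomology is torsion, bounded below. -/
lemma finite_HDT_of_supp_isGE (a : ℤ) (X : Dual.D A) [X.IsGE a] (hfin : ∀ m, Module.Finite A (Dual.HD A X m))
    (hs : ∀ m, Module.support A (Dual.HD A X m) ⊆ T) (i : ℤ) : Module.Finite A (Dual2.HDT A T X i) := by
  obtain ⟨Tr, hTr, rfl, h₁, h₃, hf₁, hf₃, hg₁, -⟩ := exists_trunc_finite hfin i
  haveI := h₁
  haveI := h₃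
  let H := fun j => DerivedCategory.homologyFunctor (ModuleCat.{u} A) j
  have s₁ : ∀ m, Module.support A (Dual.HD A Tr.obj₁ m) ⊆ T := fun m => by
    by_cases hm : m ≤ i
    · haveI := (DerivedCategory.HomologySequence.mono_homologyMap_mor₁_iff _ hTr (m - 1) m (by omega)).2
        ((DerivedCategory.isZero_of_isGE Tr.obj₃ (i + 1) (m - 1) (by omega)).eq_of_src _ _)
      exact fun P hP => hs m (Module.support_subset_of_injective ((H m).map Tr.mor₁).hom
        ((ModuleCat.mono_iff_injective _).1 inferInstance) hP)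
    · haveI := ModuleCat.subsingleton_of_isZero (DerivedCategory.isZero_of_isLE Tr.obj₁ i m (by omega))
      simp [Module.support_eq_empty]
  haveI : Module.Finite A (Dual2.HDT A T Tr.obj₁ i) :=
    finite_HDT_of_supp a (i + 1 - a).toNat Tr.obj₁ (hg₁ a inferInstance)
      (DerivedCategory.TStructure.t.isLE_of_le _ i _ (by omega)) hf₁ s₁ i
  haveI : Subsingleton (Dual2.HDT A T Tr.obj₃ i) := subsingleton_of_forall_eq 0 fun z => by
    obtain ⟨Q, hQ, φ, rfl⟩ := exists_mk z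
    haveI : DerivedCategory.IsGE (Tr.obj₃⟦i⟧) 1 :=
      DerivedCategory.TStructure.t.isGE_shift _ (i + 1) i 1 (by omega)
    rw [DerivedCategory.TStructure.t.zero φ 0 1 (by omega), map_zero]
  exact finite_of_exact (exact_hmap Tr hTr i)

end Groth.Agent.RGammaI.SuppHDT
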