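import Groth.Agent.RGammaI.SuppHDT

/-! Finiteness and annihilation of local cohomology with supports. -/

set_option linter.style.haveILetI false
set_option maxHeartbeats 1000000
set_option backward.isDefEq.respectTransparency false

universe u

open CategoryTheory CategoryTheory.Limits Pretriangulated Opposite

attribute [local instance] HasDerivedCategory.standard

namespace Groth.Agent.RGammaI.SuppHDT

open Groth.Agent.KFlatLib SuppDual

variable {A : Type u} [CommRing A] [IsNoetherianRing A] {T : Set (PrimeSpectrum A)}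

/-- A power of a killing ideal kills maps out of all finite modules supported in `T`. -/
lemma exists_pow_kills (hT : StableUnderSpecialization T) {J : Ideal A} {n : ℤ} (X : Dual.D A) (a : ℤ) [X.IsGE a]
    (h : KillsH T J n X) :
    ∀ (k : ℕ) (i : ℤ), i ≤ n → i < a + k → ∀ (L : Type u) [AddCommGroup L] [Module A L] [Module.Finite A L],
      Module.support A L ⊆ T → ∀ r ∈ J ^ k, ∀ φ : Dual.inD A L ⟶ X⟦i⟧, r • φ = 0 := by
  let t := DerivedCategory.TStructure.t (C := ModuleCat.{u} A)
  intro k
  induction k with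
  | zero =>
    intro i _ hi L _ _ _ _ r _ φ
    haveI : DerivedCategory.IsGE (X⟦i⟧) (a - i) := t.isGE_shift _ a i (a - i) (by omega)
    rw [t.zero φ 0 (a - i) (by push_cast at hi; omega), smul_zero]
  | succ k ih =>
    intro i hi hik L _ _ _ hL r hr φ
    rw [pow_succ] at hr
    refine Submodule.mul_induction_on hr (fun b hb c hc => ?_) fun x y hx hy => by rw [add_smul, hx, hy, add_zero]
    obtain ⟨m, v, hv⟩ := Module.Finite.exists_fin (R := A) (M := L)
    let Q₀ := Module.annihilator A L
    have hQ₀ : PrimeSpectrum.zeroLocus (Q₀ : Set A) ⊆ T := Module.support_eq_zeroLocus (R := A) (M := L) ▸ hL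
    let S := DerivedCategory.singleFunctor (ModuleCat.{u} A) 0
    let ev : Fin m → ((A ⧸ Q₀) →ₗ[A] L) := fun j =>
      Submodule.liftQ Q₀ (LinearMap.toSpanSingleton A L (v j)) fun x hx => Module.mem_annihilator.1 hx (v j)
    have hj : ∀ j, ∃ (Q' : Ideal A) (_ : PrimeSpectrum.zeroLocus (Q' : Set A) ⊆ T) (hle : Q' ≤ Q₀),
        q hle ≫ (c • (S.map (ModuleCat.ofHom (ev j)) ≫ φ)) = 0 := fun j =>
      (mk_eq_zero_iff hQ₀ _).1 (by rw [map_smul]; exact h i hi c hc _)
    choose Q' hQ' hle hzero using hj
    let Q₁ := Q₀ ⊓ Finset.univ.inf Q'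
    have hQ₁ : PrimeSpectrum.zeroLocus (Q₁ : Set A) ⊆ T := by
      rw [PrimeSpectrum.zeroLocus_inf]
      refine Set.union_subset hQ₀ fun P hP => ?_
      obtain ⟨j, -, hj⟩ := (P.isPrime.inf_le' (s := Finset.univ) (f := Q')).1 hP
      exact hQ' j hj
    have hQj : ∀ j, Q₁ ≤ Q' j := fun j => inf_le_right.trans (Finset.inf_le (Finset.mem_univ j))
    let π : (Fin m → A ⧸ Q₁) →ₗ[A] L :=
      ∑ j, ((ev j).comp (Submodule.mapQ Q₁ Q₀ LinearMap.id inf_le_left)).comp (LinearMap.proj j)
    have hπ : Function.Surjective π := fun z => by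
      have hz : z ∈ Submodule.span A (Set.range v) := by rw [hv]; trivial
      obtain ⟨g, hg⟩ := (Submodule.mem_span_range_iff_exists_fun A).1 hz
      refine ⟨fun j => Submodule.Quotient.mk (g j), ?_⟩
      rw [← hg]
      simp only [π, LinearMap.sum_apply, LinearMap.comp_apply]
      exact Finset.sum_congr rfl fun j _ => rfl
    let C : ShortComplex (ModuleCat.{u} A) := ShortComplex.mk (ModuleCat.ofHom (LinearMap.ker π).subtype)
      (ModuleCat.ofHom π) (ModuleCat.hom_ext (LinearMap.ext fun x => x.2))
    have hC : C.ShortExact :=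
      { exact := (ShortComplex.ShortExact.moduleCat_exact_iff_function_exact _).2 (LinearMap.exact_subtype_ker_map π)
        mono_f := (ModuleCat.mono_iff_injective _).2 (Submodule.injective_subtype _)
        epi_g := (ModuleCat.epi_iff_surjective _).2 hπ }
    have h0 : S.map (ModuleCat.ofHom π) ≫ (c • φ) = 0 := by
      have e : ModuleCat.ofHom π = ∑ j, ModuleCat.ofHom (LinearMap.proj (R := A) (φ := fun _ : Fin m => A ⧸ Q₁) j) ≫
          ModuleCat.ofHom (Submodule.mapQ Q₁ Q₀ LinearMap.id inf_le_left) ≫ ModuleCat.ofHom (ev j) := by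
        refine ModuleCat.hom_ext ?_
        rw [ModuleCat.hom_sum]
        rfl
      rw [e, Functor.map_sum, Preadditive.sum_comp]
      refine Finset.sum_eq_zero fun j _ => ?_
      rw [Functor.map_comp, Functor.map_comp, Category.assoc, Category.assoc]
      have hz : q (inf_le_left : Q₁ ≤ Q₀) ≫ S.map (ModuleCat.ofHom (ev j)) ≫ (c • φ) = 0 := by
        rw [← q_comp (hle j) (hQj j), Category.assoc, Linear.comp_smul]
        exact (congrArg (q (hQj j) ≫ ·) (hzero j)).trans comp_zero
      exact (congrArg (S.map (ModuleCat.ofHom (LinearMap.proj (R := A) (φ := fun _ : Fin m => A ⧸ Q₁) j)) ≫ ·) hz).trans comp_zero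
    obtain ⟨ψ, hψ⟩ := Triangle.yoneda_exact₃ _ hC.singleTriangle_distinguished (c • φ) h0
    have hker : Module.support A (LinearMap.ker π) ⊆ T := by
      refine Set.Subset.trans ?_ hQ₁
      rw [Module.support_eq_zeroLocus]
      refine PrimeSpectrum.zeroLocus_anti_mono fun x hx => Module.mem_annihilator.2 fun z => Subtype.ext (funext fun j => ?_)
      obtain ⟨y, hy⟩ := Submodule.Quotient.mk_surjective _ ((z : Fin m → A ⧸ Q₁) j)
      change x • (z : Fin m → A ⧸ Q₁) j = 0
      rw [← hy, ← Submodule.Quotient.mk_smul, Submodule.Quotient.mk_eq_zero]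
      exact Ideal.mul_mem_right y _ hx
    let ψ' : (Dual.inD A (LinearMap.ker π))⟦(1 : ℤ)⟧ ⟶ X⟦i⟧ := ψ
    have hb' : b • ψ' = 0 := by
      apply (shiftFunctor (Dual.D A) (-1 : ℤ)).map_injective
      rw [Functor.map_zero, Functor.map_smul]
      let e₁ : ((Dual.inD A (LinearMap.ker π))⟦(1 : ℤ)⟧)⟦(-1 : ℤ)⟧ ≅ Dual.inD A (LinearMap.ker π) :=
        (shiftFunctorCompIsoId (Dual.D A) (1 : ℤ) (-1) (by omega)).app _
      let e₂ : (X⟦i⟧)⟦(-1 : ℤ)⟧ ≅ X⟦i - 1⟧ := ((shiftFunctorAdd' (Dual.D A) i (-1) (i - 1) (by omega)).app X).symm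
      rw [← cancel_epi e₁.inv, ← cancel_mono e₂.hom, comp_zero, zero_comp, Linear.comp_smul, Linear.smul_comp]
      exact ih (i - 1) (by omega) (by push_cast at hik; omega) _ hker b hb _
    rw [mul_smul, hψ]
    refine (Linear.comp_smul (R := A) _ _ _ _ b ψ').symm.trans ?_
    exact (congrArg (hC.singleTriangle.mor₃ ≫ ·) hb').trans comp_zero

/-- Killing on the colimit gives killing at every level. -/
theorem exKills_of_killsH (hT : StableUnderSpecialization T) {T' : Set (PrimeSpectrum A)} {J : Ideal A} {n : ℤ}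
    (hJ : PrimeSpectrum.zeroLocus (J : Set A) ⊆ T') (X : Dual.D A) (a : ℤ) [X.IsGE a]
    (h : KillsH T J n X) : ExKills T T' n X := by
  refine ⟨J ^ ((n + 1 - a).toNat + 1), fun P hP => hJ (P.isPrime.le_of_pow_le hP), fun i hi L _ _ _ hL r hr φ => ?_⟩
  apply (shiftFunctor (Dual.D A) i).map_injective
  rw [Functor.map_zero, Functor.map_smul]
  let e₁ : ((Dual.inD A L)⟦-i⟧)⟦i⟧ ≅ Dual.inD A L := (shiftFunctorCompIsoId (Dual.D A) (-i) i (by omega)).app _
  rw [← cancel_epi e₁.inv, comp_zero, Linear.comp_smul]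
  exact exists_pow_kills hT X a h _ i hi (by push_cast; omega) L hL r hr _

lemma smul_eq_zero_of_le {J' J : Ideal A} {n : ℤ} {X : Dual.D A} (h : KillsH T J n X) (hle : J' ≤ J) :
    KillsH T J' n X := fun i hi r hr => h i hi r (hle hr)

/-- Annihilation gives finiteness. -/
theorem finite_of_killsH_aux (J₀ : Ideal A) (n : ℤ) :
    ∀ (l : List A) (J : Ideal A), (∀ f ∈ l, f ∈ J) → ∀ (X : Dual.D A) (a : ℤ), X.IsGE a →
      (∀ m, Module.Finite A (Dual.HD A X m)) → KillsH T J n X →
      (∀ m, ∀ P ∈ Module.support A (Dual.HD A X m), (∀ f ∈ l, f ∈ P.asIdeal) → P ∈ T) →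
      ∀ i ≤ n, Module.Finite A (Dual2.HDT A T X i) := by
  intro l
  induction hl : l.length generalizing l with
  | zero =>
    intro J _ X a ha hfin _ hs i _
    haveI := ha
    rw [List.length_eq_zero_iff] at hl
    subst hl
    exact finite_HDT_of_supp_isGE a X hfin (fun m P hP => hs m P hP (by simp)) i
  | succ k ih =>
    intro J hlJ X a ha hfin hkill hs i hi
    haveI := ha
    obtain ⟨f, l', rfl⟩ : ∃ f l', l = f :: l' := by
      cases l with
      | nil => simp at hl
      | cons f l' => exact ⟨f, l', rfl⟩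
    let φ : X ⟶ X := f • 𝟙 X
    obtain ⟨C, g, δ, hT'⟩ := distinguished_cocone_triangle φ
    let Tr := (Triangle.mk φ g δ).invRotate
    have hTr : Tr ∈ distTriang (Dual.D A) := inv_rot_of_distTriang _ hT'
    let H := fun j => DerivedCategory.homologyFunctor (ModuleCat.{u} A) j
    have hmul : ∀ m, (H m).map φ = f • 𝟙 ((H m).obj X) := fun m => by
      rw [Functor.map_smul, CategoryTheory.Functor.map_id]
    haveI hCge : DerivedCategory.IsGE C (a - 1) := (DerivedCategory.isGE_iff _ _).2 fun m hm =>
      (DerivedCategory.HomologySequence.exact₃ _ hT' m (m + 1) rfl).isZero_X₂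
        ((DerivedCategory.isZero_of_isGE X a m (by omega)).eq_of_src _ _)
        ((DerivedCategory.isZero_of_isGE X a (m + 1) (by omega)).eq_of_tgt _ _)
    haveI : DerivedCategory.IsGE Tr.obj₁ a := DerivedCategory.TStructure.t.isGE_shift C (a - 1) (-1 : ℤ) a (by omega)
    have hex : ∀ m, (ShortComplex.mk ((H m).map g) ((DerivedCategory.homologyFunctor (ModuleCat.{u} A) 0).shiftMap δ m (m + 1) (by omega))
        (DerivedCategory.HomologySequence.comp_δ _ hT' m (m + 1) rfl)).Exact := fun m =>
      DerivedCategory.HomologySequence.exact₃ _ hT' m (m + 1) rfl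
    have hfinC : ∀ m, Module.Finite A (Dual.HD A C m) := fun m => by
      haveI : Module.Finite A ((H m).obj X) := hfin m
      haveI : Module.Finite A (((DerivedCategory.homologyFunctor (ModuleCat.{u} A) 0).shift (m + 1)).obj X) := hfin (m + 1)
      exact finite_of_exact ((ShortComplex.ShortExact.moduleCat_exact_iff_function_exact _).1 (hex m))
    have hsC : ∀ m, ∀ P ∈ Module.support A (Dual.HD A C m), f ∈ P.asIdeal ∧
        (P ∈ Module.support A (Dual.HD A X m) ∨ P ∈ Module.support A (Dual.HD A X (m + 1))) := fun m P hP => by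
      have hfe := (ShortComplex.ShortExact.moduleCat_exact_iff_function_exact _).1 (hex m)
      refine ⟨?_, ?_⟩
      · have hkerδ : ∀ y : Dual.HD A C m, f • f • y = 0 := fun y => by
          have h1 : f • (DerivedCategory.homologyFunctor (ModuleCat.{u} A) 0).shiftMap δ m (m + 1) (by omega) y = 0 := by
            have := ConcreteCategory.congr_hom (DerivedCategory.HomologySequence.δ_comp _ hT' m (m + 1) rfl) y
            rw [ModuleCat.comp_apply] at this
            refine Eq.trans ?_ this
            change _ = ((H (m + 1)).map φ).hom _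
            rw [hmul]
            rfl
          obtain ⟨z, hz⟩ := (hfe (f • y)).1 (by rw [← h1]; exact map_smul _ f y)
          rw [← hz]
          have h2 : ((H m).map g).hom (((H m).map φ).hom z) = 0 := by
            have := congrArg (fun t => (H m).map t) (comp_distTriang_mor_zero₁₂ _ hT')
            rw [Functor.map_comp, Functor.map_zero] at this
            exact ConcreteCategory.congr_hom this z
          rw [hmul] at h2
          exact (map_smul _ f z).symm.trans h2
        have h3 : f * f ∈ P.asIdeal := Module.annihilator_le_of_mem_support hP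
          (Module.mem_annihilator.2 fun y => by rw [mul_smul]; exact hkerδ y)
        exact (P.isPrime.mem_or_mem h3).elim id id
      · by_contra hcon
        push_neg at hcon
        rw [Module.notMem_support_iff, Module.notMem_support_iff] at hcon
        refine Module.notMem_support_iff.2 ?_ hP
        haveI : Subsingleton (LocalizedModule P.asIdeal.primeCompl ((H m).obj X)) := hcon.1
        haveI : Subsingleton (LocalizedModule P.asIdeal.primeCompl
          (((DerivedCategory.homologyFunctor (ModuleCat.{u} A) 0).shift (m + 1)).obj X)) := hcon.2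
        exact subsingleton_of_forall_eq 0 fun z => by
          obtain ⟨w, rfl⟩ := (LocalizedModule.map_exact P.asIdeal.primeCompl _ _ hfe z).1 (Subsingleton.elim _ _)
          rw [Subsingleton.elim w 0, map_zero]
    have hfinTr : ∀ m, Module.Finite A (Dual.HD A Tr.obj₁ m) := fun m => by
      haveI : Module.Finite A (((DerivedCategory.homologyFunctor (ModuleCat.{u} A) 0).shift (m - 1)).obj C) := hfinC (m - 1)
      exact Module.Finite.equiv ((((DerivedCategory.homologyFunctor (ModuleCat.{u} A) 0).shiftIso (-1) m (m - 1)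
        (by omega)).app C).symm.toLinearEquiv)
    have hsTr : ∀ m, ∀ P ∈ Module.support A (Dual.HD A Tr.obj₁ m), P ∈ Module.support A (Dual.HD A C (m - 1)) :=
      fun m P hP => Module.support_subset_of_injective
        (((DerivedCategory.homologyFunctor (ModuleCat.{u} A) 0).shiftIso (-1) m (m - 1)
          (by omega)).app C).toLinearEquiv.toLinearMap (LinearEquiv.injective _) hP
    have hk₁ : KillsH T (J * J) n Tr.obj₁ := by
      refine killsH_middle Tr.invRotate (inv_rot_of_distTriang _ hTr) ?_ hkill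
      change KillsH T J n (X⟦(-1 : ℤ)⟧)
      exact fun j hj => killsH_shift hkill (-1) j (by omega)
    have hlen : (l'.map fun x => x * x).length = k := by
      rw [List.length_map]
      simpa using hl
    haveI := ih (l'.map fun x => x * x) hlen (J * J) (fun x hx => by
      obtain ⟨y, hy, rfl⟩ := List.mem_map.1 hx
      exact Ideal.mul_mem_mul (hlJ y (List.mem_cons_of_mem f hy)) (hlJ y (List.mem_cons_of_mem f hy)))
      Tr.obj₁ a inferInstance hfinTr hk₁ (fun m P hP hPl => by
        obtain ⟨hfP, hor⟩ := hsC (m - 1) P (hsTr m P hP)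
        have hall : ∀ y ∈ f :: l', y ∈ P.asIdeal := by
          intro y hy
          rcases List.mem_cons.1 hy with rfl | hy
          · exact hfP
          · exact (P.isPrime.mem_or_mem (hPl _ (List.mem_map.2 ⟨y, hy, rfl⟩))).elim id id
        exact hor.elim (fun h => hs _ P h hall) fun h => hs _ P h hall) i hi
    refine Module.Finite.of_surjective (hmap Tr.mor₁ i) fun z => ?_
    refine (exact_hmap Tr hTr i z).1 ?_
    obtain ⟨Q, hQ, ψ, rfl⟩ := exists_mk z
    have hz := hkill i hi f (hlJ f (List.mem_cons_self)) (mk Q hQ ψ)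
    rw [← map_smul] at hz
    refine (hmap_mk φ Q hQ ψ).trans ?_
    refine Eq.trans (congrArg (mk Q hQ) ?_) hz
    change ψ ≫ φ⟦i⟧' = f • ψ
    rw [Functor.map_smul, CategoryTheory.Functor.map_id, Linear.comp_smul, Category.comp_id]

/-- Annihilation gives finiteness. -/
theorem finite_of_killsH {J : Ideal A} (hJ : PrimeSpectrum.zeroLocus (J : Set A) ⊆ T) (n : ℤ) (X : Dual.D A) (a : ℤ)
    [X.IsGE a] (hfin : ∀ m, Module.Finite A (Dual.HD A X m)) (h : KillsH T J n X) :
    ∀ i ≤ n, Module.Finite A (Dual2.HDT A T X i) := by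
  obtain ⟨s, hs⟩ := (IsNoetherian.noetherian J : J.FG)
  refine finite_of_killsH_aux J n s.toList J (fun f hf => ?_) X a inferInstance hfin h fun m P _ hP => hJ ?_
  · rw [← hs]
    exact Submodule.subset_span (Finset.mem_toList.1 hf)
  · show J ≤ P.asIdeal
    rw [← hs, Submodule.span_le]
    exact fun f hf => hP f (Finset.mem_toList.2 hf)

/-- Finiteness gives annihilation. -/
theorem killsH_of_finite (n : ℤ) (X : Dual.D A) (a : ℤ) [X.IsGE a]
    (h : ∀ i ≤ n, Module.Finite A (Dual2.HDT A T X i)) :
    ∃ J : Ideal A, PrimeSpectrum.zeroLocus (J : Set A) ⊆ T ∧ KillsH T J n X := by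
  let t := DerivedCategory.TStructure.t (C := ModuleCat.{u} A)
  suffices key : ∀ k : ℕ, ∃ J : Ideal A, PrimeSpectrum.zeroLocus (J : Set A) ⊆ T ∧
      ∀ i ≤ n, i < a + k → ∀ r ∈ J, ∀ z : Dual2.HDT A T X i, r • z = 0 by
    obtain ⟨J, hJ, hk⟩ := key ((n - a).toNat + 1)
    exact ⟨J, hJ, fun i hi => hk i hi (by push_cast; omega)⟩
  intro k
  induction k with
  | zero =>
    refine ⟨⊤, by simp, fun i _ hi r _ z => ?_⟩
    obtain ⟨Q, hQ, φ, rfl⟩ := exists_mk z
    haveI : DerivedCategory.IsGE (X⟦i⟧) (a - i) := t.isGE_shift _ a i (a - i) (by omega)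
    rw [t.zero φ 0 (a - i) (by push_cast at hi; omega), map_zero, smul_zero]
  | succ k ih =>
    obtain ⟨J, hJ, hk⟩ := ih
    by_cases hkn : a + (k : ℤ) ≤ n
    · haveI := h (a + k) hkn
      obtain ⟨m, v, hv⟩ := Module.Finite.exists_fin (R := A) (M := Dual2.HDT A T X (a + k))
      choose Q hQ φ hφ using fun j => exists_mk (v j)
      let Q₁ := Finset.univ.inf Q
      refine ⟨J ⊓ Q₁, ?_, fun i hi hik r hr z => ?_⟩
      · rw [PrimeSpectrum.zeroLocus_inf]
        refine Set.union_subset hJ fun P hP => ?_
        obtain ⟨j, -, hj⟩ := (P.isPrime.inf_le' (s := Finset.univ) (f := Q)).1 hP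
        exact hQ j hj
      · by_cases hlt : i < a + k
        · exact hk i hi hlt r hr.1 z
        obtain rfl : i = a + k := by push_cast at hik; omega
        have hz : z ∈ Submodule.span A (Set.range v) := by rw [hv]; trivial
        induction hz using Submodule.span_induction with
        | mem x hx =>
          obtain ⟨j, rfl⟩ := hx
          rw [← hφ j, ← map_smul, smul_hom_inD_eq_zero (fun y => by
            obtain ⟨y, rfl⟩ := Submodule.Quotient.mk_surjective _ y
            rw [← Submodule.Quotient.mk_smul]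
            exact (Submodule.Quotient.mk_eq_zero _).2 ((Q j).mul_mem_right y ((Finset.inf_le (Finset.mem_univ j) : Q₁ ≤ Q j) hr.2))) (φ j),
            map_zero]
        | zero => rw [smul_zero]
        | add x y _ _ hx hy => rw [smul_add, hx, hy, add_zero]
        | smul c x _ hx => rw [smul_comm, hx, smul_zero]
    · exact ⟨J, hJ, fun i hi _ => hk i hi (by omega)⟩

end Groth.Agent.RGammaI.SuppHDT
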