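import Groth.Agent.RGammaI.SuppHDTMain
import Groth.Agent.RGammaI.ShriekDual
import Groth.Agent.RGammaI.DualRows
import Groth.Agent.KFlatLib.Ring.InvertibleTwist
import Groth.Agent.LC.InjBasic

/-! The supports of the dual and local cohomology at primes. -/

set_option linter.style.haveILetI false
set_option maxHeartbeats 1000000
set_option backward.isDefEq.respectTransparency false

universe u

open CategoryTheory CategoryTheory.Limits Pretriangulated Opposite TensorProduct

attribute [local instance] HasDerivedCategory.standard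

namespace Groth.Agent.RGammaI.SuppLocal

open Groth.Agent.KFlatLib SuppDual

variable {A : Type u} [CommRing A] [IsNoetherianRing A] {ω : Dual.D A} (hω : Dual.IsDualizing A ω)

section Flat

variable {B : Type u} [CommRing B] [IsNoetherianRing B] [Algebra A B] [Module.Flat A B]
  [DTen.HasLBase (algebraMap A B)]

include hω in
/-- Maps into a dualizing complex commute with flat base change. -/
theorem exists_homLEquiv (hB : Dual.IsDualizing B ((DTen.LBase (algebraMap A B)).obj ω))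
    (K : Dual.D A) (hK : ∀ i, Module.Finite A (Dual.HD A K i)) (i : ℤ) :
    Nonempty (((DTen.LBase (algebraMap A B)).obj K ⟶ ((DTen.LBase (algebraMap A B)).obj ω)⟦i⟧) ≃ₗ[B]
      B ⊗[A] (K ⟶ ω⟦i⟧)) := by
  haveI := hasLTen A
  haveI := hasRHom (A := A)
  haveI := hasLTen B
  haveI := hasRHom (A := B)
  haveI := hasResTen (algebraMap A B)
  haveI := resLegIso (algebraMap A B)
  haveI := hasLTen₃ A
  haveI := hasLTen₃ B
  haveI := isSymMonoidal A
  haveI := isSymMonoidal B
  haveI := isIso_rhomBC (algebraMap A B) K ((DTen.LBase (algebraMap A B)).obj ω)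
  haveI := ShriekDual.isIso_bcRHom_of_finite_hd (algebraMap A B)
    (hasTorAmplitudeIn_resUnitCx (algebraMap A B) flat_algebraMap') K ω hK
    (finiteInjDim_of_isDualizing hω) (finiteInjDim_of_isDualizing hB)
  obtain ⟨e₁⟩ := exists_hdRHomShiftLEquiv ((DTen.LBase (algebraMap A B)).obj K)
    ((DTen.LBase (algebraMap A B)).obj ω) i
  obtain ⟨e₂⟩ := exists_hdLBaseLEquiv (B := B) ((DTen.RHomR A K).obj ω) i
  obtain ⟨e₃⟩ := exists_hdRHomShiftLEquiv K ω i
  exact ⟨e₁.symm.trans (((DerivedCategory.homologyFunctor (ModuleCat.{u} B) i).mapIso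
    (asIso (DTen.bcRHom (algebraMap A B) K ω))).symm.toLinearEquiv.trans
      (e₂.trans (TensorProduct.AlgebraTensorModule.congr (LinearEquiv.refl B B) e₃)))⟩

end Flat

variable {n : PrimeSpectrum A → ℤ} (hn : IsExtDegree ω n)

/-- The complex, at a prime. -/
noncomputable abbrev loc (p : PrimeSpectrum A) [DTen.HasLBase (algebraMap A (Localization.AtPrime p.asIdeal))] :
    Dual.D A ⥤ Dual.D (Localization.AtPrime p.asIdeal) :=
  DTen.LBase (algebraMap A (Localization.AtPrime p.asIdeal))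

variable (p : PrimeSpectrum A) [DTen.HasLBase (algebraMap A (Localization.AtPrime p.asIdeal))]

local notation "Aₚ" => Localization.AtPrime (PrimeSpectrum.asIdeal p)

include hω in
lemma isDualizing_loc : Dual.IsDualizing Aₚ ((loc p).obj ω) := by
  haveI : Module.Flat A Aₚ := IsLocalization.flat _ p.asIdeal.primeCompl
  exact isDualizing_LBase hω fun N _ =>
    ⟨N.comap (algebraMap A Aₚ), IsLocalization.map_comap p.asIdeal.primeCompl _ N⟩

include hω hn in
/-- The normalized dualizing complex at a prime. -/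
theorem isNormalized_loc : Dual.IsNormalized Aₚ (((loc p).obj ω)⟦n p⟧) := by
  obtain ⟨a, b, -, hGE, -⟩ := exists_bounds_of_isDualizing hω
  haveI := hGE
  intro i hi
  obtain ⟨e⟩ := exists_localExtLEquiv (ω := ω) a p.asIdeal p.asIdeal (n p + i)
  haveI : Subsingleton (LocalizedModule p.asIdeal.primeCompl (Dual.inD A (A ⧸ p.asIdeal) ⟶ ω⟦n p + i⟧)) :=
    not_nontrivial_iff_subsingleton.1 fun h => hi (by have := (hn p _).1 h; omega)
  rw [Localization.AtPrime.map_eq_maximalIdeal] at e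
  haveI : Subsingleton (Dual.inD Aₚ (IsLocalRing.ResidueField Aₚ) ⟶ ((loc p).obj ω)⟦n p + i⟧) :=
    e.injective.subsingleton
  exact ((Iso.refl _).homCongr ((shiftFunctorAdd (Dual.D Aₚ) (n p) i).app ((loc p).obj ω))).symm.injective.subsingleton

include hω hn in
/-- Vanishing of local cohomology at a prime is read off from the dual. -/
theorem subsingleton_HDI_loc_iff [DTen.HasLTen A] [DTen.HasRHom A] (K : Dual.D A)
    (hK : ∀ i, Module.Finite A (Dual.HD A K i)) (i : ℤ) :
    Subsingleton ↑(Dual2.HDI Aₚ (IsLocalRing.maximalIdeal Aₚ) ((loc p).obj K) i) ↔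
      p ∉ Module.support A (Dual.HD A (dd ω K) (n p - i)) := by
  haveI : Module.Flat A Aₚ := IsLocalization.flat _ p.asIdeal.primeCompl
  have hB := isDualizing_loc hω p
  have hω'' := isDualizing_shift hB (n p)
  obtain ⟨E, _, _, f, hf⟩ := LC.exists_injectiveHull Aₚ (IsLocalRing.ResidueField Aₚ)
  rw [← subsingleton_hom_iff hω'' (isNormalized_loc hω hn p) hf ((loc p).obj K)
    (fun j => finite_hd_LBase K j (hK j)) i]
  obtain ⟨e⟩ := exists_homLEquiv (B := Aₚ) hω hB K hK (n p - i)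
  obtain ⟨c⟩ := exists_hdRHomShiftLEquiv K ω (n p - i)
  rw [Module.notMem_support_iff]
  let s : ((loc p).obj K ⟶ (((loc p).obj ω)⟦n p⟧)⟦-i⟧) ≃ ((loc p).obj K ⟶ ((loc p).obj ω)⟦n p - i⟧) :=
    (Iso.refl _).homCongr (((shiftFunctorAdd' (Dual.D Aₚ) (n p) (-i) (n p - i) (by omega)).app _).symm)
  let t := LocalizedModule.equivTensorProduct p.asIdeal.primeCompl (K ⟶ ω⟦n p - i⟧)
  let u := IsLocalizedModule.mapEquiv p.asIdeal.primeCompl (LocalizedModule.mkLinearMap p.asIdeal.primeCompl _)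
    (LocalizedModule.mkLinearMap p.asIdeal.primeCompl _) Aₚ c
  let z : ((loc p).obj K ⟶ (((loc p).obj ω)⟦n p⟧)⟦-i⟧) ≃ LocalizedModule p.asIdeal.primeCompl (Dual.HD A (dd ω K) (n p - i)) :=
    s.trans (e.toEquiv.trans (t.symm.toEquiv.trans u.symm.toEquiv))
  exact ⟨fun h => z.symm.injective.subsingleton, fun h => z.injective.subsingleton⟩

include hω hn in
/-- A scalar killing `H^i` at a prime kills the localized dual. -/
theorem mul_eq_zero_of_HDI_loc [DTen.HasLTen A] [DTen.HasRHom A] (K : Dual.D A)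
    (hK : ∀ i, Module.Finite A (Dual.HD A K i)) (i : ℤ) (r : A)
    (h : ∀ z : Dual2.HDI Aₚ (IsLocalRing.maximalIdeal Aₚ) ((loc p).obj K) i, algebraMap A Aₚ r • z = 0)
    (x : Dual.HD A (dd ω K) (n p - i)) : ∃ t ∉ p.asIdeal, (t * r) • x = 0 := by
  haveI : Module.Flat A Aₚ := IsLocalization.flat _ p.asIdeal.primeCompl
  have hB := isDualizing_loc hω p
  have hω'' := isDualizing_shift hB (n p)
  obtain ⟨E, _, _, f, hf⟩ := LC.exists_injectiveHull Aₚ (IsLocalRing.ResidueField Aₚ)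
  have hann : algebraMap A Aₚ r ∈ Module.annihilator Aₚ ((loc p).obj K ⟶ (((loc p).obj ω)⟦n p⟧)⟦-i⟧) := by
    rw [annihilator_hom_eq hω'' (isNormalized_loc hω hn p) hf ((loc p).obj K)
      (fun j => finite_hd_LBase K j (hK j)) i]
    exact Module.mem_annihilator.2 h
  obtain ⟨e⟩ := exists_homLEquiv (B := Aₚ) hω hB K hK (n p - i)
  obtain ⟨c⟩ := exists_hdRHomShiftLEquiv K ω (n p - i)
  let w := ((shiftFunctorAdd' (Dual.D Aₚ) (n p) (-i) (n p - i) (by omega)).app ((loc p).obj ω))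
  have key : ∀ y : Aₚ ⊗[A] (K ⟶ ω⟦n p - i⟧), algebraMap A Aₚ r • y = 0 := fun y => by
    obtain ⟨φ, rfl⟩ := e.surjective y
    rw [← map_smul]
    convert map_zero e
    rw [← cancel_mono w.hom, zero_comp, Linear.smul_comp]
    exact Module.mem_annihilator.1 hann _
  have h1 : (1 : Aₚ) ⊗ₜ[A] (r • c x) = 0 := by
    rw [TensorProduct.tmul_smul, ← algebraMap_smul Aₚ r]
    exact key _
  haveI : IsLocalizedModule p.asIdeal.primeCompl (TensorProduct.mk A Aₚ (K ⟶ ω⟦n p - i⟧) 1) :=
    (isLocalizedModule_iff_isBaseChange p.asIdeal.primeCompl Aₚ _).2 (TensorProduct.isBaseChange A _ Aₚ)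
  obtain ⟨t, ht⟩ := (IsLocalizedModule.eq_zero_iff p.asIdeal.primeCompl
    (TensorProduct.mk A Aₚ (K ⟶ ω⟦n p - i⟧) 1)).1 h1
  refine ⟨t, t.2, c.injective ?_⟩
  rw [map_smul, map_zero, mul_smul]
  exact ht

omit hω hn in
/-- Killing maps from modules supported in `T` kills local cohomology at a point of `T`. -/
theorem HDI_loc_smul_eq_zero {T : Set (PrimeSpectrum A)} (hT : StableUnderSpecialization T) (hp : p ∈ T)
    {J : Ideal A} {s : ℤ} (K : Dual.D A) (c : ℤ) [K.IsGE c] (h : Kills T J s K) (i : ℤ) (hi : i ≤ s) (r : A)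
    (hr : r ∈ J) (z : Dual2.HDI Aₚ (IsLocalRing.maximalIdeal Aₚ) ((loc p).obj K) i) :
    algebraMap A Aₚ r • z = 0 := by
  haveI : Module.Flat A Aₚ := IsLocalization.flat _ p.asIdeal.primeCompl
  let D := (localCohomology.ringModIdeals (localCohomology.idealPowersDiagram (IsLocalRing.maximalIdeal Aₚ)) ⋙
      DerivedCategory.singleFunctor (ModuleCat.{u} Aₚ) 0).op ⋙ (linearYoneda Aₚ (Dual.D Aₚ)).obj (((loc p).obj K)⟦i⟧)
  haveI : PreservesFilteredColimitsOfSize.{0, 0} (forget AddCommGrpCat.{u + 1}) :=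
    preservesFilteredColimitsOfSize_shrink _
  haveI : PreservesColimitsOfShape ℕᵒᵖᵒᵖ (forget AddCommGrpCat.{u + 1}) :=
    PreservesFilteredColimitsOfSize.preserves_filtered_colimits _
  haveI : PreservesColimit D (forget (ModuleCat.{u + 1} Aₚ)) :=
    (comp_preservesColimit (forget₂ (ModuleCat.{u + 1} Aₚ) AddCommGrpCat.{u + 1}) (forget AddCommGrpCat.{u + 1}) :
      PreservesColimit D (forget₂ (ModuleCat.{u + 1} Aₚ) AddCommGrpCat.{u + 1} ⋙ forget AddCommGrpCat.{u + 1}))
  obtain ⟨⟨⟨N⟩⟩, φ, rfl⟩ := Concrete.colimit_exists_rep D z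
  rw [← map_smul]
  suffices key : ∀ ψ : Dual.inD Aₚ (Aₚ ⧸ IsLocalRing.maximalIdeal Aₚ ^ N) ⟶ ((loc p).obj K)⟦i⟧,
      algebraMap A Aₚ r • ψ = 0 by
    refine (congrArg (colimit.ι D _).hom ?_).trans (LinearMap.map_zero (colimit.ι D (op (op N))).hom)
    exact key φ
  intro ψ
  let Q : Ideal A := p.asIdeal ^ N
  obtain ⟨eQ⟩ := nonempty_LBase_inD_quotient (B := Aₚ) Q
  obtain ⟨e⟩ := exists_homBaseChangeLEquiv (B := Aₚ) (X := Dual.inD A (A ⧸ Q)) (Y := K)
    ((Groth.Agent.S6942.result A 0 (Dual.inD A (A ⧸ Q)) (A ⧸ Q)).2.2 inferInstance) c i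
  have hQ : Q.map (algebraMap A Aₚ) = IsLocalRing.maximalIdeal Aₚ ^ N := by
    rw [Ideal.map_pow, Localization.AtPrime.map_eq_maximalIdeal]
  rw [hQ] at eQ
  have hsupp : Module.support A (A ⧸ Q) ⊆ T := by
    rw [Module.support_eq_zeroLocus, Ideal.annihilator_quotient]
    exact fun P hP => hT ((PrimeSpectrum.le_iff_specializes _ _).1 (P.isPrime.le_of_pow_le hP)) hp
  have hk : ∀ f : Dual.inD A (A ⧸ Q) ⟶ K⟦i⟧, r • f = 0 := fun f => by
    let e₂ : (K⟦i⟧)⟦-i⟧ ≅ K := (shiftFunctorCompIsoId (Dual.D A) i (-i) (by omega)).app K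
    apply (shiftFunctor (Dual.D A) (-i)).map_injective
    rw [Functor.map_zero, Functor.map_smul, ← cancel_mono e₂.hom, zero_comp, Linear.smul_comp]
    exact h i hi (A ⧸ Q) hsupp r hr _
  have key : ∀ y : Aₚ ⊗[A] (Dual.inD A (A ⧸ Q) ⟶ K⟦i⟧), algebraMap A Aₚ r • y = 0 := fun y => by
    induction y using TensorProduct.induction_on with
    | zero => rw [smul_zero]
    | tmul b f => rw [algebraMap_smul, ← TensorProduct.tmul_smul, hk, TensorProduct.tmul_zero]
    | add y y' hy hy' => rw [smul_add, hy, hy', add_zero]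
  rw [← cancel_epi eQ.hom, comp_zero, Linear.comp_smul]
  exact e.injective (by rw [map_smul, key, map_zero])

end Groth.Agent.RGammaI.SuppLocal
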