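import Groth.Agent.RGammaI.Colim
import Groth.Agent.RGammaI.Main
import Groth.Agent.TriCat.KInjRes
import Groth.Agent.KFlatLib.Scheme.ExtZero
import Groth.Agent.TorsionBC7.Basic
import Mathlib.CategoryTheory.Localization.Adjunction
import Mathlib.Algebra.Category.ModuleCat.Descent
import Mathlib.RingTheory.RingHom.Flat

/-! Maps out of power torsion modules do not see a base change which is an isomorphism mod the ideal. -/

set_option linter.style.haveILetI false
set_option maxHeartbeats 1000000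

universe u

open CategoryTheory CategoryTheory.Limits CategoryTheory.Pretriangulated
open CochainComplex hiding shiftFunctor
open scoped TensorProduct ZeroObject

attribute [local instance] HasDerivedCategory.standard

namespace Groth.Agent.RGammaI.TorsionBC

variable {A : Type u} [CommRing A]

/-- `g` kills `X` in `D(A)`. -/
abbrev Kills (g : A) (X : Dual.D A) : Prop := g • 𝟙 X = 0

lemma kills_shift {g : A} {X : Dual.D A} (h : Kills g X) (n : ℤ) : Kills g (X⟦n⟧) := by
  have h1 := congrArg (fun t => (shiftFunctor (Dual.D A) n).map t) h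
  simp only [Functor.map_smul, CategoryTheory.Functor.map_id, Functor.map_zero] at h1
  exact h1

lemma kills_of_comp {g : A} {X Z : Dual.D A} {b : X ⟶ Z} {c : Z ⟶ X⟦(1 : ℤ)⟧} {a : X ⟶ X}
    (hT : Triangle.mk a b c ∈ distTriang (Dual.D A)) (hb : g • b = 0) (hc : g • c = 0) :
    Kills (g * g) Z := by
  obtain ⟨s, hs⟩ := Triangle.coyoneda_exact₃ _ hT (g • 𝟙 Z) (by
    show (g • 𝟙 Z) ≫ c = 0
    rw [Linear.smul_comp, Category.id_comp, hc])
  show (g * g) • 𝟙 Z = 0
  let s' : Z ⟶ X := s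
  rw [← smul_smul, show g • 𝟙 Z = s' ≫ b from hs, ← Linear.comp_smul, hb]
  exact comp_zero

lemma kills_cone {f : A} {X Z : Dual.D A} {b : X ⟶ Z} {c : Z ⟶ X⟦(1 : ℤ)⟧}
    (hT : Triangle.mk (f • 𝟙 X) b c ∈ distTriang (Dual.D A)) :
    Kills (f * f) Z ∧ ∀ g, Kills g X → Kills (g * g) Z := by
  refine ⟨kills_of_comp hT ?_ ?_, fun g hg => kills_of_comp hT ?_ ?_⟩
  · have h : (f • 𝟙 X) ≫ b = 0 := comp_distTriang_mor_zero₁₂ _ hT
    rwa [Linear.smul_comp, Category.id_comp] at h
  · have h : c ≫ (f • 𝟙 X)⟦(1 : ℤ)⟧' = 0 := comp_distTriang_mor_zero₃₁ _ hT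
    rwa [Functor.map_smul, CategoryTheory.Functor.map_id, Linear.comp_smul, Category.comp_id] at h
  · rw [← Category.id_comp b, ← Linear.smul_comp, show g • 𝟙 X = 0 from hg, zero_comp]
  · rw [← Category.comp_id c, ← Linear.comp_smul, show g • 𝟙 (X⟦(1 : ℤ)⟧) = 0 from kills_shift hg 1, comp_zero]

/-- Cancelling a cone of multiplication. -/
lemma bijective_step {f : A} {P : Dual.D A → Prop} (hP : ∀ W, P W → Kills f W)
    (hPs : ∀ W (n : ℤ), P W → P (W⟦n⟧)) {X Y Z Z' : Dual.D A}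
    {b : X ⟶ Z} {c : Z ⟶ X⟦(1 : ℤ)⟧} (hT : Triangle.mk (f • 𝟙 X) b c ∈ distTriang (Dual.D A))
    {b' : Y ⟶ Z'} {c' : Z' ⟶ Y⟦(1 : ℤ)⟧} (hT' : Triangle.mk (f • 𝟙 Y) b' c' ∈ distTriang (Dual.D A))
    (u : X ⟶ Y) (w : Z ⟶ Z') (hb : b ≫ w = u ≫ b') (hc : c ≫ u⟦(1 : ℤ)⟧' = w ≫ c')
    (hw : ∀ W, P W → Function.Bijective fun φ : W ⟶ Z => φ ≫ w) :
    ∀ W, P W → Function.Bijective fun φ : W ⟶ X => φ ≫ u := by
  intro W hW
  refine ⟨fun φ φ' h => sub_eq_zero.1 ?_, fun φ => ?_⟩
  · have h0 : (φ - φ') ≫ u = 0 := by rw [Preadditive.sub_comp]; exact sub_eq_zero.2 h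
    generalize φ - φ' = φ at h0
    have h1 : φ ≫ b = 0 := (hw W hW).1 (by
      show (φ ≫ b) ≫ w = 0 ≫ w
      rw [Category.assoc, hb, ← Category.assoc, h0, zero_comp, zero_comp])
    obtain ⟨g, hg⟩ := Triangle.coyoneda_exact₂ _ hT φ h1
    have key : ∀ g' : W ⟶ X, g' ≫ (f • 𝟙 X) = 0 := fun g' => by
      rw [Linear.comp_smul, Category.comp_id, ← Category.id_comp g', ← Linear.smul_comp,
        show f • 𝟙 W = 0 from hP W hW, zero_comp]
    exact hg.trans (key g)
  · have hW1 := hPs W 1 hW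
    obtain ⟨ζ, hζ⟩ := Triangle.coyoneda_exact₁ _ hT' (φ⟦(1 : ℤ)⟧') (by
      show φ⟦(1 : ℤ)⟧' ≫ (f • 𝟙 Y)⟦(1 : ℤ)⟧' = 0
      rw [← Functor.map_comp, Linear.comp_smul, Category.comp_id, ← Category.id_comp φ, ← Linear.smul_comp,
        show f • 𝟙 W = 0 from hP W hW, zero_comp, Functor.map_zero])
    obtain ⟨ξ, rfl⟩ := (hw _ hW1).2 ζ
    obtain ⟨ψ, hψ⟩ := (shiftFunctor (Dual.D A) (1 : ℤ)).map_surjective (ξ ≫ c)
    refine ⟨ψ, (shiftFunctor (Dual.D A) (1 : ℤ)).map_injective ?_⟩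
    show (ψ ≫ u)⟦(1 : ℤ)⟧' = φ⟦(1 : ℤ)⟧'
    rw [Functor.map_comp, hψ, Category.assoc, hc, show φ⟦(1 : ℤ)⟧' = (ξ ≫ w) ≫ c' from hζ, Category.assoc]

section Induction

variable (F : ModuleCat.{u} A ⥤ ModuleCat.{u} A) [F.Additive] [F.Linear A]
  [PreservesFiniteLimits F] [PreservesFiniteColimits F] (η : 𝟭 (ModuleCat.{u} A) ⟶ F)

/-- `F` on complexes. -/
noncomputable abbrev Fc : DRing.Cx A ⥤ DRing.Cx A := F.mapHomologicalComplex (ComplexShape.up ℤ)

/-- `η` on complexes. -/
noncomputable def ηc (X : DRing.Cx A) : X ⟶ (Fc F).obj X where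
  f n := η.app (X.X n)
  comm' i j _ := (η.naturality (X.d i j)).symm

lemma ηc_naturality {X Y : DRing.Cx A} (g : X ⟶ Y) : g ≫ ηc F η Y = ηc F η X ≫ (Fc F).map g :=
  HomologicalComplex.hom_ext _ _ fun n => η.naturality (g.f n)

lemma ηc_cone {X Y : DRing.Cx A} (g : X ⟶ Y) :
    ηc F η (mappingCone g) ≫ (mappingCone.mapHomologicalComplexIso g F).hom =
      mappingCone.map g ((Fc F).map g) (ηc F η X) (ηc F η Y) (ηc_naturality F η g) := by
  refine HomologicalComplex.hom_ext _ _ fun n => ?_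
  rw [mappingCone.ext_from_iff _ (n + 1) n rfl]
  have h1 := η.naturality ((mappingCone.inl g).v (n + 1) n (by omega))
  have h2 := η.naturality ((mappingCone.inr g).f n)
  simp only [Functor.id_map] at h1 h2
  simp only [HomologicalComplex.comp_f, ηc, mappingCone.map, mappingCone.mapHomologicalComplexIso,
    HomologicalComplex.Hom.isoOfComponents_hom_f, mappingCone.mapHomologicalComplexXIso_eq g F n (n + 1) rfl,
    mappingCone.mapHomologicalComplexXIso'_hom]
  constructor
  · refine (Category.assoc _ _ _).symm.trans ((congrArg (· ≫ _) h1).trans ?_)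
    simp [← Functor.map_comp_assoc]
    rfl
  · refine (Category.assoc _ _ _).symm.trans ((congrArg (· ≫ _) h2).trans ?_)
    simp [← Functor.map_comp_assoc]
    rfl

lemma quasiIso_ηc (X : DRing.Cx A)
    (h : ∀ i, IsIso (η.app (X.homology i))) : QuasiIso (ηc F η X) := by
  refine ⟨fun i => ?_⟩
  rw [quasiIsoAt_iff_isIso_homologyMap]
  have e := NatTrans.app_homology η (X.sc i)
  haveI := h i
  haveI : IsIso (η.app (X.sc i).homology) := h i
  rw [e, isIso_comp_left_iff, isIso_comp_right_iff] at this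
  exact this

lemma map_smul_id (f : A) (X : DRing.Cx A) : (Fc F).map (f • 𝟙 X) = f • 𝟙 ((Fc F).obj X) := by
  refine HomologicalComplex.hom_ext _ _ fun n => ?_
  show F.map (f • 𝟙 (X.X n)) = f • 𝟙 (F.obj (X.X n))
  rw [Functor.map_smul, CategoryTheory.Functor.map_id]

lemma Q_smul_id (f : A) (X : DRing.Cx A) :
    DerivedCategory.Q.map (f • 𝟙 X) = f • 𝟙 (DerivedCategory.Q.obj X) := by
  rw [Functor.map_smul, CategoryTheory.Functor.map_id]

lemma smul_eq_zero_of_kills {g : A} {X : DRing.Cx A} (h : Kills g (DerivedCategory.Q.obj X)) (i : ℤ)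
    (x : X.homology i) : g • x = 0 := by
  have h1 : DerivedCategory.Q.map (g • 𝟙 X) = 0 := (Q_smul_id g X).trans h
  have h2 := (DerivedCategory.homologyFunctorFactors (ModuleCat.{u} A) i).hom.naturality (g • 𝟙 X)
  rw [Functor.comp_map, h1, Functor.map_zero, zero_comp] at h2
  have h3 : HomologicalComplex.homologyMap (g • 𝟙 X) i = 0 :=
    (cancel_epi ((DerivedCategory.homologyFunctorFactors (ModuleCat.{u} A) i).hom.app X)).1
      (h2.symm.trans comp_zero.symm)
  have h4 : HomologicalComplex.homologyMap (g • 𝟙 X) i = g • 𝟙 _ := by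
    have hsc : (HomologicalComplex.shortComplexFunctor (ModuleCat.{u} A) (ComplexShape.up ℤ) i).map (g • 𝟙 X) =
        g • 𝟙 (X.sc i) := by ext <;> rfl
    show ShortComplex.homologyMap ((HomologicalComplex.shortComplexFunctor _ _ i).map (g • 𝟙 X)) = _
    rw [hsc, ShortComplex.homologyMap_smul, ShortComplex.homologyMap_id]
    rfl
  exact ConcreteCategory.congr_hom (h4.symm.trans h3) x

variable (L : List A) (hη : ∀ H : ModuleCat.{u} A, (∀ a ∈ L, ∃ N : ℕ, ∀ x : H, a ^ N • x = 0) → IsIso (η.app H))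

include hη in
/-- Objects killed by all of `L` do not see `η`. -/
theorem bijective_comp_η : ∀ (l : List A) (X : DRing.Cx A),
    (∀ a ∈ L, a ∈ l ∨ ∃ N : ℕ, Kills (a ^ N) (DerivedCategory.Q.obj X)) → (∀ a ∈ l, a ∈ L) →
      ∀ W : Dual.D A, (∀ a ∈ L, Kills a W) →
        Function.Bijective fun φ : W ⟶ DerivedCategory.Q.obj X => φ ≫ DerivedCategory.Q.map (ηc F η X) := by
  intro l
  induction l with
  | nil =>
    intro X hX _ W _
    haveI : QuasiIso (ηc F η X) := quasiIso_ηc F η X fun i => hη _ fun a ha => by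
      obtain ⟨N, hN⟩ := (hX a ha).resolve_left (List.not_mem_nil)
      exact ⟨N, smul_eq_zero_of_kills hN i⟩
    haveI : IsIso (DerivedCategory.Q.map (ηc F η X)) := (DerivedCategory.isIso_Q_map_iff_quasiIso _ _).2 inferInstance
    exact ⟨fun _ _ h => (cancel_mono _).1 h, fun φ => ⟨φ ≫ inv (DerivedCategory.Q.map (ηc F η X)), by simp⟩⟩
  | cons a l ih =>
    intro X hX hl W hW
    let g : X ⟶ X := a • 𝟙 X
    let T := DerivedCategory.Q.mapTriangle.obj (mappingCone.triangle g)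
    let T' := DerivedCategory.Q.mapTriangle.obj (mappingCone.triangle ((Fc F).map g))
    let m := DerivedCategory.Q.mapTriangle.map
      (mappingCone.triangleMap g ((Fc F).map g) (ηc F η X) (ηc F η X) (ηc_naturality F η g))
    have hT : Triangle.mk (a • 𝟙 (DerivedCategory.Q.obj X)) T.mor₂ T.mor₃ ∈ distTriang (Dual.D A) := by
      have h := DerivedCategory.mappingCone_triangle_distinguished g
      rw [← Q_smul_id]
      exact h
    have hT' : Triangle.mk (a • 𝟙 (DerivedCategory.Q.obj ((Fc F).obj X))) T'.mor₂ T'.mor₃ ∈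
        distTriang (Dual.D A) := by
      have h := DerivedCategory.mappingCone_triangle_distinguished ((Fc F).map g)
      rw [← Q_smul_id, ← map_smul_id]
      exact h
    have hk := kills_cone hT
    have hcone : ∀ b ∈ L, b ∈ l ∨ ∃ N : ℕ, Kills (b ^ N) (DerivedCategory.Q.obj (mappingCone g)) := by
      intro b hb
      rcases hX b hb with h | ⟨N, hN⟩
      · rcases List.mem_cons.1 h with rfl | h
        · exact Or.inr ⟨2, by rw [pow_two]; exact hk.1⟩
        · exact Or.inl h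
      · exact Or.inr ⟨N + N, by rw [pow_add]; exact hk.2 _ hN⟩
    refine bijective_step (P := fun W => ∀ b ∈ L, Kills b W) (fun W h => h a (hl a (List.mem_cons_self ..)))
      (fun W n h b hb => kills_shift (h b hb) n) hT hT' (DerivedCategory.Q.map (ηc F η X)) m.hom₃ m.comm₂ m.comm₃
      (fun W' hW' => ?_) W hW
    have h3 : m.hom₃ = DerivedCategory.Q.map (ηc F η (mappingCone g)) ≫
        DerivedCategory.Q.map (mappingCone.mapHomologicalComplexIso g F).hom := by
      rw [← Functor.map_comp, ηc_cone]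
      rfl
    have hb := ih (mappingCone g) hcone (fun b hb => hl b (List.mem_cons_of_mem _ hb)) W' hW'
    rw [h3]
    haveI : IsIso (DerivedCategory.Q.map (mappingCone.mapHomologicalComplexIso g F).hom) := inferInstance
    have h2 : Function.Bijective fun φ : W' ⟶ DerivedCategory.Q.obj ((Fc F).obj (mappingCone g)) =>
        φ ≫ DerivedCategory.Q.map (mappingCone.mapHomologicalComplexIso g F).hom :=
      ⟨fun _ _ h => (cancel_mono _).1 h,
        fun φ => ⟨φ ≫ inv (DerivedCategory.Q.map (mappingCone.mapHomologicalComplexIso g F).hom), by simp⟩⟩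
    have := h2.comp hb
    simp only [Function.comp_def, Category.assoc] at this
    exact this

end Induction

section Cone

variable {X Y Z : Dual.D A} {u : X ⟶ Y} {b : Y ⟶ Z} {c : Z ⟶ X⟦(1 : ℤ)⟧}
  (hT : Triangle.mk u b c ∈ distTriang (Dual.D A))

include hT in
/-- No maps into the cone. -/
lemma hom_cone_eq_zero {P : Dual.D A → Prop} (hPs : ∀ W (n : ℤ), P W → P (W⟦n⟧))
    (h : ∀ W, P W → Function.Bijective fun φ : W ⟶ X => φ ≫ u) {W : Dual.D A} (hW : P W) (φ : W ⟶ Z) :
    φ = 0 := by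
  have h1 : φ ≫ c = 0 := by
    let ε : (W⟦(-1 : ℤ)⟧)⟦(1 : ℤ)⟧ ≅ W :=
      (shiftFunctorCompIsoId (Dual.D A) (-1 : ℤ) 1 (by omega)).app W
    obtain ⟨ψ, hψ⟩ := (CategoryTheory.shiftFunctor (Dual.D A) (1 : ℤ)).map_surjective (ε.hom ≫ φ ≫ c)
    have h0 : ψ ≫ u = 0 := (CategoryTheory.shiftFunctor (Dual.D A) (1 : ℤ)).map_injective (by
      have hz : c ≫ u⟦(1 : ℤ)⟧' = 0 := comp_distTriang_mor_zero₃₁ _ hT
      rw [Functor.map_comp, hψ, Category.assoc, Category.assoc, hz, comp_zero, comp_zero, Functor.map_zero])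
    have h2 : ψ = 0 := (h _ (hPs W (-1) hW)).1 (h0.trans zero_comp.symm)
    rw [h2, Functor.map_zero] at hψ
    exact (cancel_epi ε.hom).1 (hψ.symm.trans comp_zero.symm)
  obtain ⟨a, ha⟩ := Triangle.coyoneda_exact₃ _ hT φ h1
  obtain ⟨a', ha'⟩ := (h W hW).2 a
  have hub : u ≫ b = 0 := comp_distTriang_mor_zero₁₂ _ hT
  let a₀ : W ⟶ Y := a
  calc φ = a₀ ≫ b := ha
    _ = (a' ≫ u) ≫ b := congrArg (· ≫ b) ha'.symm
    _ = 0 := by rw [Category.assoc, hub, comp_zero]

include hT in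
/-- No maps into the cone gives bijectivity. -/
lemma bijective_of_cone {W : Dual.D A} (h : ∀ φ : W ⟶ Z, φ = 0) (h' : ∀ φ : W⟦(1 : ℤ)⟧ ⟶ Z, φ = 0) :
    Function.Bijective fun φ : W ⟶ X => φ ≫ u := by
  refine ⟨fun φ φ' e => sub_eq_zero.1 ?_, fun φ => ?_⟩
  · have h0 : (φ - φ') ≫ u = 0 := by rw [Preadditive.sub_comp]; exact sub_eq_zero.2 e
    generalize φ - φ' = φ at h0
    obtain ⟨g, hg⟩ := Triangle.coyoneda_exact₁ _ hT (φ⟦(1 : ℤ)⟧') (by
      show φ⟦(1 : ℤ)⟧' ≫ u⟦(1 : ℤ)⟧' = 0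
      rw [← Functor.map_comp, h0, Functor.map_zero])
    refine (CategoryTheory.shiftFunctor (Dual.D A) (1 : ℤ)).map_injective ?_
    rw [Functor.map_zero]
    exact hg.trans ((congrArg (· ≫ c) (h' g)).trans zero_comp)
  · obtain ⟨g, hg⟩ := Triangle.coyoneda_exact₂ _ hT φ (h _)
    exact ⟨g, hg.symm⟩

end Cone


section Union

variable (J : DRing.Cx A) [J.IsKInjective] (M : ModuleCat.{u} A)

/-- `M` in degree zero. -/
noncomputable abbrev S₀ : DRing.Cx A := (HomologicalComplex.single (ModuleCat.{u} A) (ComplexShape.up ℤ) 0).obj M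

/-- Every cycle is a boundary. -/
def Bdry (M : ModuleCat.{u} A) (J : DRing.Cx A) : Prop :=
  ∀ φ : M ⟶ J.X 0, φ ≫ J.d 0 1 = 0 → ∃ ψ : M ⟶ J.X (-1), ψ ≫ J.d (-1) 0 = φ

lemma bdry_iff : Bdry M J ↔ ∀ φ : DerivedCategory.Q.obj (S₀ M) ⟶ DerivedCategory.Q.obj J, φ = 0 := by
  let s := HomologicalComplex.singleObjXSelf (ComplexShape.up ℤ) (0 : ℤ) M
  constructor
  · intro h φ
    let e := DerivedCategory.quotientCompQhIso (ModuleCat.{u} A)
    obtain ⟨ξ, hξ⟩ := (Qmap_bijective J).2 (e.hom.app (S₀ M) ≫ φ ≫ e.inv.app J)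
    obtain ⟨g, rfl⟩ := (HomotopyCategory.quotient _ _).map_surjective ξ
    obtain ⟨ψ, hψ⟩ := h (s.inv ≫ g.f 0) (by
      rw [Category.assoc, g.comm, HomologicalComplex.single_obj_d, zero_comp, comp_zero])
    have hg : Homotopy g 0 := by
      let k : ∀ i j, (ComplexShape.up ℤ).Rel j i → ((S₀ M).X i ⟶ J.X j) := fun i j hji =>
        if hi : i = 0 then eqToHom (by subst hi; rfl) ≫ s.hom ≫ ψ ≫ eqToHom (by
          change j + 1 = i at hji
          rw [show j = -1 by omega])
        else 0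
      have hrel : (ComplexShape.up ℤ).Rel (-1) 0 := by change (-1 : ℤ) + 1 = 0; omega
      have hk : g = Homotopy.nullHomotopicMap' k := by
        refine HomologicalComplex.from_single_hom_ext ?_
        rw [Homotopy.nullHomotopicMap'_f hrel (show (ComplexShape.up ℤ).Rel 0 1 from rfl) k,
          HomologicalComplex.single_obj_d, zero_comp, zero_add]
        simp only [k, dif_pos, eqToHom_refl, Category.id_comp, Category.comp_id, Category.assoc]
        rw [hψ, Iso.hom_inv_id_assoc]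
      rw [hk]
      exact Homotopy.nullHomotopy' k
    have h1 : DerivedCategory.Qh.map ((HomotopyCategory.quotient _ _).map g) = 0 := by
      rw [HomotopyCategory.eq_of_homotopy _ _ hg, Functor.map_zero, Functor.map_zero]
    refine (cancel_epi (e.hom.app (S₀ M))).1 ((cancel_mono (e.inv.app J)).1 ?_)
    rw [comp_zero, zero_comp, Category.assoc, ← hξ]
    exact h1
  · intro h φ hφ
    let g : S₀ M ⟶ J := HomologicalComplex.mkHomFromSingle φ fun j hj => by
      change (0 : ℤ) + 1 = j at hj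
      subst hj
      exact hφ
    let e := DerivedCategory.quotientCompQhIso (ModuleCat.{u} A)
    have hn := e.hom.naturality g
    rw [h (DerivedCategory.Q.map g), comp_zero] at hn
    have h0 : DerivedCategory.Qh.map ((HomotopyCategory.quotient _ _).map g) = 0 :=
      (cancel_mono (e.hom.app J)).1 (hn.trans zero_comp.symm)
    have h1 : (HomotopyCategory.quotient _ _).map g = (HomotopyCategory.quotient _ _).map 0 :=
      (Qmap_bijective J).1 (by
        show DerivedCategory.Qh.map _ = DerivedCategory.Qh.map _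
        rw [h0, Functor.map_zero, Functor.map_zero])
    let H := HomotopyCategory.homotopyOfEq _ _ h1
    refine ⟨s.inv ≫ H.hom 0 (-1), ?_⟩
    have hc := H.comm 0
    rw [dNext_eq H.hom (show (ComplexShape.up ℤ).Rel 0 1 from rfl),
      prevD_eq H.hom (show (ComplexShape.up ℤ).Rel (-1) 0 by change (-1 : ℤ) + 1 = 0; omega),
      HomologicalComplex.single_obj_d, zero_comp, zero_add, HomologicalComplex.zero_f, add_zero] at hc
    rw [Category.assoc, ← hc, HomologicalComplex.mkHomFromSingle_f, Iso.inv_hom_id_assoc]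

omit [J.IsKInjective] in
/-- Boundaries glue along an exhaustion. -/
lemma bdry_of_union {M : Type u} [AddCommGroup M] [Module A M] (S : ℕ → Submodule A M) (hS : Monotone S)
    (hU : ∀ x : M, ∃ n, x ∈ S n) (hJ : InjTerms J)
    (h0 : ∀ n, Bdry (ModuleCat.of A (S n)) J)
    (h1 : ∀ n (χ : S n →ₗ[A] J.X (-1)), (J.d (-1) 0).hom ∘ₗ χ = 0 →
      ∃ ξ : S n →ₗ[A] J.X (-2), (J.d (-2) (-1)).hom ∘ₗ ξ = χ) :
    Bdry (ModuleCat.of A M) J := by
  intro φ hφ
  have hex : ∀ n, ∃ ψ : S n →ₗ[A] J.X (-1), (J.d (-1) 0).hom ∘ₗ ψ = φ.hom ∘ₗ (S n).subtype := fun n => by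
    obtain ⟨ψ, hψ⟩ := h0 n (ModuleCat.ofHom (S n).subtype ≫ φ) (by rw [Category.assoc, hφ, comp_zero])
    exact ⟨ψ.hom, congrArg ModuleCat.Hom.hom hψ⟩
  have step : ∀ n (ψ : S n →ₗ[A] J.X (-1)), (J.d (-1) 0).hom ∘ₗ ψ = φ.hom ∘ₗ (S n).subtype →
      ∃ ψ' : S (n + 1) →ₗ[A] J.X (-1), (J.d (-1) 0).hom ∘ₗ ψ' = φ.hom ∘ₗ (S (n + 1)).subtype ∧
        ψ' ∘ₗ Submodule.inclusion (hS (Nat.le_succ n)) = ψ := by
    intro n ψ hψ
    obtain ⟨ψ₁, hψ₁⟩ := hex (n + 1)
    let incl := Submodule.inclusion (hS (Nat.le_succ n))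
    obtain ⟨ξ, hξ⟩ := h1 n (ψ - ψ₁ ∘ₗ incl) (by
      rw [LinearMap.comp_sub, hψ, ← LinearMap.comp_assoc, hψ₁]
      exact sub_eq_zero.2 rfl)
    haveI := hJ (-2)
    obtain ⟨ξ', hξ'⟩ := Module.Injective.out incl (Submodule.inclusion_injective _) ξ
    refine ⟨ψ₁ + (J.d (-2) (-1)).hom ∘ₗ ξ', ?_, ?_⟩
    · rw [LinearMap.comp_add, hψ₁, ← LinearMap.comp_assoc, ← ModuleCat.hom_comp, HomologicalComplex.d_comp_d,
        ModuleCat.hom_zero, LinearMap.zero_comp, add_zero]
    · refine LinearMap.ext fun x => ?_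
      have hx : (J.d (-2) (-1)).hom (ξ x) = ψ x - ψ₁ (incl x) := LinearMap.congr_fun hξ x
      show ψ₁ (incl x) + (J.d (-2) (-1)).hom (ξ' (incl x)) = ψ x
      rw [hξ' x, hx, add_sub_cancel]
  choose nxt hnxt₁ hnxt₂ using step
  let seq : ∀ n, {ψ : S n →ₗ[A] J.X (-1) // (J.d (-1) 0).hom ∘ₗ ψ = φ.hom ∘ₗ (S n).subtype} := fun n =>
    Nat.rec ⟨(hex 0).choose, (hex 0).choose_spec⟩ (fun n p => ⟨nxt n p.1 p.2, hnxt₁ n p.1 p.2⟩) n
  have hsucc : ∀ n (x : S n), (seq (n + 1)).1 (Submodule.inclusion (hS (Nat.le_succ n)) x) = (seq n).1 x :=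
    fun n x => LinearMap.congr_fun (hnxt₂ n (seq n).1 (seq n).2) x
  have hmono : ∀ n m (h : n ≤ m) (x : S n), (seq m).1 (Submodule.inclusion (hS h) x) = (seq n).1 x := by
    intro n m h
    induction m, h using Nat.le_induction with
    | base => intro x; rfl
    | succ m h ih => intro x; exact (hsucc m (Submodule.inclusion (hS h) x)).trans (ih x)
  choose deg hdeg using hU
  let v : M → J.X (-1) := fun x => (seq (deg x)).1 ⟨x, hdeg x⟩
  have hv : ∀ n (x : M) (hx : x ∈ S n), (seq n).1 ⟨x, hx⟩ = v x := by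
    intro n x hx
    exact (hmono n (max n (deg x)) (le_max_left _ _) ⟨x, hx⟩).symm.trans
      (hmono (deg x) (max n (deg x)) (le_max_right _ _) ⟨x, hdeg x⟩)
  let Ψ : M →ₗ[A] J.X (-1) :=
    { toFun := v
      map_add' := fun x y => by
        let n := max (deg x) (deg y)
        have hx : x ∈ S n := hS (le_max_left _ _) (hdeg x)
        have hy : y ∈ S n := hS (le_max_right _ _) (hdeg y)
        rw [← hv n x hx, ← hv n y hy, ← hv n (x + y) (add_mem hx hy), ← map_add]
        rfl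
      map_smul' := fun a x => by
        rw [← hv (deg x) (a • x) ((S (deg x)).smul_mem a (hdeg x)), RingHom.id_apply, ← map_smul]
        rfl }
  refine ⟨ModuleCat.ofHom Ψ, ModuleCat.hom_ext (LinearMap.ext fun x => ?_)⟩
  exact LinearMap.congr_fun (seq (deg x)).2 ⟨x, hdeg x⟩

end Union

/-- No maps out of an exhausted module. -/
theorem eq_zero_of_union (C : Dual.D A) {M : Type u} [AddCommGroup M] [Module A M] (S : ℕ → Submodule A M)
    (hS : Monotone S) (hU : ∀ x : M, ∃ n, x ∈ S n)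
    (h : ∀ n (i : ℤ) (φ : (Dual.inD A (S n))⟦i⟧ ⟶ C), φ = 0) (i : ℤ) (φ : (Dual.inD A M)⟦i⟧ ⟶ C) : φ = 0 := by
  let e := DerivedCategory.singleFunctorIsoCompQ (ModuleCat.{u} A) 0
  have key : ∀ (N : Type u) [AddCommGroup N] [Module A N] (D : Dual.D A) (J : DRing.Cx A) [J.IsKInjective],
      (DerivedCategory.Q.obj J ≅ D) → ((∀ ψ : Dual.inD A N ⟶ D, ψ = 0) ↔ Bdry (ModuleCat.of A N) J) := by
    intro N _ _ D J _ eJ
    rw [bdry_iff]
    constructor
    · intro hD ψ
      have := hD ((e.app (ModuleCat.of A N)).hom ≫ ψ ≫ eJ.hom)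
      exact (cancel_mono eJ.hom).1 ((cancel_epi (e.app (ModuleCat.of A N)).hom).1
        (this.trans ((congrArg _ zero_comp).trans comp_zero).symm))
    · intro hD ψ
      have := hD ((e.app (ModuleCat.of A N)).inv ≫ ψ ≫ eJ.inv)
      exact (cancel_mono eJ.inv).1 ((cancel_epi (e.app (ModuleCat.of A N)).inv).1
        (this.trans ((congrArg _ zero_comp).trans comp_zero).symm))
  have adj : ∀ (N : Type u) [AddCommGroup N] [Module A N] (k : ℤ),
      (∀ ψ : (Dual.inD A N)⟦k⟧ ⟶ C, ψ = 0) ↔ ∀ ψ : Dual.inD A N ⟶ C⟦-k⟧, ψ = 0 := by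
    intro N _ _ k
    let E := (shiftEquiv' (Dual.D A) k (-k) (by omega)).toAdjunction.homEquiv (Dual.inD A N) C
    exact ⟨fun hk ψ => E.symm.injective ((hk _).trans (hk _).symm),
      fun hk ψ => E.injective ((hk _).trans (hk _).symm)⟩
  obtain ⟨J, hJ, hinj, ⟨eJ⟩⟩ := exists_injRep (C⟦-i⟧)
  haveI := hJ
  haveI : (J⟦(-1 : ℤ)⟧).IsKInjective := inferInstance
  let eJ' : DerivedCategory.Q.obj (J⟦(-1 : ℤ)⟧) ≅ C⟦-(i + 1)⟧ :=
    (DerivedCategory.Q.commShiftIso (-1 : ℤ)).app J ≪≫ (shiftFunctor (Dual.D A) (-1 : ℤ)).mapIso eJ ≪≫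
      ((CategoryTheory.shiftFunctorAdd' (Dual.D A) (-i) (-1) (-(i + 1)) (by omega)).app C).symm
  refine (adj M i).2 ((key M _ J eJ).2 (bdry_of_union J S hS hU hinj
    (fun n => (key (S n) _ J eJ).1 ((adj (S n) i).1 (h n i))) fun n χ hχ => ?_)) φ
  obtain ⟨ξ, hξ⟩ := (key (S n) _ _ eJ').1 ((adj (S n) (i + 1)).1 (h n (i + 1))) (ModuleCat.ofHom χ) (by
    rw [CochainComplex.shiftFunctor_obj_d']
    refine (Linear.comp_units_smul ..).trans ?_
    refine ModuleCat.hom_ext (LinearMap.ext fun x => ?_)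
    show (Int.negOnePow (-1)) • (J.d (-1) 0).hom (χ x) = 0
    rw [show (J.d (-1) 0).hom (χ x) = 0 from LinearMap.congr_fun hχ x, smul_zero])
  rw [CochainComplex.shiftFunctor_obj_d'] at hξ
  let ξ' : ModuleCat.of A (S n) ⟶ J.X (-2) := ξ
  have e1 : ((Int.negOnePow (-1)) • ξ') ≫ J.d (-2) (-1) = ModuleCat.ofHom χ :=
    (Linear.units_smul_comp ..).trans ((Linear.comp_units_smul ..).symm.trans hξ)
  exact ⟨_, congrArg ModuleCat.Hom.hom e1⟩

section BaseChange

variable {B : Type u} [CommRing B] [Algebra A B] {I : Ideal A}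
  (hs : Function.Surjective ((Ideal.Quotient.mk (I.map (algebraMap A B))).comp (algebraMap A B)))
  (hk : RingHom.ker ((Ideal.Quotient.mk (I.map (algebraMap A B))).comp (algebraMap A B)) = I)

include hs hk in
lemma bijective_tmul_one_of_killed {H : Type u} [AddCommGroup H] [Module A H] (hH : ∀ a ∈ I, ∀ x : H, a • x = 0) :
    Function.Bijective fun x : H => (1 : B) ⊗ₜ[A] x := by
  have sep : ∀ b : B, ∃ a : A, b - algebraMap A B a ∈ I.map (algebraMap A B) := fun b => by
    obtain ⟨a, ha⟩ := hs (Ideal.Quotient.mk _ b)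
    exact ⟨a, (Ideal.Quotient.mk_eq_mk_iff_sub_mem _ _).1 ha.symm⟩
  choose a ha using sep
  have spec : ∀ b c, b - algebraMap A B c ∈ I.map (algebraMap A B) → ∀ x : H, a b • x = c • x := fun b c hc x => by
    rw [← sub_eq_zero, ← sub_smul]
    refine hH _ ?_ x
    rw [← hk, RingHom.mem_ker, RingHom.comp_apply, Ideal.Quotient.eq_zero_iff_mem, map_sub,
      show algebraMap A B (a b) - algebraMap A B c = (b - algebraMap A B c) - (b - algebraMap A B (a b)) by ring]
    exact sub_mem hc (ha b)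
  let μ : B →ₗ[A] H →ₗ[A] H := LinearMap.mk₂ A (fun b x => a b • x)
    (fun b b' x => by
      rw [← add_smul]
      exact spec _ _ (by rw [map_add, add_sub_add_comm]; exact add_mem (ha b) (ha b')) x)
    (fun r b x => by
      rw [smul_smul]
      exact spec _ _ (by rw [map_mul, Algebra.smul_def, ← mul_sub]; exact Ideal.mul_mem_left _ _ (ha b)) x)
    (fun b x y => smul_add _ _ _) (fun r b x => smul_comm _ _ _)
  refine ⟨fun x y hxy => ?_, fun y => ?_⟩
  · have h1 : ∀ x : H, TensorProduct.lift μ ((1 : B) ⊗ₜ[A] x) = x := fun x => by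
      show a 1 • x = x
      rw [spec 1 1 (by rw [map_one, sub_self]; exact zero_mem _) x, one_smul]
    rw [← h1 x, ← h1 y]
    exact congrArg _ hxy
  · induction y using TensorProduct.induction_on with
    | zero => exact ⟨0, TensorProduct.tmul_zero _ _⟩
    | add y z hy hz =>
      obtain ⟨p, rfl⟩ := hy
      obtain ⟨q, rfl⟩ := hz
      exact ⟨p + q, TensorProduct.tmul_add _ _ _⟩
    | tmul b x =>
      refine ⟨a b • x, ?_⟩
      show (1 : B) ⊗ₜ[A] (a b • x) = b ⊗ₜ[A] x
      rw [← TensorProduct.smul_tmul, ← Algebra.algebraMap_eq_smul_one, ← sub_eq_zero, ← TensorProduct.sub_tmul,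
        ← neg_sub, TensorProduct.neg_tmul, TorsionBC7.tmul_eq_zero (fun r hr => hH r hr x) (ha b), neg_zero]

include hs hk in
lemma bijective_tmul_one [Module.Flat A B] : ∀ (n : ℕ) (H : Type u) [AddCommGroup H] [Module A H],
    (∀ a ∈ I ^ n, ∀ x : H, a • x = 0) → Function.Bijective fun x : H => (1 : B) ⊗ₜ[A] x := by
  intro n
  induction n with
  | zero =>
    intro H _ _ hH
    haveI : Subsingleton H := ⟨fun x y => by
      rw [← one_smul A x, ← one_smul A y, hH 1 (by simp) x, hH 1 (by simp) y]⟩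
    haveI : Subsingleton (B ⊗[A] H) := ⟨fun x y => by
      have : ∀ z : B ⊗[A] H, z = 0 := fun z => by
        induction z using TensorProduct.induction_on with
        | zero => rfl
        | add y z hy hz => rw [hy, hz, add_zero]
        | tmul b x => rw [Subsingleton.elim x 0, TensorProduct.tmul_zero]
      rw [this x, this y]⟩
    exact ⟨fun x y _ => Subsingleton.elim x y, fun y => ⟨0, Subsingleton.elim _ _⟩⟩
  | succ n ih =>
    intro H _ _ hH
    let K : Submodule A H := I • ⊤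
    have hK : ∀ a ∈ I ^ n, ∀ x : K, a • x = 0 := fun a ha x => Subtype.ext (by
      refine Submodule.smul_induction_on' (p := fun y _ => a • y = 0) x.2 (fun r hr m _ => ?_)
        (fun y _ z _ hy hz => by rw [smul_add, hy, hz, add_zero])
      rw [smul_smul]
      exact hH _ (by rw [pow_succ]; exact Ideal.mul_mem_mul ha hr) m)
    have hQ : ∀ a ∈ I, ∀ x : H ⧸ K, a • x = 0 := fun a ha x => by
      obtain ⟨x, rfl⟩ := K.mkQ_surjective x
      rw [← map_smul]
      exact (Submodule.Quotient.mk_eq_zero K).2 (Submodule.smul_mem_smul ha Submodule.mem_top)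
    let t : ∀ (M : Type u) [AddCommGroup M] [Module A M], M →ₗ[A] B ⊗[A] M := fun M _ _ => TensorProduct.mk A B M 1
    have h1 : Function.Exact K.subtype K.mkQ := LinearMap.exact_subtype_mkQ K
    have h2 : Function.Exact (K.subtype.lTensor B) (K.mkQ.lTensor B) := Module.Flat.lTensor_exact B h1
    have hinj : Function.Injective (K.subtype.lTensor B) :=
      Module.Flat.lTensor_preserves_injective_linearMap _ K.subtype_injective
    refine ⟨(injective_iff_map_eq_zero (t H)).2 fun x hx => ?_, fun y => ?_⟩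
    · have hx' : t (H ⧸ K) (K.mkQ x) = 0 := (congrArg (K.mkQ.lTensor B) hx).trans (map_zero _)
      obtain ⟨k, rfl⟩ := (h1 x).1 ((bijective_tmul_one_of_killed hs hk hQ).1
        (hx'.trans (TensorProduct.tmul_zero _ _).symm))
      have hk0 : t K k = 0 := hinj (hx.trans (map_zero _).symm)
      rw [(ih K hK).1 (hk0.trans (TensorProduct.tmul_zero _ _).symm), map_zero]
    · obtain ⟨q, hq⟩ := (bijective_tmul_one_of_killed hs hk hQ).2 (K.mkQ.lTensor B y)
      obtain ⟨x, rfl⟩ := K.mkQ_surjective q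
      obtain ⟨z, hz⟩ := (h2 (y - t H x)).1 (by rw [map_sub, ← hq]; exact sub_eq_zero.2 rfl)
      obtain ⟨k, rfl⟩ := (ih K hK).2 z
      refine ⟨x + k.1, ?_⟩
      show t H (x + k.1) = y
      rw [map_add]
      exact (eq_sub_iff_add_eq'.1 hz)

section Final

/-- An adjunction with additive right adjoint gives additive bijections. -/
noncomputable def adjAdd {C D : Type*} [Category C] [Category D] [Preadditive C] [Preadditive D] {L : C ⥤ D}
    {R : D ⥤ C} [R.Additive] (adj : L ⊣ R) (X : C) (Y : D) : (L.obj X ⟶ Y) ≃+ (X ⟶ R.obj Y) where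
  toEquiv := adj.homEquiv X Y
  map_add' f g := by
    simp only [Equiv.toFun_as_coe, Adjunction.homEquiv_unit, Functor.map_add, Preadditive.comp_add]

/-- Extension of scalars is the tensor product. -/
noncomputable def objIso {B : Type u} [CommRing B] (φ : A →+* B) (M : Type u) [AddCommGroup M] [Module A M] :
    letI := φ.toAlgebra
    (ModuleCat.extendScalars.{u, u, u} φ).obj (ModuleCat.of A M) ≅ ModuleCat.of B (B ⊗[A] M) :=
  letI := φ.toAlgebra
  LinearEquiv.toModuleIso (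
    { toFun := fun v => v
      invFun := fun v => v
      map_add' := fun _ _ => rfl
      map_smul' := fun r v => rfl
      left_inv := fun _ => rfl
      right_inv := fun _ => rfl } :
      ↑((ModuleCat.extendScalars.{u, u, u} φ).obj (ModuleCat.of A M)) ≃ₗ[B] (B ⊗[A] M))

lemma kills_inD {g : A} {M : Type u} [AddCommGroup M] [Module A M] (h : ∀ x : M, g • x = 0) :
    Kills g (Dual.inD A M) := by
  have h1 : g • 𝟙 (ModuleCat.of A M) = 0 := ModuleCat.hom_ext (LinearMap.ext h)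
  show g • 𝟙 ((DerivedCategory.singleFunctor (ModuleCat.{u} A) 0).obj (ModuleCat.of A M)) = 0
  rw [← CategoryTheory.Functor.map_id, ← Functor.map_smul, h1, Functor.map_zero]

include hs hk in
theorem nonempty_ext_baseChange [Module.Flat A B] (hI : I.FG) (M N : Type u) [AddCommGroup M] [Module A M]
    [AddCommGroup N] [Module A N] (hM : LocCoh.IsPowerTorsion I M) (i : ℤ) :
    Nonempty ((Dual.inD A M ⟶ (Dual.inD A N)⟦i⟧) ≃+
      (Dual.inD B (B ⊗[A] M) ⟶ (Dual.inD B (B ⊗[A] N))⟦i⟧)) := by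
  obtain ⟨φ, rfl⟩ : ∃ φ : A →+* B, ‹Algebra A B› = φ.toAlgebra := ⟨_, Algebra.algebra_ext _ _ fun _ => rfl⟩
  letI := φ.toAlgebra
  let E := ModuleCat.extendScalars.{u, u, u} φ
  let R := ModuleCat.restrictScalars.{u} φ
  have hflat : φ.Flat := RingHom.flat_algebraMap_iff.2 inferInstance
  haveI : PreservesFiniteLimits E := ModuleCat.preservesFiniteLimits_extendScalars_of_flat hflat
  haveI : E.IsLeftAdjoint := (ModuleCat.extendRestrictScalarsAdj φ).isLeftAdjoint
  haveI : PreservesFiniteColimits E := inferInstance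
  haveI : PreservesFiniteLimits R := inferInstance
  haveI : PreservesFiniteColimits R := inferInstance
  let F := E ⋙ R
  haveI : PreservesFiniteLimits F := comp_preservesFiniteLimits E R
  haveI : PreservesFiniteColimits F := comp_preservesFiniteColimits E R
  haveI : F.Linear A :=
    { map_smul := fun {X Y} g a => ModuleCat.hom_ext (LinearMap.ext fun v => by
        induction v using TensorProduct.induction_on with
        | zero => exact (map_zero _).trans (map_zero _).symm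
        | add v w hv hw => exact (map_add _ _ _).trans ((congrArg₂ (· + ·) hv hw).trans (map_add _ _ _).symm)
        | tmul b x =>
          show (show B from b) ⊗ₜ[A] (a • g.hom x) = (φ a * (show B from b)) ⊗ₜ[A] g.hom x
          exact (TensorProduct.smul_tmul a _ _).symm) }
  let η : 𝟭 (ModuleCat.{u} A) ⟶ F := (ModuleCat.extendRestrictScalarsAdj φ).unit
  obtain ⟨s, hs'⟩ := id hI
  have hu : ∀ {H : ModuleCat.{u} A} (x : H), (η.app H).hom x = (1 : B) ⊗ₜ[A] x := fun x => rfl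
  have hη : ∀ (n : ℕ) (H : ModuleCat.{u} A),
      (∀ a ∈ s.toList.map (· ^ n), ∃ N : ℕ, ∀ x : H, a ^ N • x = 0) → IsIso (η.app H) := by
    intro n H hH
    have hrad : I ≤ (Module.annihilator A H).radical := by
      rw [← hs', Submodule.span_le]
      intro a ha
      obtain ⟨N, hN⟩ := hH _ (List.mem_map.2 ⟨a, Finset.mem_toList.2 ha, rfl⟩)
      exact ⟨n * N, Module.mem_annihilator.2 fun x => by rw [pow_mul]; exact hN x⟩
    obtain ⟨k, hk'⟩ := Ideal.exists_pow_le_of_le_radical_of_fg hrad hI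
    rw [ConcreteCategory.isIso_iff_bijective]
    have hb := bijective_tmul_one (B := B) hs hk k H fun a ha x => Module.mem_annihilator.1 (hk' ha) x
    refine ⟨fun x y h => hb.1 ?_, fun y => ?_⟩
    · exact (hu x).symm.trans (h.trans (hu y))
    · obtain ⟨x, hx⟩ := hb.2 y
      exact ⟨x, (hu x).trans hx⟩
  let X : DRing.Cx A := S₀ (ModuleCat.of A N)
  let S : ℕ → Submodule A M := fun n => Submodule.torsionBySet A M ((I ^ n : Ideal A) : Set A)
  have hbij : ∀ (n : ℕ) (j : ℤ), Function.Bijective fun ψ : (Dual.inD A (S n))⟦j⟧ ⟶ DerivedCategory.Q.obj X =>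
      ψ ≫ DerivedCategory.Q.map (ηc F η X) := by
    intro n j
    refine bijective_comp_η F η (s.toList.map (· ^ n)) (hη n) _ X (fun a ha => Or.inl ha) (fun a ha => ha) _
      fun a ha => kills_shift (kills_inD fun x => ?_) j
    obtain ⟨b, hb, rfl⟩ := List.mem_map.1 ha
    refine Subtype.ext ((Submodule.mem_torsionBySet_iff _ _).1 x.2 ⟨b ^ n, ?_⟩)
    exact Ideal.pow_mem_pow (hs' ▸ Submodule.subset_span (Finset.mem_toList.1 hb)) n
  have hT := DerivedCategory.mappingCone_triangle_distinguished (ηc F η X)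
  let P : Dual.D A → Prop := fun W => ∃ (n : ℕ) (j : ℤ), Nonempty (W ≅ (Dual.inD A (S n))⟦j⟧)
  have hPs : ∀ W (k : ℤ), P W → P (W⟦k⟧) := by
    intro W k hW
    obtain ⟨n, j, ⟨e⟩⟩ := hW
    exact ⟨n, j + k, ⟨(CategoryTheory.shiftFunctor (Dual.D A) k).mapIso e ≪≫
      ((shiftFunctorAdd (Dual.D A) j k).app _).symm⟩⟩
  have hPbij : ∀ W, P W → Function.Bijective fun ψ : W ⟶ DerivedCategory.Q.obj X =>
      ψ ≫ DerivedCategory.Q.map (ηc F η X) := by
    intro W hW
    obtain ⟨n, j, ⟨e⟩⟩ := hW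
    have h1 := (e.symm.homCongr (Iso.refl (DerivedCategory.Q.obj ((Fc F).obj X)))).bijective.comp
      ((hbij n j).comp (e.homCongr (Iso.refl (DerivedCategory.Q.obj X))).bijective)
    simpa [Function.comp_def, Iso.homCongr] using h1
  have hzero : ∀ (j : ℤ) (ψ : (Dual.inD A M)⟦j⟧ ⟶ DerivedCategory.Q.obj (mappingCone (ηc F η X))), ψ = 0 := by
    refine fun j ψ => eq_zero_of_union _ S (fun m n h => Submodule.torsionBySet_le_torsionBySet_of_subset
      (Ideal.pow_le_pow_right h)) (fun x => ?_)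
      (fun n k ξ => hom_cone_eq_zero hT hPs hPbij ⟨n, k, ⟨Iso.refl _⟩⟩ ξ) j ψ
    obtain ⟨n, hn⟩ := hM x
    exact ⟨n, (Submodule.mem_torsionBySet_iff _ _).2 fun a => hn a.1 a.2⟩
  have hfin : ∀ j : ℤ, Function.Bijective fun ψ : (Dual.inD A M)⟦j⟧ ⟶ DerivedCategory.Q.obj X =>
      ψ ≫ DerivedCategory.Q.map (ηc F η X) := fun j =>
    bijective_of_cone hT (hzero j) fun ξ => by
      have h := hzero (j + 1) (((shiftFunctorAdd (Dual.D A) j 1).app _).hom ≫ ξ)
      exact (cancel_epi ((shiftFunctorAdd (Dual.D A) j 1).app (Dual.inD A M)).hom).1 (h.trans comp_zero.symm)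
  let adjC := Groth.Agent.KFlatLib.adjCx (c := ComplexShape.up ℤ) (ModuleCat.extendRestrictScalarsAdj φ)
  letI : CatCommSq (E.mapHomologicalComplex (ComplexShape.up ℤ)) DerivedCategory.Q DerivedCategory.Q
      E.mapDerivedCategory := ⟨E.mapDerivedCategoryFactors.symm⟩
  letI : CatCommSq (R.mapHomologicalComplex (ComplexShape.up ℤ)) DerivedCategory.Q DerivedCategory.Q
      R.mapDerivedCategory := ⟨R.mapDerivedCategoryFactors.symm⟩
  let adjD : E.mapDerivedCategory ⊣ R.mapDerivedCategory :=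
    adjC.localization DerivedCategory.Q (HomologicalComplex.quasiIso _ (ComplexShape.up ℤ))
      DerivedCategory.Q (HomologicalComplex.quasiIso _ (ComplexShape.up ℤ)) E.mapDerivedCategory R.mapDerivedCategory
  let eN : Dual.inD A N ≅ DerivedCategory.Q.obj X :=
    (DerivedCategory.singleFunctorIsoCompQ (ModuleCat.{u} A) 0).app (ModuleCat.of A N)
  let eFN : R.mapDerivedCategory.obj (E.mapDerivedCategory.obj (Dual.inD A N)) ≅
      DerivedCategory.Q.obj ((Fc F).obj X) :=
    R.mapDerivedCategory.mapIso (E.mapDerivedCategory.mapIso eN ≪≫ E.mapDerivedCategoryFactors.app X) ≪≫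
      R.mapDerivedCategoryFactors.app ((E.mapHomologicalComplex (ComplexShape.up ℤ)).obj X)
  let eM : E.mapDerivedCategory.obj (Dual.inD A M) ≅ Dual.inD B (B ⊗[A] M) :=
    (E.mapDerivedCategorySingleFunctor 0).app (ModuleCat.of A M) ≪≫
      (DerivedCategory.singleFunctor (ModuleCat.{u} B) 0).mapIso (objIso φ M)
  let eN' : E.mapDerivedCategory.obj (Dual.inD A N) ≅ Dual.inD B (B ⊗[A] N) :=
    (E.mapDerivedCategorySingleFunctor 0).app (ModuleCat.of A N) ≪≫
      (DerivedCategory.singleFunctor (ModuleCat.{u} B) 0).mapIso (objIso φ N)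
  haveI : (shiftEquiv' (Dual.D A) (-i) i (neg_add_cancel i)).inverse.Additive :=
    inferInstanceAs ((CategoryTheory.shiftFunctor (Dual.D A) i).Additive)
  let sh : ∀ Y : Dual.D A, ((Dual.inD A M)⟦-i⟧ ⟶ Y) ≃+ (Dual.inD A M ⟶ Y⟦i⟧) := fun Y =>
    adjAdd (shiftEquiv' (Dual.D A) (-i) i (neg_add_cancel i)).toAdjunction _ Y
  let η₂ : ((Dual.inD A M)⟦-i⟧ ⟶ DerivedCategory.Q.obj X) ≃+
      ((Dual.inD A M)⟦-i⟧ ⟶ DerivedCategory.Q.obj ((Fc F).obj X)) :=
    AddEquiv.ofBijective (AddMonoidHom.mk' (fun ψ => ψ ≫ DerivedCategory.Q.map (ηc F η X))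
      fun a b => Preadditive.add_comp _ _ _ _ _ _) (hfin (-i))
  exact ⟨((Linear.homCongr A (Iso.refl _) ((CategoryTheory.shiftFunctor (Dual.D A) i).mapIso eN)).toAddEquiv.trans
    ((sh _).symm.trans (η₂.trans (sh _)))).trans
      (((Linear.homCongr A (Iso.refl _) ((CategoryTheory.shiftFunctor (Dual.D A) i).mapIso eFN.symm ≪≫
        ((R.mapDerivedCategory.commShiftIso i).app _).symm)).toAddEquiv.trans
          (adjAdd adjD (Dual.inD A M) ((E.mapDerivedCategory.obj (Dual.inD A N))⟦i⟧)).symm).trans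
        (Linear.homCongr B eM ((CategoryTheory.shiftFunctor (Dual.D B) i).mapIso eN')).toAddEquiv)⟩

end Final

end BaseChange

end Groth.Agent.RGammaI.TorsionBC
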